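import Mathlib

/-!
# An involution centralizer `2 × S` for `S` symmetric of degree six or seven

The elementary abelian subgroup `E = ⟨t⟩ × ⟨(01), (23), (45)⟩`.
-/

set_option autoImplicit false
set_option linter.style.haveILetI false
set_option linter.unusedSectionVars false
set_option maxRecDepth 100000

namespace Cfsg.Lib.Extra.InvS6

open Subgroup

/-- The eight products of three commuting elements. -/
def cube {S : Type*} [Group S] (a b c : S) : List S := [1, a, b, a * b, c, a * c, b * c, a * b * c]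

/-- What is used of the symmetric factor. -/
structure Base (S : Type*) [Group S] where
  /-- The three transpositions. -/
  r : Fin 3 → S
  central : ∀ x : S, (∀ i, Commute x (r i)) → (∀ y : S, Commute x y) → x = 1
  mul : ∀ x ∈ cube (r 0) (r 1) (r 2), ∀ y ∈ cube (r 0) (r 1) (r 2), x * y ∈ cube (r 0) (r 1) (r 2)
  sq : ∀ x ∈ cube (r 0) (r 1) (r 2), x * x = 1
  nodup : (cube (r 0) (r 1) (r 2)).Nodup
  self : ∀ x : S, (∀ i, Commute x (r i)) → x ∈ cube (r 0) (r 1) (r 2)
  perm : ∀ x : S, (∀ i, x * r i * x⁻¹ ∈ cube (r 0) (r 1) (r 2)) → ∀ i, ∃ j, x * r i * x⁻¹ = r j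
  sixteen : ∀ k, 2 ^ k ∣ Nat.card S ↔ k ≤ 4

namespace Base

variable {S : Type*} [Group S] (B : Base S)

/-- The subgroup of the three transpositions. -/
def U : Subgroup S where
  carrier := {x | x ∈ cube (B.r 0) (B.r 1) (B.r 2)}
  one_mem' := by simp [cube]
  mul_mem' := fun hx hy => B.mul _ hx _ hy
  inv_mem' := fun {x} hx => by
    show x⁻¹ ∈ cube (B.r 0) (B.r 1) (B.r 2)
    rwa [inv_eq_of_mul_eq_one_right (B.sq x hx)]

theorem mem_U {x : S} : x ∈ B.U ↔ x ∈ cube (B.r 0) (B.r 1) (B.r 2) := Iff.rfl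

theorem r_mem (i : Fin 3) : B.r i ∈ B.U := by
  rw [mem_U]; fin_cases i <;> simp [cube]

theorem card_U : Nat.card B.U = 8 := by
  classical
  show Nat.card {x : S // x ∈ cube (B.r 0) (B.r 1) (B.r 2)} = 8
  rw [Nat.card_congr (Equiv.subtypeEquivRight fun x => (List.mem_toFinset).symm),
    Nat.card_eq_finsetCard, List.toFinset_card_of_nodup B.nodup]
  rfl

theorem self_U {x : S} : (∀ u ∈ B.U, Commute x u) ↔ x ∈ B.U := by
  constructor
  · exact fun h => B.self x fun i => h _ (B.r_mem i)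
  · intro hx u hu
    have h1 := B.sq _ (B.mem_U.1 (mul_mem hx hu))
    show x * u = u * x
    calc x * u = (x * u)⁻¹ := (inv_eq_of_mul_eq_one_right h1).symm
      _ = u * x := by
        rw [mul_inv_rev, inv_eq_of_mul_eq_one_right (B.sq x hx), inv_eq_of_mul_eq_one_right (B.sq u hu)]

theorem center_eq (B : Base S) {x : S} (h : ∀ y : S, Commute x y) : x = 1 := B.central x (fun _ => h _) h

theorem mem_normalizer_iff_perm [Finite S] {x : S} :
    x ∈ normalizer (B.U : Set S) ↔ ∀ i, ∃ j, x * B.r i * x⁻¹ = B.r j := by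
  constructor
  · exact fun h => B.perm x fun i => (Subgroup.mem_normalizer_iff.1 h _).1 (B.r_mem i)
  · intro h
    have hle : B.U ≤ B.U.comap (MulAut.conj x).toMonoidHom := by
      intro u hu
      have h0 : ∀ i, B.r i ∈ closure (Set.range B.r) := fun i => subset_closure ⟨i, rfl⟩
      have hcl : u ∈ closure (Set.range B.r) := by
        have hu' : u ∈ [1, B.r 0, B.r 1, B.r 0 * B.r 1, B.r 2, B.r 0 * B.r 2, B.r 1 * B.r 2,
            B.r 0 * B.r 1 * B.r 2] := hu
        simp only [List.mem_cons, List.not_mem_nil, or_false] at hu'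
        rcases hu' with e | e | e | e | e | e | e | e <;> rw [e]
        all_goals first
          | exact one_mem _
          | exact h0 _
          | exact mul_mem (h0 _) (h0 _)
          | exact mul_mem (mul_mem (h0 _) (h0 _)) (h0 _)
      refine (closure_le _).2 ?_ hcl
      rintro _ ⟨i, rfl⟩
      obtain ⟨j, hj⟩ := h i
      show x * B.r i * x⁻¹ ∈ B.U
      rw [hj]; exact B.r_mem j
    refine Subgroup.mem_normalizer_iff.2 fun u => ⟨fun hu => hle hu, fun hu => ?_⟩
    have hinj : Function.Injective fun v : B.U => (⟨x * v * x⁻¹, hle v.2⟩ : B.U) := fun v w e => by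
      exact Subtype.ext (mul_left_cancel (mul_right_cancel (congrArg Subtype.val e : x * (v : S) * x⁻¹ = x * (w : S) * x⁻¹)))
    obtain ⟨v, hv⟩ := (Finite.injective_iff_surjective.1 hinj) ⟨_, hu⟩
    have : x * (v : S) * x⁻¹ = x * u * x⁻¹ := congrArg Subtype.val hv
    rw [← mul_left_cancel (mul_right_cancel this)]
    exact v.2

end Base

section Perm

open Equiv

/-- The three transpositions of degree six. -/
def rSix : Fin 3 → Perm (Fin 6) := ![swap 0 1, swap 2 3, swap 4 5]

/-- The three transpositions of degree seven. -/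
def rSeven : Fin 3 → Perm (Fin 7) := ![swap 0 1, swap 2 3, swap 4 5]

theorem card_two_part {m : ℕ} {a : ℕ} (ha : ¬ 2 ∣ a) (hm : m = 2 ^ 4 * a) (k : ℕ) :
    2 ^ k ∣ m ↔ k ≤ 4 := by
  subst hm
  constructor
  · intro h
    by_contra hk
    push Not at hk
    have h1 : 2 ^ 5 ∣ 2 ^ 4 * a := (pow_dvd_pow 2 hk).trans h
    rw [pow_succ] at h1
    exact ha (Nat.dvd_of_mul_dvd_mul_left (by norm_num) h1)
  · exact fun hk => (pow_dvd_pow 2 hk).trans (dvd_mul_right _ _)

set_option maxHeartbeats 2000000 in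
/-- Degree six. -/
def baseSix : Base (Perm (Fin 6)) where
  r := rSix
  central x hr h := by
    have key : ∀ y ∈ cube (rSix 0) (rSix 1) (rSix 2),
        (∀ s ∈ [swap 1 2, swap 3 4, swap 5 0], y * s = s * y) → y = 1 := by decide +kernel
    have hs : ∀ y : Perm (Fin 6), (∀ i, y * rSix i = rSix i * y) → y ∈ cube (rSix 0) (rSix 1) (rSix 2) := by
      decide +kernel
    exact key x (hs x fun i => (hr i).eq) fun s _ => (h s).eq
  mul := by decide +kernel
  sq := by decide +kernel
  nodup := by decide +kernel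
  self := by
    have key : ∀ x : Perm (Fin 6), (∀ i, x * rSix i = rSix i * x) → x ∈ cube (rSix 0) (rSix 1) (rSix 2) := by
      decide +kernel
    exact fun x h => key x fun i => (h i).eq
  perm := by
    have key : ∀ x : Perm (Fin 6), (∀ i, x * rSix i * x⁻¹ ∈ cube (rSix 0) (rSix 1) (rSix 2)) →
        ∀ i, ∃ j, x * rSix i * x⁻¹ = rSix j := by
      decide +kernel
    exact key
  sixteen := card_two_part (a := 45) (by norm_num) (by rw [Nat.card_perm, Nat.card_fin]; rfl)

set_option maxHeartbeats 2000000 in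
/-- Degree seven. -/
def baseSeven : Base (Perm (Fin 7)) where
  r := rSeven
  central x hr h := by
    have key : ∀ y ∈ cube (rSeven 0) (rSeven 1) (rSeven 2),
        (∀ s ∈ [swap 1 2, swap 3 4, swap 5 0], y * s = s * y) → y = 1 := by decide +kernel
    have hs : ∀ y : Perm (Fin 7), (∀ i, y * rSeven i = rSeven i * y) → y ∈ cube (rSeven 0) (rSeven 1) (rSeven 2) := by
      decide +kernel
    exact key x (hs x fun i => (hr i).eq) fun s _ => (h s).eq
  mul := by decide +kernel
  sq := by decide +kernel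
  nodup := by decide +kernel
  self := by
    have key : ∀ x : Perm (Fin 7), (∀ i, x * rSeven i = rSeven i * x) →
        x ∈ cube (rSeven 0) (rSeven 1) (rSeven 2) := by decide +kernel
    exact fun x h => key x fun i => (h i).eq
  perm := by
    have key : ∀ x : Perm (Fin 7), (∀ i, x * rSeven i * x⁻¹ ∈ cube (rSeven 0) (rSeven 1) (rSeven 2)) →
        ∀ i, ∃ j, x * rSeven i * x⁻¹ = rSeven j := by decide +kernel
    exact key
  sixteen := card_two_part (a := 315) (by norm_num) (by rw [Nat.card_perm, Nat.card_fin]; rfl)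

end Perm

section Centralizer

variable {G : Type*} [Group G] [Finite G] {t : G} {S : Type*} [Group S] [Finite S]

local notation "Z₂" => Multiplicative (ZMod 2)

theorem self_mem : t ∈ (Subgroup.centralizer ({t} : Set G)) := Subgroup.mem_centralizer_singleton_iff.2 rfl

/-- The involution is the generator of the factor of order two. -/
theorem apply_t (B : Base S) (e : ↥(Subgroup.centralizer ({t} : Set G)) ≃* Z₂ × S) (h1 : t ≠ 1) :
    e ⟨t, self_mem⟩ = (Multiplicative.ofAdd 1, 1) := by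
  set p := e ⟨t, self_mem⟩ with hp
  have h2 : p.2 = 1 := B.center_eq fun y => by
    obtain ⟨c, hc⟩ := e.surjective (1, y)
    have hcomm : (⟨t, self_mem⟩ : ↥(Subgroup.centralizer ({t} : Set G))) * c = c * ⟨t, self_mem⟩ :=
      Subtype.ext (Subgroup.mem_centralizer_singleton_iff.1 c.2).symm
    have h3 := congrArg (fun q => (e q).2) hcomm
    show p.2 * y = y * p.2
    simpa [hc, hp] using h3
  rcases (by decide : ∀ a : Z₂, a = 1 ∨ a = Multiplicative.ofAdd 1) p.1 with h | h
  · exact absurd (congrArg Subtype.val (e.map_eq_one_iff.1 (Prod.ext h h2))) h1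
  · exact Prod.ext h h2

/-- The 2-part of the centralizer has order 32. -/
theorem pow_dvd_card (B : Base S) (e : ↥(Subgroup.centralizer ({t} : Set G)) ≃* Z₂ × S) (k : ℕ) : 2 ^ k ∣ Nat.card ↥(Subgroup.centralizer ({t} : Set G)) ↔ k ≤ 5 := by
  rw [Nat.card_congr e.toEquiv, Nat.card_prod, show Nat.card (Z₂) = 2 from Nat.card_eq_fintype_card]
  rcases k with _ | k
  · simp
  · rw [pow_succ', Nat.mul_dvd_mul_iff_left (by norm_num), B.sixteen]; omega

/-- `E`: the preimage of `Z₂ × U`. -/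
def EE (B : Base S) (e : ↥(Subgroup.centralizer ({t} : Set G)) ≃* Z₂ × S) : Subgroup G :=
  ((⊤ : Subgroup Z₂).prod B.U |>.comap e.toMonoidHom).map (Subgroup.centralizer ({t} : Set G)).subtype

theorem mem_EE (B : Base S) (e : ↥(Subgroup.centralizer ({t} : Set G)) ≃* Z₂ × S) {x : G} :
    x ∈ EE B e ↔ ∃ h : x ∈ (Subgroup.centralizer ({t} : Set G)), (e ⟨x, h⟩).2 ∈ B.U := by
  constructor
  · rintro ⟨y, hy, rfl⟩
    exact ⟨y.2, (Subgroup.mem_prod.1 hy).2⟩
  · rintro ⟨h, hU⟩
    exact ⟨⟨x, h⟩, Subgroup.mem_prod.2 ⟨Subgroup.mem_top _, hU⟩, rfl⟩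

theorem EE_le (B : Base S) (e : ↥(Subgroup.centralizer ({t} : Set G)) ≃* Z₂ × S) : EE B e ≤ (Subgroup.centralizer ({t} : Set G)) := fun _ hx => ((mem_EE B e).1 hx).1

theorem t_mem_EE (B : Base S) (e : ↥(Subgroup.centralizer ({t} : Set G)) ≃* Z₂ × S) (h1 : t ≠ 1) : t ∈ EE B e :=
  (mem_EE B e).2 ⟨self_mem, by rw [apply_t B e h1]; exact one_mem _⟩

theorem card_EE (B : Base S) (e : ↥(Subgroup.centralizer ({t} : Set G)) ≃* Z₂ × S) : Nat.card (EE B e) = 16 := by
  rw [EE, Subgroup.card_map_of_injective (Subgroup.subtype_injective _)]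
  have h := Nat.card_congr ((e.subgroupMap (((⊤ : Subgroup Z₂).prod B.U).comap e.toMonoidHom)).toEquiv)
  rw [h]
  change Nat.card ↥((((⊤ : Subgroup Z₂).prod B.U).comap e.toMonoidHom).map e.toMonoidHom) = 16
  rw [Subgroup.map_comap_eq_self_of_surjective e.surjective,
    Nat.card_congr ((⊤ : Subgroup Z₂).prodEquiv B.U).toEquiv, Nat.card_prod, B.card_U,
    Nat.card_congr (Subgroup.topEquiv (G := Z₂)).toEquiv]
  simp

theorem sq_EE (B : Base S) (e : ↥(Subgroup.centralizer ({t} : Set G)) ≃* Z₂ × S) {x : G} (hx : x ∈ EE B e) : x * x = 1 := by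
  obtain ⟨h, hU⟩ := (mem_EE B e).1 hx
  have : (⟨x, h⟩ : ↥(Subgroup.centralizer ({t} : Set G))) * ⟨x, h⟩ = 1 := e.injective (by
    rw [map_mul, map_one]
    exact Prod.ext ((by decide : ∀ a : Z₂, a * a = 1) _) (B.sq _ hU))
  exact congrArg Subtype.val this

/-- `E` is its own centralizer. -/
theorem centralizer_EE (B : Base S) (e : ↥(Subgroup.centralizer ({t} : Set G)) ≃* Z₂ × S) (h1 : t ≠ 1) :
    Subgroup.centralizer (EE B e : Set G) = EE B e := by
  refine le_antisymm (fun x hx => ?_) fun x hx y hy => ?_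
  · have hxC : x ∈ (Subgroup.centralizer ({t} : Set G)) := Subgroup.mem_centralizer_singleton_iff.2 (hx t (t_mem_EE B e h1)).symm
    refine (mem_EE B e).2 ⟨hxC, B.self_U.1 fun u hu => ?_⟩
    obtain ⟨c, hc⟩ := e.surjective (1, u)
    have hcE : (c : G) ∈ EE B e := (mem_EE B e).2 ⟨c.2, by rw [hc]; exact hu⟩
    have hcomm : c * ⟨x, hxC⟩ = (⟨x, hxC⟩ : ↥(Subgroup.centralizer ({t} : Set G))) * c := Subtype.ext (hx c hcE)
    have h3 := congrArg (fun q => (e q).2) hcomm
    simp only [map_mul, Prod.snd_mul, hc] at h3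
    exact h3.symm
  · have h := sq_EE B e (mul_mem hy hx)
    calc y * x = (y * x)⁻¹ := (inv_eq_of_mul_eq_one_right h).symm
      _ = x * y := by
        rw [mul_inv_rev, inv_eq_of_mul_eq_one_right (sq_EE B e hx), inv_eq_of_mul_eq_one_right (sq_EE B e hy)]

/-- An element of `↥(Subgroup.centralizer ({t} : Set G))(t)` normalizes `E` iff its image permutes the three transpositions. -/
theorem normalizer_EE (B : Base S) (e : ↥(Subgroup.centralizer ({t} : Set G)) ≃* Z₂ × S) {x : G} (hx : x ∈ (Subgroup.centralizer ({t} : Set G))) :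
    x ∈ normalizer (EE B e : Set G) ↔ ∀ i, ∃ j, (e ⟨x, hx⟩).2 * B.r i * ((e ⟨x, hx⟩).2)⁻¹ = B.r j := by
  rw [← B.mem_normalizer_iff_perm]
  constructor
  · intro h
    refine B.mem_normalizer_iff_perm.2 (B.perm _ fun i => ?_)
    obtain ⟨c, hc⟩ := e.surjective (1, B.r i)
    have hcE : (c : G) ∈ EE B e := (mem_EE B e).2 ⟨c.2, by rw [hc]; exact B.r_mem i⟩
    obtain ⟨h', hU⟩ := (mem_EE B e).1 ((Subgroup.mem_normalizer_iff.1 h _).1 hcE)
    have he : (⟨x * c * x⁻¹, h'⟩ : ↥(Subgroup.centralizer ({t} : Set G))) = ⟨x, hx⟩ * c * ⟨x, hx⟩⁻¹ := rfl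
    rw [he, map_mul, map_mul, map_inv, Prod.snd_mul, Prod.snd_mul, Prod.snd_inv, hc] at hU
    exact hU
  · intro h
    refine Subgroup.mem_normalizer_iff.2 fun y => ⟨fun hy => ?_, fun hy => ?_⟩
    · obtain ⟨hyC, hU⟩ := (mem_EE B e).1 hy
      refine (mem_EE B e).2 ⟨mul_mem (mul_mem hx hyC) (inv_mem hx), ?_⟩
      have he : (⟨x * y * x⁻¹, mul_mem (mul_mem hx hyC) (inv_mem hx)⟩ : ↥(Subgroup.centralizer ({t} : Set G))) =
          ⟨x, hx⟩ * ⟨y, hyC⟩ * ⟨x, hx⟩⁻¹ := rfl
      rw [he, map_mul, map_mul, map_inv, Prod.snd_mul, Prod.snd_mul, Prod.snd_inv]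
      exact (Subgroup.mem_normalizer_iff.1 h _).1 hU
    · obtain ⟨hzC, hU⟩ := (mem_EE B e).1 hy
      have hyC : y ∈ (Subgroup.centralizer ({t} : Set G)) := by
        have := mul_mem (mul_mem (inv_mem hx) hzC) hx
        simpa [mul_assoc] using this
      refine (mem_EE B e).2 ⟨hyC, (Subgroup.mem_normalizer_iff.1 h _).2 ?_⟩
      have he : (⟨x * y * x⁻¹, hzC⟩ : ↥(Subgroup.centralizer ({t} : Set G))) = ⟨x, hx⟩ * ⟨y, hyC⟩ * ⟨x, hx⟩⁻¹ := rfl
      rw [he, map_mul, map_mul, map_inv, Prod.snd_mul, Prod.snd_mul, Prod.snd_inv] at hU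
      exact hU

end Centralizer

end Cfsg.Lib.Extra.InvS6
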