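import Cfsg.Agent.Lib.Extra.InvS6.Basic

/-!
# The involutions of the centralizer fall in pairs across the class of `t`

With no subgroup of index two and `2 ^ 7 ∣ |G|`: for an involution `y ≠ t` commuting with `t`, exactly
one of `y`, `t y` is conjugate to `t`. The sign of `t` on the cosets of three subgroups of order
sixteen and on its own class gives four congruences for the six possible values.
-/

set_option autoImplicit false
set_option linter.style.haveILetI false
set_option linter.unusedSectionVars false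
set_option maxRecDepth 100000

namespace Cfsg.Lib.Extra.InvS6

open Subgroup MulAction

theorem z2_mul_self (a : Multiplicative (ZMod 2)) : a * a = 1 := by revert a; decide

variable {G : Type*} [Group G] [Finite G] {t : G}

local notation "Z₂" => Multiplicative (ZMod 2)

/-- The cosets fixed by an element. -/
theorem card_fixed_mul (H : Subgroup G) :
    Nat.card (fixedBy (G ⧸ H) t) * Nat.card H =
      Nat.card {x : G // x ∈ H ∧ IsConj t x} * Nat.card (Subgroup.centralizer ({t} : Set G)) := by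
  classical
  rw [← Nat.card_prod, ← Nat.card_prod]
  have hfix : ∀ g : G, t • (g : G ⧸ H) = g ↔ g⁻¹ * t * g ∈ H := fun g => by
    rw [MulAction.Quotient.smul_coe, smul_eq_mul, QuotientGroup.eq, ← inv_mem_iff]
    simp [mul_assoc]
  have hch : ∀ x : {x : G // x ∈ H ∧ IsConj t x}, ∃ a : G, a⁻¹ * t * a = x := fun x => by
    obtain ⟨a, ha⟩ := isConj_iff.1 x.2.2
    exact ⟨a⁻¹, by rw [inv_inv]; exact ha⟩
  choose a ha using hch
  have e1 : {g : G // g⁻¹ * t * g ∈ H} ≃ fixedBy (G ⧸ H) t × H :=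
    { toFun := fun g => (⟨(g.1 : G ⧸ H), (hfix g.1).2 g.2⟩, ⟨(g.1 : G ⧸ H).out⁻¹ * g.1, by
        obtain ⟨h, hh⟩ := QuotientGroup.mk_out_eq_mul H g.1
        rw [hh]; simp⟩)
      invFun := fun p => ⟨p.1.1.out * p.2, (hfix _).1 (by
        have hp : t • p.1.1 = p.1.1 := p.1.2
        rw [QuotientGroup.mk_mul_of_mem _ p.2.2, QuotientGroup.out_eq']
        exact hp)⟩
      left_inv := fun g => Subtype.ext (by simp)
      right_inv := fun p => by
        have hq : ((p.1.1.out * (p.2 : G) : G) : G ⧸ H) = p.1.1 := by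
          rw [QuotientGroup.mk_mul_of_mem _ p.2.2, QuotientGroup.out_eq']
        refine Prod.ext (Subtype.ext hq) (Subtype.ext ?_)
        simp [hq] }
  have e2 : {g : G // g⁻¹ * t * g ∈ H} ≃
      {x : G // x ∈ H ∧ IsConj t x} × Subgroup.centralizer ({t} : Set G) :=
    { toFun := fun g => (⟨g.1⁻¹ * t * g.1, g.2, isConj_iff.2 ⟨g.1⁻¹, by rw [inv_inv]⟩⟩,
        ⟨g.1 * (a ⟨g.1⁻¹ * t * g.1, g.2, isConj_iff.2 ⟨g.1⁻¹, by rw [inv_inv]⟩⟩)⁻¹,
          Subgroup.mem_centralizer_singleton_iff.2 (by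
            have e := ha ⟨g.1⁻¹ * t * g.1, g.2, isConj_iff.2 ⟨g.1⁻¹, by rw [inv_inv]⟩⟩
            set b := a ⟨g.1⁻¹ * t * g.1, g.2, isConj_iff.2 ⟨g.1⁻¹, by rw [inv_inv]⟩⟩
            calc g.1 * b⁻¹ * t = g.1 * (b⁻¹ * t * b) * b⁻¹ := by group
              _ = g.1 * (g.1⁻¹ * t * g.1) * b⁻¹ := by rw [e]
              _ = _ := by group)⟩)
      invFun := fun p => ⟨p.2.1 * a p.1, by
        have hc := Subgroup.mem_centralizer_singleton_iff.1 p.2.2
        have : (p.2.1 * a p.1)⁻¹ * t * (p.2.1 * a p.1) = p.1.1 := by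
          rw [← ha p.1]
          calc (p.2.1 * a p.1)⁻¹ * t * (p.2.1 * a p.1) = (a p.1)⁻¹ * p.2.1⁻¹ * (t * p.2.1) * a p.1 := by group
            _ = _ := by rw [← hc]; group
        rw [this]; exact p.1.2.1⟩
      left_inv := fun g => Subtype.ext (by simp)
      right_inv := fun p => by
        have hc := Subgroup.mem_centralizer_singleton_iff.1 p.2.2
        have hx : (p.2.1 * a p.1)⁻¹ * t * (p.2.1 * a p.1) = p.1.1 := by
          rw [← ha p.1]
          calc (p.2.1 * a p.1)⁻¹ * t * (p.2.1 * a p.1) = (a p.1)⁻¹ * p.2.1⁻¹ * (t * p.2.1) * a p.1 := by group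
            _ = _ := by rw [← hc]; group
        refine Prod.ext (Subtype.ext hx) (Subtype.ext ?_)
        simp only
        rw [show (⟨_, _⟩ : {x : G // x ∈ H ∧ IsConj t x}) = p.1 from Subtype.ext hx, mul_inv_cancel_right] }
  exact Nat.card_congr (e1.symm.trans e2)

/-- Without subgroups of index two an involution is even on every coset space. -/
theorem four_dvd_fixed (ht : t * t = 1) (hno : ∀ K : Subgroup G, K.index ≠ 2) (H : Subgroup G)
    (hi : 4 ∣ H.index) : 4 ∣ Nat.card (fixedBy (G ⧸ H) t) := by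
  classical
  letI := Fintype.ofFinite (G ⧸ H)
  let f : G →* ℤˣ := Equiv.Perm.sign.comp (MulAction.toPermHom G (G ⧸ H))
  have hf : f t = 1 := by
    by_contra hne
    refine hno f.ker ?_
    rw [Subgroup.index_ker]
    have h1 : Nat.card f.range ≤ 2 := (Subgroup.card_le_card_group f.range).trans (by simp [Fintype.card_units_int])
    have h2 : Nat.card f.range ≠ 1 := fun h => hne (by
      have := (Subgroup.card_eq_one.1 h).le (MonoidHom.mem_range.2 ⟨t, rfl⟩)
      exact Subgroup.mem_bot.1 this)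
    have h3 : 0 < Nat.card f.range := Nat.card_pos
    omega
  set σ := MulAction.toPermHom G (G ⧸ H) t with hσ
  haveI : Fact (Nat.Prime 2) := ⟨Nat.prime_two⟩
  have h2 : σ ^ 2 = 1 := by rw [hσ, ← map_pow, pow_two, ht, map_one]
  have hct := Equiv.Perm.cycleType_of_pow_prime_eq_one h2
  have hs : Equiv.Perm.sign σ = 1 := hf
  rw [Equiv.Perm.sign_of_cycleType] at hs
  have hsum : σ.cycleType.sum = 2 * Multiset.card σ.cycleType := by
    conv_lhs => rw [hct]
    rw [Multiset.sum_replicate, smul_eq_mul, mul_comm]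
  have heven : Even (Multiset.card σ.cycleType) := by
    rw [hsum] at hs
    by_contra h
    rw [Nat.not_even_iff_odd] at h
    rw [(by obtain ⟨k, hk⟩ := h; exact ⟨3 * k + 1, by omega⟩ :
      Odd (2 * Multiset.card σ.cycleType + Multiset.card σ.cycleType)).neg_one_pow] at hs
    exact absurd hs (by decide)
  have hfp : Nat.card (fixedBy (G ⧸ H) t) = Nat.card (G ⧸ H) - σ.cycleType.sum := by
    rw [Nat.card_eq_fintype_card, Nat.card_eq_fintype_card, ← Equiv.Perm.card_fixedPoints]
    exact Fintype.card_congr (Equiv.refl _)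
  rw [hfp]
  change 4 ∣ H.index - σ.cycleType.sum
  obtain ⟨k, hk⟩ := heven
  exact Nat.dvd_sub hi ⟨k, by omega⟩

/-- A subgroup given by a list of its elements. -/
def listSub {S : Type*} [Group S] (L : List S) (h1 : (1 : S) ∈ L) (hm : ∀ x ∈ L, ∀ y ∈ L, x * y ∈ L)
    (hi : ∀ x ∈ L, x⁻¹ ∈ L) : Subgroup S where
  carrier := {x | x ∈ L}
  one_mem' := h1
  mul_mem' := fun hx hy => hm _ hx _ hy
  inv_mem' := fun hx => hi _ hx

theorem card_listSub {S : Type*} [Group S] {L : List S} {h1 : (1 : S) ∈ L}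
    {hm : ∀ x ∈ L, ∀ y ∈ L, x * y ∈ L} {hi : ∀ x ∈ L, x⁻¹ ∈ L} (hn : L.Nodup) :
    Nat.card (listSub L h1 hm hi) = L.length := by
  classical
  show Nat.card {x : S // x ∈ L} = L.length
  rw [Nat.card_congr (Equiv.subtypeEquivRight fun x => (List.mem_toFinset).symm),
    Nat.card_eq_finsetCard, List.toFinset_card_of_nodup hn]

section Values

open Equiv

variable {m : ℕ}

/-- The index of a support size. -/
def supIdx (x : Perm (Fin m)) : Fin 3 :=
  if x.support.card = 2 then 0 else if x.support.card = 4 then 1 else 2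

/-- The first coordinate as a number. -/
def epsIdx (a : Z₂) : Fin 2 := if a = 1 then 0 else 1

/-- The indicator of the class of `t`, from the six values. -/
def val (b : Fin 2 → Fin 3 → Bool) (p : Z₂ × Perm (Fin m)) : Bool :=
  if p.2 * p.2 = 1 then (if p.2 = 1 then decide (p.1 ≠ 1) else b (epsIdx p.1) (supIdx p.2)) else false

theorem support_cases (hm : m ≤ 7) {x : Perm (Fin m)} (h2 : x * x = 1) (h1 : x ≠ 1) :
    x.support.card = 2 ∨ x.support.card = 4 ∨ x.support.card = 6 := by
  haveI : Fact (Nat.Prime 2) := ⟨Nat.prime_two⟩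
  have hct := Equiv.Perm.cycleType_of_pow_prime_eq_one (σ := x) (p := 2) (by rwa [pow_two])
  have hs := Equiv.Perm.sum_cycleType x
  rw [hct, Multiset.sum_replicate, smul_eq_mul] at hs
  have hle : x.support.card ≤ m := (Finset.card_le_univ _).trans_eq (Fintype.card_fin m)
  have h0 : x.support.card ≠ 0 := fun h => h1 (Equiv.Perm.support_eq_empty_iff.1 (Finset.card_eq_zero.1 h))
  omega

theorem isConj_of_supIdx (hm : m ≤ 7) {x y : Perm (Fin m)} (hx : x * x = 1) (hy : y * y = 1)
    (hx1 : x ≠ 1) (hy1 : y ≠ 1) (h : supIdx x = supIdx y) : IsConj x y := by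
  haveI : Fact (Nat.Prime 2) := ⟨Nat.prime_two⟩
  have hctx := Equiv.Perm.cycleType_of_pow_prime_eq_one (σ := x) (p := 2) (by rwa [pow_two])
  have hcty := Equiv.Perm.cycleType_of_pow_prime_eq_one (σ := y) (p := 2) (by rwa [pow_two])
  have hsx := Equiv.Perm.sum_cycleType x
  have hsy := Equiv.Perm.sum_cycleType y
  rw [hctx, Multiset.sum_replicate, smul_eq_mul] at hsx
  rw [hcty, Multiset.sum_replicate, smul_eq_mul] at hsy
  have : x.support.card = y.support.card := by
    rcases support_cases hm hx hx1 with a | a | a <;> rcases support_cases hm hy hy1 with b | b | b <;>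
      simp [supIdx, a, b] at h ⊢
  rw [Equiv.Perm.isConj_iff_cycleType_eq, hctx, hcty, show x.cycleType.card = y.cycleType.card by omega]

/-- The number of elements with value `1`. -/
theorem card_val (b : Fin 2 → Fin 3 → Bool) (N : Fin 3 → ℕ)
    (hN : ∀ k, (Finset.univ.filter fun x : Perm (Fin m) => x * x = 1 ∧ x ≠ 1 ∧ supIdx x = k).card = N k) :
    (Finset.univ.filter fun p : Z₂ × Perm (Fin m) => val b p = true).card =
      1 + ∑ i : Fin 2, ∑ k : Fin 3, if b i k then N k else 0 := by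
  classical
  let F : Fin 2 × Fin 3 → Finset (Z₂ × Perm (Fin m)) := fun ik =>
    Finset.univ.filter fun p => b ik.1 ik.2 = true ∧ epsIdx p.1 = ik.1 ∧ p.2 * p.2 = 1 ∧ p.2 ≠ 1 ∧ supIdx p.2 = ik.2
  have hsplit : (Finset.univ.filter fun p : Z₂ × Perm (Fin m) => val b p = true) =
      insert (Multiplicative.ofAdd 1, 1) (Finset.univ.biUnion F) := by
    ext ⟨a, x⟩
    simp only [F, Finset.mem_filter, Finset.mem_univ, true_and, Finset.mem_insert, Finset.mem_biUnion,
      Prod.mk.injEq]
    constructor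
    · intro h
      unfold val at h
      split_ifs at h with h1 h2
      · exact Or.inl ⟨((by decide : ∀ a : Z₂, a ≠ 1 → a = Multiplicative.ofAdd 1) a
          (of_decide_eq_true h)), h2⟩
      · exact Or.inr ⟨(epsIdx a, supIdx x), h, rfl, h1, h2, rfl⟩
    · rintro (⟨rfl, rfl⟩ | ⟨⟨i, k⟩, hb, rfl, h1, h2, rfl⟩)
      · simp [val]
      · rw [val, if_pos h1, if_neg h2]; exact hb
  rw [hsplit, Finset.card_insert_of_notMem (by simp [F]), Finset.card_biUnion, add_comm, Fintype.sum_prod_type]
  · refine congrArg (1 + ·) (Finset.sum_congr rfl fun i _ => Finset.sum_congr rfl fun k _ => ?_)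
    by_cases hb : b i k = true
    · rw [if_pos hb, ← hN k]
      refine Finset.card_bij (fun p _ => p.2) (fun p hp => ?_) (fun p hp q hq h => ?_) fun x hx => ?_
      · simp only [F, Finset.mem_filter, Finset.mem_univ, true_and] at hp ⊢
        exact hp.2.2
      · simp only [F, Finset.mem_filter, Finset.mem_univ, true_and] at hp hq
        exact Prod.ext ((by decide : ∀ a a' : Z₂, epsIdx a = epsIdx a' → a = a') _ _ (hp.2.1.trans hq.2.1.symm)) h
      · simp only [F, Finset.mem_filter, Finset.mem_univ, true_and] at hx ⊢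
        exact ⟨(if i = 0 then 1 else Multiplicative.ofAdd 1, x), ⟨hb,
          (by decide : ∀ i : Fin 2, epsIdx (if i = 0 then 1 else Multiplicative.ofAdd 1) = i) i, hx⟩, rfl⟩
    · rw [if_neg hb, Finset.card_eq_zero, Finset.eq_empty_iff_forall_notMem]
      intro p hp
      exact hb (Finset.mem_filter.1 hp).2.1
  · rintro ⟨i, k⟩ - ⟨j, l⟩ - hne
    refine Finset.disjoint_left.2 fun p h1 h2 => hne ?_
    obtain ⟨-, -, e1, -, -, e2⟩ := Finset.mem_filter.1 h1
    obtain ⟨-, -, e3, -, -, e4⟩ := Finset.mem_filter.1 h2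
    exact Prod.ext (e1.symm.trans e3) (e2.symm.trans e4)

/-- The coordinates are normalized: the conjugates of `t` in the centralizer are the involutions
with non-trivial first coordinate. -/
def Normal (e : Subgroup.centralizer ({t} : Set G) ≃* Z₂ × Perm (Fin m)) : Prop :=
  ∀ p, p.2 * p.2 = 1 →
    (IsConj t ((e.symm p : Subgroup.centralizer ({t} : Set G)) : G) ↔ p.1 ≠ 1)

/-- The sign with values in `Z₂`. -/
def sgn : Perm (Fin m) →* Z₂ where
  toFun x := if Equiv.Perm.sign x = 1 then 1 else Multiplicative.ofAdd 1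
  map_one' := by simp
  map_mul' x y := by
    rw [map_mul]
    exact (by decide : ∀ u v : ℤˣ, (if u * v = 1 then (1 : Z₂) else Multiplicative.ofAdd 1) =
      (if u = 1 then 1 else Multiplicative.ofAdd 1) * (if v = 1 then 1 else Multiplicative.ofAdd 1))
      (Equiv.Perm.sign x) (Equiv.Perm.sign y)

theorem sgn_supIdx (hm : m ≤ 7) {x : Perm (Fin m)} (h2 : x * x = 1) (h1 : x ≠ 1) :
    sgn x = if supIdx x = 1 then 1 else Multiplicative.ofAdd 1 := by
  haveI : Fact (Nat.Prime 2) := ⟨Nat.prime_two⟩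
  have hct := Equiv.Perm.cycleType_of_pow_prime_eq_one (σ := x) (p := 2) (by rwa [pow_two])
  have hs := Equiv.Perm.sum_cycleType x
  have hsum := hs
  rw [hct, Multiset.sum_replicate, smul_eq_mul] at hs
  have hsgn := Equiv.Perm.sign_of_cycleType x
  rw [hsum] at hsgn
  show (if Equiv.Perm.sign x = 1 then (1 : Z₂) else Multiplicative.ofAdd 1) = _
  rcases support_cases hm h2 h1 with h | h | h <;> rw [h] at hsgn hs
  · rw [show x.cycleType.card = 1 by omega] at hsgn
    rw [hsgn, if_neg (by decide), if_neg (by simp [supIdx, h])]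
  · rw [show x.cycleType.card = 2 by omega] at hsgn
    rw [hsgn, if_pos (by decide), if_pos (by simp [supIdx, h])]
  · rw [show x.cycleType.card = 3 by omega] at hsgn
    rw [hsgn, if_neg (by decide), if_neg (by simp [supIdx, h])]

/-- Twisting the first coordinate by a homomorphism. -/
def twist (θ : Perm (Fin m) →* Z₂) : Z₂ × Perm (Fin m) ≃* Z₂ × Perm (Fin m) where
  toFun p := (p.1 * θ p.2, p.2)
  invFun p := (p.1 * θ p.2, p.2)
  left_inv p := by simp [mul_assoc, z2_mul_self]
  right_inv p := by simp [mul_assoc, z2_mul_self]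
  map_mul' p q := by
    refine Prod.ext ?_ rfl
    show p.1 * q.1 * θ (p.2 * q.2) = p.1 * θ p.2 * (q.1 * θ q.2)
    rw [map_mul]
    exact mul_mul_mul_comm _ _ _ _

/-- The data of the degree: lists and counts. -/
structure Deg (m : ℕ) where
  le : m ≤ 7
  /-- A 4-cycle. -/
  c : Perm (Fin m)
  c_ne : c * c ≠ 1 ∧ (c * c) * (c * c) = 1 ∧ supIdx (c * c) = 1
  /-- The three subgroups of order sixteen. -/
  L : Fin 3 → List (Z₂ × Perm (Fin m))
  len : ∀ i, (L i).length = 16
  nodup : ∀ i, (L i).Nodup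
  one : ∀ i, (1 : Z₂ × Perm (Fin m)) ∈ L i
  mul : ∀ i, ∀ x ∈ L i, ∀ y ∈ L i, x * y ∈ L i
  inv : ∀ i, ∀ x ∈ L i, x⁻¹ ∈ L i
  /-- The numbers of involutions. -/
  N : Fin 3 → ℕ
  hN : ∀ k, (Finset.univ.filter fun x : Perm (Fin m) => x * x = 1 ∧ x ≠ 1 ∧ supIdx x = k).card = N k
  solve : ∀ b : Fin 2 → Fin 3 → Bool, b 0 1 = false → (∀ i, ((L i).filter (val b)).length % 2 = 0) →
    (1 + ∑ i : Fin 2, ∑ k : Fin 3, if b i k then N k else 0) % 4 = 0 →
      (∀ k, b 0 k = !(b 1 k)) ∧ b 0 0 = b 0 2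

theorem exists_normal_deg {B : Base (Perm (Fin m))} (D : Deg m)
    (e : Subgroup.centralizer ({t} : Set G) ≃* Z₂ × Perm (Fin m)) (ht : t * t = 1) (h1 : t ≠ 1)
    (hno : ∀ K : Subgroup G, K.index ≠ 2) (h128 : 2 ^ 7 ∣ Nat.card G) :
    ∃ e' : Subgroup.centralizer ({t} : Set G) ≃* Z₂ × Perm (Fin m), Normal e' := by
  classical
  set C := Subgroup.centralizer ({t} : Set G) with hC
  let P : Z₂ × Perm (Fin m) → Prop := fun p => IsConj t ((e.symm p : Subgroup.centralizer ({t} : Set G)) : G)
  have hPinv : ∀ p, P p → p.2 * p.2 = 1 := by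
    intro p hp
    obtain ⟨g, hg⟩ := isConj_iff.1 hp
    have : e.symm p * e.symm p = 1 := Subtype.ext (by
      rw [Subgroup.coe_mul, ← hg, show g * t * g⁻¹ * (g * t * g⁻¹) = g * (t * t) * g⁻¹ by group, ht]
      simp)
    have h := congrArg e this
    rw [map_mul, e.apply_symm_apply, map_one] at h
    exact congrArg Prod.snd h
  have hPconj : ∀ (a : Z₂) (x y : Perm (Fin m)), IsConj x y → P (a, x) → P (a, y) := by
    intro a x y hxy hp
    obtain ⟨g, rfl⟩ := isConj_iff.1 hxy
    refine hp.trans (isConj_iff.2 ⟨(e.symm (1, g) : Subgroup.centralizer ({t} : Set G)), ?_⟩)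
    rw [← Subgroup.coe_inv, ← Subgroup.coe_mul, ← Subgroup.coe_mul, ← map_inv, ← map_mul, ← map_mul]
    refine congrArg (fun q => ((e.symm q : Subgroup.centralizer ({t} : Set G)) : G)) (Prod.ext ?_ rfl)
    simp
  have hone : ¬ P 1 := fun h => by
    obtain ⟨g, hg⟩ := isConj_iff.1 h
    rw [map_one, OneMemClass.coe_one] at hg
    exact h1 (mul_left_cancel (mul_right_cancel (by rw [hg]; simp : g * t * g⁻¹ = g * 1 * g⁻¹)))
  have ht' : e.symm (Multiplicative.ofAdd 1, 1) = ⟨t, self_mem⟩ := by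
    rw [← apply_t B e h1, e.symm_apply_apply]
  have htop : P (Multiplicative.ofAdd 1, 1) := by
    show IsConj t _
    rw [ht']
  -- the six values
  let b : Fin 2 → Fin 3 → Bool := fun i k => decide (∃ a x, epsIdx a = i ∧ supIdx x = k ∧ x * x = 1 ∧
    x ≠ 1 ∧ P (a, x))
  have hval : ∀ p, P p ↔ val b p = true := by
    rintro ⟨a, x⟩
    by_cases h2 : x * x = 1
    · by_cases hx : x = 1
      · subst hx
        rcases (by decide : ∀ a : Z₂, a = 1 ∨ a = Multiplicative.ofAdd 1) a with rfl | rfl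
        · exact ⟨fun h => absurd h hone, fun h => by simp [val] at h⟩
        · simpa [val] using htop
      · rw [val, if_pos h2, if_neg hx, decide_eq_true_iff]
        refine ⟨fun h => ⟨a, x, rfl, rfl, h2, hx, h⟩, ?_⟩
        rintro ⟨a', x', ha, hk, hx2, hx1, h⟩
        rw [(by decide : ∀ a a' : Z₂, epsIdx a' = epsIdx a → a' = a) a a' ha] at h
        exact hPconj a x' x (isConj_of_supIdx D.le hx2 h2 hx1 hx hk) h
    · simp only [val, if_neg h2, Bool.false_eq_true, iff_false]
      exact fun h => h2 (hPinv _ h)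
  have hz : b 0 1 = false := by
    rw [decide_eq_false_iff_not]
    rintro ⟨a, x, ha, hk, hx2, hx1, h⟩
    rw [(by decide : ∀ a : Z₂, epsIdx a = 0 → a = 1) a ha] at h
    obtain ⟨hc1, hc2, hc3⟩ := D.c_ne
    have h' := hPconj 1 x (D.c * D.c) (isConj_of_supIdx D.le hx2 hc2 hx1 hc1 (hk.trans hc3.symm)) h
    obtain ⟨k, hk'⟩ := isConj_iff.1 h'
    set c₀ : Subgroup.centralizer ({t} : Set G) := e.symm (1, D.c)
    have hcc : ((e.symm (1, D.c * D.c) : Subgroup.centralizer ({t} : Set G)) : G) = (c₀ : G) * c₀ := by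
      rw [← Subgroup.coe_mul, ← map_mul, Prod.mk_mul_mk, one_mul]
    rw [hcc] at hk'
    -- a square root of `t` would lie in the centralizer
    set d := k⁻¹ * (c₀ : G) * k with hd
    have hdd : d * d = t := by
      rw [hd, show k⁻¹ * (c₀ : G) * k * (k⁻¹ * (c₀ : G) * k) = k⁻¹ * ((c₀ : G) * c₀) * k by group, ← hk']
      group
    have hdC : d ∈ Subgroup.centralizer ({t} : Set G) := Subgroup.mem_centralizer_singleton_iff.2
      (calc d * t = d * (d * d) := congrArg (d * ·) hdd.symm
        _ = d * d * d := (mul_assoc _ _ _).symm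
        _ = t * d := congrArg (· * d) hdd)
    have hsq : e ⟨t, self_mem⟩ = e ⟨d, hdC⟩ * e ⟨d, hdC⟩ := by
      rw [← map_mul]; exact congrArg e (Subtype.ext hdd.symm)
    rw [apply_t B e h1] at hsq
    have h3 := congrArg Prod.fst hsq
    rw [Prod.fst_mul] at h3
    exact (by decide : ∀ a : Z₂, Multiplicative.ofAdd (1 : ZMod 2) ≠ a * a) _ h3
  -- the order of the centralizer
  obtain ⟨o, ho⟩ := (pow_dvd_card B e 5).2 le_rfl
  have hodd : ¬ 2 ∣ o := fun ⟨q, hq⟩ => by
    have := (pow_dvd_card B e 6).1 ⟨q, by rw [ho, hq]; ring⟩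
    omega
  have hcop : Nat.Coprime 4 o :=
    ((Nat.Prime.coprime_iff_not_dvd Nat.prime_two).2 hodd).pow_left 2
  -- the subgroups of order sixteen
  have hcount : ∀ i, ((D.L i).filter (val b)).length % 2 = 0 := by
    intro i
    set H0 := listSub (D.L i) (D.one i) (D.mul i) (D.inv i) with hH0
    set H : Subgroup G := (H0.comap e.toMonoidHom).map C.subtype with hH
    have hcH : Nat.card H = 16 := by
      rw [hH, Subgroup.card_map_of_injective (Subgroup.subtype_injective _),
        Nat.card_congr ((e.subgroupMap (H0.comap e.toMonoidHom)).toEquiv)]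
      change Nat.card ↥((H0.comap e.toMonoidHom).map e.toMonoidHom) = 16
      rw [Subgroup.map_comap_eq_self_of_surjective e.surjective, card_listSub (D.nodup i), D.len]
    have hi4 : 4 ∣ H.index := by
      have h := H.card_mul_index
      rw [hcH] at h
      rw [← h, show (2 : ℕ) ^ 7 = 16 * 8 by norm_num] at h128
      exact (show 4 ∣ 8 by norm_num).trans (Nat.dvd_of_mul_dvd_mul_left (by norm_num) h128)
    have hfm := card_fixed_mul (t := t) H
    obtain ⟨f, hf⟩ := four_dvd_fixed ht hno H hi4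
    have hX : Nat.card {x : G // x ∈ H ∧ IsConj t x} = ((D.L i).filter (val b)).length := by
      rw [← List.toFinset_card_of_nodup ((D.nodup i).filter _), ← Nat.card_eq_finsetCard]
      refine Nat.card_congr
        { toFun := fun x => ⟨e ⟨x.1, by
              obtain ⟨⟨y, hy⟩, -, e'⟩ := x.2.1
              rw [← e']; exact hy⟩, ?_⟩
          invFun := fun p => ⟨(e.symm p.1 : C), ⟨e.symm p.1, ?_, rfl⟩, ?_⟩
          left_inv := fun x => Subtype.ext (by simp)
          right_inv := fun p => Subtype.ext (by simp) }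
      · obtain ⟨y, hy', e'⟩ := x.2.1
        have hxC : x.1 ∈ C := e' ▸ y.2
        have hxy : e ⟨x.1, hxC⟩ = e y := congrArg e (Subtype.ext e'.symm)
        rw [List.mem_toFinset, List.mem_filter]
        refine ⟨?_, (hval _).1 ?_⟩
        · show e ⟨x.1, hxC⟩ ∈ D.L i
          rw [hxy]
          exact hy'
        · have h' := congrArg Subtype.val (e.symm_apply_apply ⟨x.1, hxC⟩)
          show IsConj t ((e.symm (e ⟨x.1, hxC⟩) : Subgroup.centralizer ({t} : Set G)) : G)
          exact h'.symm ▸ x.2.2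
      · show e (e.symm p.1) ∈ H0
        rw [e.apply_symm_apply]
        exact (List.mem_filter.1 (List.mem_toFinset.1 p.2)).1
      · exact (hval _).2 (List.mem_filter.1 (List.mem_toFinset.1 p.2)).2
    rw [hX, hcH, hf, ho] at hfm
    have h2 : 2 ∣ ((D.L i).filter (val b)).length * o := ⟨f, by
      have : 32 * (((D.L i).filter (val b)).length * o) = 32 * (2 * f) := by rw [← mul_assoc]; linarith
      omega⟩
    rcases (Nat.Prime.dvd_mul Nat.prime_two).1 h2 with h | h
    · exact Nat.mod_eq_zero_of_dvd h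
    · exact absurd h hodd
  -- the whole class
  have hclass : (1 + ∑ i : Fin 2, ∑ k : Fin 3, if b i k then D.N k else 0) % 4 = 0 := by
    have hi4 : 4 ∣ C.index := by
      have h := C.card_mul_index
      rw [ho] at h
      rw [← h, show (2 : ℕ) ^ 7 = 2 ^ 5 * 4 by norm_num, mul_assoc] at h128
      exact hcop.dvd_of_dvd_mul_left (Nat.dvd_of_mul_dvd_mul_left (by norm_num) h128)
    have hfm := Nat.eq_of_mul_eq_mul_right Nat.card_pos (card_fixed_mul (t := t) C)
    have hX : Nat.card {x : G // x ∈ C ∧ IsConj t x} =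
        (Finset.univ.filter fun p : Z₂ × Perm (Fin m) => val b p = true).card := by
      rw [← Nat.card_eq_finsetCard]
      refine Nat.card_congr
        { toFun := fun x => ⟨e ⟨x.1, x.2.1⟩, ?_⟩
          invFun := fun p => ⟨(e.symm p.1 : C), (e.symm p.1).2, ?_⟩
          left_inv := fun x => Subtype.ext (by simp)
          right_inv := fun p => Subtype.ext (by simp) }
      · refine Finset.mem_filter.2 ⟨Finset.mem_univ _, (hval _).1 ?_⟩
        show IsConj t _
        rw [e.symm_apply_apply]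
        exact x.2.2
      · exact (hval _).2 (Finset.mem_filter.1 p.2).2
    rw [← card_val b D.N D.hN, ← hX, ← hfm]
    exact Nat.mod_eq_zero_of_dvd (four_dvd_fixed ht hno C hi4)
  obtain ⟨hb, hrq⟩ := D.solve b hz hcount hclass
  -- the twist
  refine ⟨e.trans (twist (if b 0 0 then sgn else 1)), fun p hp => ?_⟩
  show P (twist (if b 0 0 then sgn else 1) p) ↔ _
  rw [hval]
  obtain ⟨a, x⟩ := p
  set θ : Perm (Fin m) →* Z₂ := if b 0 0 then sgn else 1 with hθ
  rw [show val b (twist θ (a, x)) =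
    if x = 1 then decide (a * θ x ≠ 1) else b (epsIdx (a * θ x)) (supIdx x) from if_pos hp]
  by_cases hx : x = 1
  · rw [if_pos hx, decide_eq_true_iff, hx, map_one, mul_one]
  rw [if_neg hx, hθ]
  simp only at hp
  have hk : ∀ k : Fin 3, k = 0 ∨ k = 1 ∨ k = 2 := by decide
  have hs := sgn_supIdx D.le hp hx
  have hb0 := hb 0
  have hb1 := hb 1
  have hb2 := hb 2
  rw [hz] at hb1
  cases h00 : b 0 0 <;> rw [h00] at hb0 hrq <;> rw [← hrq] at hb2 <;>
    simp only [Bool.false_eq_true, if_false, if_true, MonoidHom.one_apply, mul_one] <;>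
    rcases hk (supIdx x) with e0 | e0 | e0 <;>
    rcases (by decide : ∀ a : Z₂, a = 1 ∨ a = Multiplicative.ofAdd 1) a with ha | ha <;>
    simp_all [epsIdx, z2_mul_self]

/-- In normalized coordinates exactly one of `y`, `t y` is conjugate to `t`. -/
theorem colour_of_normal (B : Base (Perm (Fin m))) {e : Subgroup.centralizer ({t} : Set G) ≃* Z₂ × Perm (Fin m)}
    (he : Normal e) (h1 : t ≠ 1) :
    ∀ y, Commute y t → y * y = 1 → y ≠ 1 → y ≠ t → (IsConj t y ↔ ¬ IsConj t (t * y)) := by
  intro y hy hy2 _ _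
  have hyC : y ∈ Subgroup.centralizer ({t} : Set G) := Subgroup.mem_centralizer_singleton_iff.2 hy.eq
  have hq : e ⟨y, hyC⟩ * e ⟨y, hyC⟩ = 1 := by
    rw [← map_mul, ← map_one e]; exact congrArg e (Subtype.ext hy2)
  have h2 : (e ⟨y, hyC⟩).2 * (e ⟨y, hyC⟩).2 = 1 := congrArg Prod.snd hq
  have hP1 := he (e ⟨y, hyC⟩) h2
  have hP2 := he (e ⟨t, self_mem⟩ * e ⟨y, hyC⟩) (by rw [apply_t B e h1]; simpa using h2)
  rw [e.symm_apply_apply] at hP1
  rw [← map_mul, e.symm_apply_apply, map_mul, apply_t B e h1, Prod.fst_mul] at hP2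
  show IsConj t ((⟨y, hyC⟩ : Subgroup.centralizer ({t} : Set G)) : G) ↔
    ¬ IsConj t (((⟨t, self_mem⟩ : Subgroup.centralizer ({t} : Set G)) * ⟨y, hyC⟩ : Subgroup.centralizer ({t} : Set G)) : G)
  rw [hP1, hP2]
  exact (by decide : ∀ a : Z₂, a ≠ 1 ↔ ¬ (Multiplicative.ofAdd (1 : ZMod 2) * a ≠ 1)) _

/-- Dihedral elements on the first four points. -/
def dList (c a : Perm (Fin m)) : List (Perm (Fin m)) := [1, c, c * c, c * c * c, a, a * c, a * (c * c), a * (c * c * c)]

/-- The three lists. -/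
def lists (c a s : Perm (Fin m)) : Fin 3 → List (Z₂ × Perm (Fin m)) :=
  ![(dList c a).map (fun x => (1, x)) ++ (dList c a).map (fun x => (Multiplicative.ofAdd 1, x)),
    (dList c a ++ (dList c a).map (· * s)).map (fun x => (1, x)),
    List.zipWith Prod.mk (([0, 1, 0, 1, 1, 0, 1, 0] ++ [1, 0, 1, 0, 0, 1, 0, 1] : List (ZMod 2)).map Multiplicative.ofAdd)
      (dList c a ++ (dList c a).map (· * s))]

set_option maxHeartbeats 4000000 in
/-- Degree six. -/
def degSix : Deg 6 where
  le := by norm_num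
  c := swap 0 1 * swap 1 2 * swap 2 3
  c_ne := by decide +kernel
  L := lists (swap 0 1 * swap 1 2 * swap 2 3) (swap 0 2) (swap 4 5)
  len := by decide +kernel
  nodup := by decide +kernel
  one := by decide +kernel
  mul := by decide +kernel
  inv := by decide +kernel
  N := ![15, 45, 15]
  hN := by decide +kernel
  solve := by decide +kernel

set_option maxHeartbeats 4000000 in
/-- Degree seven. -/
def degSeven : Deg 7 where
  le := le_rfl
  c := swap 0 1 * swap 1 2 * swap 2 3
  c_ne := by decide +kernel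
  L := lists (swap 0 1 * swap 1 2 * swap 2 3) (swap 0 2) (swap 4 5)
  len := by decide +kernel
  nodup := by decide +kernel
  one := by decide +kernel
  mul := by decide +kernel
  inv := by decide +kernel
  N := ![21, 105, 105]
  hN := by decide +kernel
  solve := by decide +kernel

/-- Exactly one of `y`, `t y` is conjugate to `t`, degree six. -/
theorem colour_six (e : Subgroup.centralizer ({t} : Set G) ≃* Z₂ × Perm (Fin 6)) (ht : t * t = 1) (h1 : t ≠ 1)
    (hno : ∀ K : Subgroup G, K.index ≠ 2) (h128 : 2 ^ 7 ∣ Nat.card G) :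
    ∀ y, Commute y t → y * y = 1 → y ≠ 1 → y ≠ t → (IsConj t y ↔ ¬ IsConj t (t * y)) :=
  let ⟨_, he⟩ := exists_normal_deg (B := baseSix) degSix e ht h1 hno h128
  colour_of_normal baseSix he h1

/-- Exactly one of `y`, `t y` is conjugate to `t`, degree seven. -/
theorem colour_seven (e : Subgroup.centralizer ({t} : Set G) ≃* Z₂ × Perm (Fin 7)) (ht : t * t = 1) (h1 : t ≠ 1)
    (hno : ∀ K : Subgroup G, K.index ≠ 2) (h128 : 2 ^ 7 ∣ Nat.card G) :
    ∀ y, Commute y t → y * y = 1 → y ≠ 1 → y ≠ t → (IsConj t y ↔ ¬ IsConj t (t * y)) :=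
  let ⟨_, he⟩ := exists_normal_deg (B := baseSeven) degSeven e ht h1 hno h128
  colour_of_normal baseSeven he h1

/-- Normalized coordinates exist, degree six. -/
theorem exists_normal_six (e : Subgroup.centralizer ({t} : Set G) ≃* Z₂ × Perm (Fin 6)) (ht : t * t = 1)
    (h1 : t ≠ 1) (hno : ∀ K : Subgroup G, K.index ≠ 2) (h128 : 2 ^ 7 ∣ Nat.card G) :
    ∃ e' : Subgroup.centralizer ({t} : Set G) ≃* Z₂ × Perm (Fin 6), Normal e' :=
  exists_normal_deg (B := baseSix) degSix e ht h1 hno h128

/-- Normalized coordinates exist, degree seven. -/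
theorem exists_normal_seven (e : Subgroup.centralizer ({t} : Set G) ≃* Z₂ × Perm (Fin 7)) (ht : t * t = 1)
    (h1 : t ≠ 1) (hno : ∀ K : Subgroup G, K.index ≠ 2) (h128 : 2 ^ 7 ∣ Nat.card G) :
    ∃ e' : Subgroup.centralizer ({t} : Set G) ≃* Z₂ × Perm (Fin 7), Normal e' :=
  exists_normal_deg (B := baseSeven) degSeven e ht h1 hno h128

end Values

end Cfsg.Lib.Extra.InvS6
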