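import Cfsg.Agent.Lib.Extra.InvS6.Colour

/-!
# The frame `T = ⟨t⟩ × W` and its normalizer

In normalized coordinates `W` is the Sylow 2-subgroup `D₈ × 2` of the symmetric factor and `F0` its
centre; `T` is a Sylow 2-subgroup of `C(t f)` for `f ∈ F0`, and `N(T)` has order 128 and permutes
`t F0` transitively.
-/

set_option autoImplicit false
set_option linter.style.haveILetI false
set_option linter.unusedSectionVars false
set_option maxRecDepth 100000

namespace Cfsg.Lib.Extra.InvS6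

open Subgroup Equiv

variable {m : ℕ}

/-- The pair of a point. -/
def pr (i : Fin m) : ℕ := i.val / 2

/-- The block of a point. -/
def lv (i : Fin m) : ℕ := if i.val < 4 then 0 else if i.val < 6 then 1 else 2

/-- The permutations respecting the blocks and the pairs. -/
def W0 (m : ℕ) : Subgroup (Perm (Fin m)) where
  carrier := {x | (∀ i, lv (x i) = lv i) ∧ ∀ i j, pr (x i) = pr (x j) ↔ pr i = pr j}
  one_mem' := ⟨fun _ => rfl, fun _ _ => Iff.rfl⟩
  mul_mem' := fun {x y} hx hy => ⟨fun i => (hx.1 (y i)).trans (hy.1 i),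
    fun i j => (hx.2 (y i) (y j)).trans (hy.2 i j)⟩
  inv_mem' := fun {x} hx => ⟨fun i => by
      have := hx.1 (x⁻¹ i); simpa using this.symm,
    fun i j => by
      have := hx.2 (x⁻¹ i) (x⁻¹ j); simpa using this.symm⟩

instance : DecidablePred (· ∈ W0 m) := fun x =>
  decidable_of_iff ((∀ i, lv (x i) = lv i) ∧ ∀ i j, pr (x i) = pr (x j) ↔ pr i = pr j) Iff.rfl

/-- The finite facts about `W0`. -/
structure FrameDeg (m : ℕ) where
  base : Base (Perm (Fin m))
  /-- The four generating involutions `(01)`, `(23)`, `(02)(13)`, `(45)`. -/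
  gen : Fin 4 → Perm (Fin m)
  gen_sq : ∀ i, gen i * gen i = 1
  gen_mem : ∀ i, gen i ∈ W0 m
  gen_comm : gen 0 * gen 2 * gen 0 * gen 2 = gen 0 * gen 1
  z_ne : gen 0 * gen 1 ≠ 1 ∧ gen 0 * gen 1 ≠ gen 3
  /-- The sixteen words. -/
  words : ∀ x, x ∈ W0 m → x ∈ (List.range 16).map (fun k => (if k.testBit 0 then gen 0 else 1) *
    (if k.testBit 1 then gen 1 else 1) * (if k.testBit 2 then gen 2 else 1) * (if k.testBit 3 then gen 3 else 1))
  card : Nat.card (W0 m) = 16
  centre : ∀ x, x ∈ W0 m → ((∀ i, x * gen i = gen i * x) ↔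
    x ∈ [1, gen 0 * gen 1, gen 3, gen 0 * gen 1 * gen 3])
  derived : ∀ k < 16, ∀ l < 16,
    let w := fun k : ℕ => (if k.testBit 0 then gen 0 else 1) * (if k.testBit 1 then gen 1 else 1) *
      (if k.testBit 2 then gen 2 else 1) * (if k.testBit 3 then gen 3 else 1)
    w k * w l * (w k)⁻¹ * (w l)⁻¹ ∈ [1, gen 0 * gen 1]
  self : ∀ x : Perm (Fin m), (∀ i, x * gen i * x⁻¹ ∈ W0 m) → x ∈ W0 m

variable (D : FrameDeg m)

/-- The distinguished central element. -/
def FrameDeg.z : Perm (Fin m) := D.gen 0 * D.gen 1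

/-- The centre of `W0`. -/
def FrameDeg.F : List (Perm (Fin m)) := [1, D.z, D.gen 3, D.z * D.gen 3]

theorem FrameDeg.mem_F {x : Perm (Fin m)} : x ∈ D.F ↔ x ∈ W0 m ∧ ∀ y ∈ W0 m, x * y = y * x := by
  constructor
  · intro hx
    have hW : x ∈ W0 m := by
      simp only [FrameDeg.F, FrameDeg.z, List.mem_cons, List.not_mem_nil, or_false] at hx
      rcases hx with rfl | rfl | rfl | rfl
      · exact one_mem _
      · exact mul_mem (D.gen_mem 0) (D.gen_mem 1)
      · exact D.gen_mem 3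
      · exact mul_mem (mul_mem (D.gen_mem 0) (D.gen_mem 1)) (D.gen_mem 3)
    refine ⟨hW, fun y hy => ?_⟩
    have hc : ∀ i, Commute x (D.gen i) := (D.centre x hW).2 hx
    obtain ⟨k, -, rfl⟩ := List.mem_map.1 (D.words y hy)
    refine ((Commute.mul_right (Commute.mul_right (Commute.mul_right ?_ ?_) ?_) ?_)).eq <;> split_ifs <;>
      first | exact hc _ | exact Commute.one_right x
  · exact fun h => (D.centre x h.1).1 fun i => h.2 _ (D.gen_mem i)

theorem FrameDeg.F_sq {x : Perm (Fin m)} (hx : x ∈ D.F) : x * x = 1 := by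
  have hz : D.z * D.z = 1 := by
    have hzF : D.z ∈ D.F := by simp [FrameDeg.F]
    have h1 := (D.mem_F.1 hzF).2 _ (D.gen_mem 0)
    calc D.z * D.z = D.z * D.gen 0 * D.gen 1 := by rw [mul_assoc]; rfl
      _ = D.gen 0 * D.z * D.gen 1 := by rw [h1]
      _ = (D.gen 0 * D.gen 0) * (D.gen 1 * D.gen 1) := by simp only [FrameDeg.z, mul_assoc]
      _ = 1 := by rw [D.gen_sq, D.gen_sq, one_mul]
  simp only [FrameDeg.F, List.mem_cons, List.not_mem_nil, or_false] at hx
  rcases hx with rfl | rfl | rfl | rfl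
  · exact one_mul 1
  · exact hz
  · exact D.gen_sq 3
  · have h1 : D.gen 3 * D.z = D.z * D.gen 3 :=
      ((D.mem_F.1 (by simp [FrameDeg.F] : D.z ∈ D.F)).2 _ (D.gen_mem 3)).symm
    calc D.z * D.gen 3 * (D.z * D.gen 3) = D.z * (D.gen 3 * D.z) * D.gen 3 := by simp only [mul_assoc]
      _ = D.z * D.z * (D.gen 3 * D.gen 3) := by rw [h1]; simp only [mul_assoc]
      _ = 1 := by rw [hz, D.gen_sq, one_mul]

variable {G : Type*} [Group G] {t : G}

local notation "Z₂" => Multiplicative (ZMod 2)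

/-- The image in `G` of a subgroup of the coordinate group. -/
def lift (e : Subgroup.centralizer ({t} : Set G) ≃* Z₂ × Perm (Fin m)) (H : Subgroup (Z₂ × Perm (Fin m))) :
    Subgroup G :=
  (H.comap e.toMonoidHom).map (Subgroup.centralizer ({t} : Set G)).subtype

/-- `W`. -/
def WW (e : Subgroup.centralizer ({t} : Set G) ≃* Z₂ × Perm (Fin m)) : Subgroup G :=
  lift e ((⊥ : Subgroup Z₂).prod (W0 m))

/-- `T = ⟨t⟩ × W`. -/
def TT (e : Subgroup.centralizer ({t} : Set G) ≃* Z₂ × Perm (Fin m)) : Subgroup G :=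
  lift e ((⊤ : Subgroup Z₂).prod (W0 m))

/-- An element of `G` with given coordinates. -/
def el (e : Subgroup.centralizer ({t} : Set G) ≃* Z₂ × Perm (Fin m)) (p : Z₂ × Perm (Fin m)) : G :=
  (e.symm p : Subgroup.centralizer ({t} : Set G))

variable (e : Subgroup.centralizer ({t} : Set G) ≃* Z₂ × Perm (Fin m))

theorem el_mul (p q : Z₂ × Perm (Fin m)) : el e (p * q) = el e p * el e q := by
  rw [el, el, el, map_mul]; rfl

theorem el_one : el e 1 = 1 := by rw [el, map_one]; rfl

theorem el_inv (p : Z₂ × Perm (Fin m)) : el e p⁻¹ = (el e p)⁻¹ := by rw [el, el, map_inv]; rfl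

theorem el_injective : Function.Injective (el e) := fun p q h => e.symm.injective (Subtype.ext h)

theorem el_commute (p : Z₂ × Perm (Fin m)) : Commute (el e p) t :=
  Subgroup.mem_centralizer_singleton_iff.1 (e.symm p).2

theorem mem_lift {H : Subgroup (Z₂ × Perm (Fin m))} {x : G} : x ∈ lift e H ↔ ∃ p ∈ H, el e p = x := by
  constructor
  · rintro ⟨y, hy, rfl⟩
    exact ⟨e y, hy, by rw [el, e.symm_apply_apply]; rfl⟩
  · rintro ⟨p, hp, rfl⟩
    exact ⟨e.symm p, show e (e.symm p) ∈ H by rwa [e.apply_symm_apply], rfl⟩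

theorem mem_WW {x : G} : x ∈ WW e ↔ ∃ w ∈ W0 m, el e (1, w) = x := by
  rw [WW, mem_lift]
  constructor
  · rintro ⟨⟨a, w⟩, hp, rfl⟩
    obtain ⟨ha, hw⟩ := Subgroup.mem_prod.1 hp
    obtain rfl : a = 1 := Subgroup.mem_bot.1 ha
    exact ⟨w, hw, rfl⟩
  · rintro ⟨w, hw, rfl⟩
    exact ⟨_, Subgroup.mem_prod.2 ⟨one_mem _, hw⟩, rfl⟩

theorem mem_TT {x : G} : x ∈ TT e ↔ ∃ p : Z₂ × Perm (Fin m), p.2 ∈ W0 m ∧ el e p = x := by
  rw [TT, mem_lift]
  exact exists_congr fun p => and_congr_left' ((Subgroup.mem_prod).trans (and_iff_right (Subgroup.mem_top _)))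

theorem TT_le : TT e ≤ Subgroup.centralizer ({t} : Set G) := by
  intro x hx
  obtain ⟨p, -, rfl⟩ := (mem_TT e).1 hx
  exact (e.symm p).2

theorem WW_le : WW e ≤ TT e := by
  intro x hx
  obtain ⟨w, hw, rfl⟩ := (mem_WW e).1 hx
  exact (mem_TT e).2 ⟨_, hw, rfl⟩

include D in
theorem card_TT : Nat.card (TT e) = 32 := by
  rw [TT, lift, Subgroup.card_map_of_injective (Subgroup.subtype_injective _),
    Nat.card_congr ((e.subgroupMap (((⊤ : Subgroup Z₂).prod (W0 m)).comap e.toMonoidHom)).toEquiv)]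
  change Nat.card ↥((((⊤ : Subgroup Z₂).prod (W0 m)).comap e.toMonoidHom).map e.toMonoidHom) = 32
  rw [Subgroup.map_comap_eq_self_of_surjective e.surjective,
    Nat.card_congr ((⊤ : Subgroup Z₂).prodEquiv (W0 m)).toEquiv, Nat.card_prod, D.card,
    Nat.card_congr (Subgroup.topEquiv (G := Z₂)).toEquiv, Nat.card_eq_fintype_card]
  rfl

section Finite

variable [Finite G] {e}

include D in
theorem el_t (h1 : t ≠ 1) : el e (Multiplicative.ofAdd 1, 1) = t := by
  rw [← apply_t D.base e h1, el, e.symm_apply_apply]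

/-- The four conjugates of `t` in the centre of `T`. -/
def tF (e : Subgroup.centralizer ({t} : Set G) ≃* Z₂ × Perm (Fin m)) (f : Perm (Fin m)) : G :=
  el e (Multiplicative.ofAdd 1, f)

include D in
theorem tF_eq (h1 : t ≠ 1) (f : Perm (Fin m)) : tF e f = t * el e (1, f) := by
  conv_rhs => lhs; rw [← el_t D h1 (e := e)]
  rw [← el_mul, tF, Prod.mk_mul_mk, one_mul, mul_one]

theorem tF_conj (he : Normal e) {f : Perm (Fin m)} (hf : f ∈ D.F) : IsConj t (tF e f) :=
  (he (Multiplicative.ofAdd 1, f) (D.F_sq hf)).2 (by simp)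

theorem tF_central {f : Perm (Fin m)} (hf : f ∈ D.F) :
    TT e ≤ Subgroup.centralizer ({tF e f} : Set G) := by
  intro x hx
  obtain ⟨p, hp, rfl⟩ := (mem_TT e).1 hx
  refine Subgroup.mem_centralizer_singleton_iff.2 ?_
  rw [tF, ← el_mul, ← el_mul]
  exact congrArg (el e) (Prod.ext (mul_comm _ _) ((D.mem_F.1 hf).2 _ hp).symm)

include D in
/-- `T` is a Sylow 2-subgroup of the centralizers of the four elements. -/
theorem TT_sylow (he : Normal e) {f : Perm (Fin m)} (hf : f ∈ D.F)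
    {P : Subgroup G} (hP : IsPGroup 2 P) (hTP : TT e ≤ P) (hPC : P ≤ Subgroup.centralizer ({tF e f} : Set G)) :
    P = TT e := by
  obtain ⟨g, hg⟩ := isConj_iff.1 (tF_conj D he hf)
  have hcard : Nat.card (Subgroup.centralizer ({tF e f} : Set G)) =
      Nat.card (Subgroup.centralizer ({t} : Set G)) := by
    refine Nat.card_congr
      { toFun := fun x => ⟨g⁻¹ * x.1 * g, Subgroup.mem_centralizer_singleton_iff.2 ?_⟩
        invFun := fun x => ⟨g * x.1 * g⁻¹, Subgroup.mem_centralizer_singleton_iff.2 ?_⟩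
        left_inv := fun x => Subtype.ext (by group)
        right_inv := fun x => Subtype.ext (by group) }
    · have h : x.1 * (g * t * g⁻¹) = g * t * g⁻¹ * x.1 := by
        rw [hg]; exact Subgroup.mem_centralizer_singleton_iff.1 x.2
      calc g⁻¹ * x.1 * g * t = g⁻¹ * (x.1 * (g * t * g⁻¹)) * g := by group
        _ = _ := by rw [h]; group
    · have h := Subgroup.mem_centralizer_singleton_iff.1 x.2
      rw [← hg]
      calc g * x.1 * g⁻¹ * (g * t * g⁻¹) = g * (x.1 * t) * g⁻¹ := by group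
        _ = _ := by rw [h]; group
  haveI : Fact (Nat.Prime 2) := ⟨Nat.prime_two⟩
  obtain ⟨k, hk⟩ := IsPGroup.iff_card.mp hP
  have hle : 2 ^ k ∣ Nat.card (Subgroup.centralizer ({tF e f} : Set G)) := hk ▸ Subgroup.card_dvd_of_le hPC
  rw [hcard] at hle
  have hk5 := (pow_dvd_card D.base e k).1 hle
  refine (Subgroup.eq_of_le_of_card_ge hTP ?_).symm
  rw [hk, card_TT D e, show (32 : ℕ) = 2 ^ 5 by norm_num]
  exact Nat.pow_le_pow_right (by norm_num) hk5

include D in
theorem TT_two : IsPGroup 2 (TT e) := IsPGroup.of_card (n := 5) (card_TT D e)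

include D in
/-- Some element of `N(T)` carries `t` to each of the four elements. -/
theorem exists_move_t (he : Normal e) {f : Perm (Fin m)} (hf : f ∈ D.F) :
    ∃ n ∈ normalizer (TT e : Set G), n * t * n⁻¹ = tF e f := by
  haveI : Fact (Nat.Prime 2) := ⟨Nat.prime_two⟩
  obtain ⟨g, hg⟩ := isConj_iff.1 (tF_conj D he hf)
  set C := Subgroup.centralizer ({tF e f} : Set G) with hC
  have hT2 := TT_two D (e := e)
  set T' : Subgroup G := (TT e).map (MulAut.conj g).toMonoidHom with hT'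
  have hT'C : T' ≤ C := by
    rintro _ ⟨x, hx, rfl⟩
    refine Subgroup.mem_centralizer_singleton_iff.2 ?_
    show g * x * g⁻¹ * tF e f = tF e f * (g * x * g⁻¹)
    have h := Subgroup.mem_centralizer_singleton_iff.1 (TT_le e hx)
    rw [← hg]
    calc g * x * g⁻¹ * (g * t * g⁻¹) = g * (x * t) * g⁻¹ := by group
      _ = _ := by rw [h]; group
  have hTC : TT e ≤ C := tF_central D hf
  have h1 : IsPGroup 2 ((TT e).subgroupOf C) :=
    hT2.of_equiv (Subgroup.subgroupOfEquivOfLe hTC).symm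
  have h2 : IsPGroup 2 (T'.subgroupOf C) :=
    (hT2.map (MulAut.conj g).toMonoidHom).of_equiv (Subgroup.subgroupOfEquivOfLe hT'C).symm
  obtain ⟨P, hP⟩ := h1.exists_le_sylow
  obtain ⟨P', hP'⟩ := h2.exists_le_sylow
  have hPT : (P : Subgroup C).map C.subtype = TT e := by
    refine TT_sylow D he hf (P.2.map _) (fun x hx => ⟨⟨x, hTC hx⟩, hP hx, rfl⟩) ?_
    rintro _ ⟨x, -, rfl⟩
    exact x.2
  obtain ⟨c, hc⟩ := MulAction.exists_smul_eq C P' P
  refine ⟨(c : G) * g, ?_, ?_⟩
  · refine Subgroup.mem_normalizer_iff.2 fun x => ?_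
    have hfwd : ∀ y ∈ TT e, (c : G) * g * y * ((c : G) * g)⁻¹ ∈ TT e := by
      intro y hy
      have hy' : g * y * g⁻¹ ∈ T' := ⟨y, hy, rfl⟩
      rw [← hPT]
      refine ⟨c * ⟨g * y * g⁻¹, hT'C hy'⟩ * c⁻¹, ?_, ?_⟩
      · rw [← hc]
        exact ⟨⟨g * y * g⁻¹, hT'C hy'⟩, hP' hy', rfl⟩
      · show (c : G) * (g * y * g⁻¹) * (c : G)⁻¹ = _
        group
    refine ⟨hfwd x, fun hx => ?_⟩
    have hinj : Function.Injective fun y : TT e =>
        (⟨(c : G) * g * y * ((c : G) * g)⁻¹, hfwd y y.2⟩ : TT e) := fun y y' h =>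
      Subtype.ext (mul_left_cancel (mul_right_cancel
        (congrArg Subtype.val h : (c : G) * g * y * ((c : G) * g)⁻¹ = (c : G) * g * y' * ((c : G) * g)⁻¹)))
    obtain ⟨y, hy⟩ := Finite.injective_iff_surjective.1 hinj ⟨_, hx⟩
    have hyx := mul_left_cancel (mul_right_cancel
      (congrArg Subtype.val hy : (c : G) * g * y * ((c : G) * g)⁻¹ = (c : G) * g * x * ((c : G) * g)⁻¹))
    exact hyx ▸ y.2
  · have h := Subgroup.mem_centralizer_singleton_iff.1 c.2
    calc (c : G) * g * t * ((c : G) * g)⁻¹ = (c : G) * (g * t * g⁻¹) * (c : G)⁻¹ := by group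
      _ = tF e f := by rw [hg, h, mul_inv_cancel_right]

include D in
/-- An element of `N(T)` moves `t` into the four elements. -/
theorem move_t_mem (h1 : t ≠ 1) (he : Normal e) {n : G} (hn : n ∈ normalizer (TT e : Set G)) :
    ∃ f ∈ D.F, n * t * n⁻¹ = tF e f := by
  have htT : t ∈ TT e := (mem_TT e).2 ⟨_, one_mem _, el_t D h1⟩
  obtain ⟨⟨a, x⟩, hx, he'⟩ := (mem_TT e).1 ((Subgroup.mem_normalizer_iff.1 hn t).1 htT)
  have hsq : x * x = 1 := by
    have ht2 : t * t = 1 := by
      rw [← el_t D h1 (e := e), ← el_mul, Prod.mk_mul_mk, z2_mul_self, one_mul]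
      exact el_one e
    have : el e ((a, x) * (a, x)) = el e 1 := by
      rw [el_mul, he', el_one, show n * t * n⁻¹ * (n * t * n⁻¹) = n * (t * t) * n⁻¹ by group, ht2]
      simp
    exact congrArg Prod.snd (el_injective e this)
  have hxF : x ∈ D.F := D.mem_F.2 ⟨hx, fun y hy => by
    have hy' : el e (1, y) ∈ TT e := (mem_TT e).2 ⟨_, hy, rfl⟩
    have hz : n⁻¹ * el e (1, y) * n ∈ TT e := (Subgroup.mem_normalizer_iff''.1 hn _).1 hy'
    have hc := Subgroup.mem_centralizer_singleton_iff.1 (TT_le e hz)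
    have h' : el e (a, x) * el e (1, y) = el e (1, y) * el e (a, x) := by
      rw [he']
      calc n * t * n⁻¹ * el e (1, y) = n * (t * (n⁻¹ * el e (1, y) * n)) * n⁻¹ := by group
        _ = n * ((n⁻¹ * el e (1, y) * n) * t) * n⁻¹ := by rw [hc]
        _ = _ := by group
    rw [← el_mul, ← el_mul] at h'
    exact congrArg Prod.snd (el_injective e h')⟩
  have hconj : IsConj t (el e (a, x)) := isConj_iff.2 ⟨n, he'.symm⟩
  have ha := (he (a, x) hsq).1 hconj
  refine ⟨x, hxF, ?_⟩
  rw [← he', tF]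
  congr 1
  exact Prod.ext ((by decide : ∀ a : Z₂, a ≠ 1 → a = Multiplicative.ofAdd 1) a ha) rfl

include D in
/-- `N(T)` normalizes `W`. -/
theorem normalizes_WW (he : Normal e) {n : G} (hn : n ∈ normalizer (TT e : Set G)) :
    ∀ x ∈ WW e, n * x * n⁻¹ ∈ WW e := by
  have hgen : ∀ i, n * el e (1, D.gen i) * n⁻¹ ∈ WW e := by
    intro i
    obtain ⟨⟨a, x⟩, hx, he'⟩ := (mem_TT e).1 ((Subgroup.mem_normalizer_iff.1 hn _).1
      ((mem_TT e).2 ⟨_, D.gen_mem i, rfl⟩ : el e (1, D.gen i) ∈ TT e))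
    have hsq : x * x = 1 := by
      have : el e ((a, x) * (a, x)) = el e 1 := by
        rw [el_mul, he', el_one, show n * el e (1, D.gen i) * n⁻¹ * (n * el e (1, D.gen i) * n⁻¹) =
          n * (el e (1, D.gen i) * el e (1, D.gen i)) * n⁻¹ by group, ← el_mul, Prod.mk_mul_mk, one_mul,
          D.gen_sq]
        change n * el e 1 * n⁻¹ = 1
        rw [el_one]; simp
      exact congrArg Prod.snd (el_injective e this)
    refine (mem_WW e).2 ⟨x, hx, ?_⟩
    rw [← he']
    congr 1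
    refine Prod.ext ?_ rfl
    by_contra ha
    refine (he (1, D.gen i) (D.gen_sq i)).1 ?_ rfl
    have h := (he (a, x) hsq).2 fun h' => ha h'.symm
    exact h.trans (isConj_iff.2 ⟨n⁻¹, by
      change n⁻¹ * el e (a, x) * n⁻¹⁻¹ = el e (1, D.gen i)
      rw [he']; group⟩)
  intro x hx
  obtain ⟨w, hw, rfl⟩ := (mem_WW e).1 hx
  obtain ⟨k, -, rfl⟩ := List.mem_map.1 (D.words w hw)
  let f : Perm (Fin m) →* G := MonoidHom.mk' (fun y => n * el e (1, y) * n⁻¹) fun y y' => by
    rw [show ((1 : Z₂), y * y') = (1, y) * (1, y') by rw [Prod.mk_mul_mk, one_mul], el_mul]; group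
  have hf1 : ∀ i (b : Bool), f (if b then D.gen i else 1) ∈ WW e := fun i b => by
    cases b
    · rw [if_neg Bool.false_ne_true, map_one]; exact one_mem _
    · rw [if_pos rfl]; exact hgen i
  show f _ ∈ WW e
  rw [map_mul, map_mul, map_mul]
  exact mul_mem (mul_mem (mul_mem (hf1 _ _) (hf1 _ _)) (hf1 _ _)) (hf1 _ _)

include D in
/-- `N(T)` normalizes the centre of `W`. -/
theorem normalizes_F (he : Normal e) {n : G} (hn : n ∈ normalizer (TT e : Set G)) {f : Perm (Fin m)}
    (hf : f ∈ D.F) : ∃ f' ∈ D.F, n * el e (1, f) * n⁻¹ = el e (1, f') := by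
  obtain ⟨f', hf'W, hf'⟩ := (mem_WW e).1
    (normalizes_WW D he hn _ ((mem_WW e).2 ⟨f, (D.mem_F.1 hf).1, rfl⟩))
  refine ⟨f', D.mem_F.2 ⟨hf'W, fun y hy => ?_⟩, hf'.symm⟩
  obtain ⟨y', hy'W, hy'⟩ := (mem_WW e).1
    (normalizes_WW D he (inv_mem hn) _ ((mem_WW e).2 ⟨y, hy, rfl⟩))
  rw [inv_inv] at hy'
  have hc : el e (1, f) * el e (1, y') = el e (1, y') * el e (1, f) := by
    rw [← el_mul, ← el_mul, Prod.mk_mul_mk, Prod.mk_mul_mk, (D.mem_F.1 hf).2 y' hy'W]
  have h' : el e (1, f') * el e (1, y) = el e (1, y) * el e (1, f') := by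
    rw [hf', show el e (1, y) = n * el e (1, y') * n⁻¹ by rw [hy']; group]
    calc n * el e (1, f) * n⁻¹ * (n * el e (1, y') * n⁻¹) = n * (el e (1, f) * el e (1, y')) * n⁻¹ := by group
      _ = _ := by rw [hc]; group
  rw [← el_mul, ← el_mul] at h'
  exact congrArg Prod.snd (el_injective e h')

include D in
/-- `N(T)` fixes `z`. -/
theorem fixes_z (he : Normal e) {n : G} (hn : n ∈ normalizer (TT e : Set G)) :
    n * el e (1, D.z) * n⁻¹ = el e (1, D.z) := by
  obtain ⟨x, hx, hx'⟩ := (mem_WW e).1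
    (normalizes_WW D he hn _ ((mem_WW e).2 ⟨D.gen 0, D.gen_mem 0, rfl⟩))
  obtain ⟨y, hy, hy'⟩ := (mem_WW e).1
    (normalizes_WW D he hn _ ((mem_WW e).2 ⟨D.gen 2, D.gen_mem 2, rfl⟩))
  have hz : n * el e (1, D.z) * n⁻¹ = el e (1, x * y * x⁻¹ * y⁻¹) := by
    have hcz : el e (1, D.z) = el e (1, D.gen 0) * el e (1, D.gen 2) * (el e (1, D.gen 0))⁻¹ *
        (el e (1, D.gen 2))⁻¹ := by
      rw [← el_inv, ← el_inv, ← el_mul, ← el_mul, ← el_mul]
      congr 1
      simp only [Prod.inv_mk, inv_one, Prod.mk_mul_mk, one_mul,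
        inv_eq_of_mul_eq_one_right (D.gen_sq 0), inv_eq_of_mul_eq_one_right (D.gen_sq 2), D.gen_comm]
      rfl
    have hxy : el e (1, x * y * x⁻¹ * y⁻¹) = el e (1, x) * el e (1, y) * (el e (1, x))⁻¹ * (el e (1, y))⁻¹ := by
      rw [← el_inv, ← el_inv, ← el_mul, ← el_mul, ← el_mul]
      simp only [Prod.inv_mk, inv_one, Prod.mk_mul_mk, one_mul]
    rw [hxy, hx', hy', hcz]
    group
  obtain ⟨k, hk, rfl⟩ := List.mem_map.1 (D.words x hx)
  obtain ⟨l, hl, rfl⟩ := List.mem_map.1 (D.words y hy)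
  have h := D.derived k (List.mem_range.1 hk) l (List.mem_range.1 hl)
  simp only [List.mem_cons, List.not_mem_nil, or_false] at h
  rcases h with h | h
  · exfalso
    rw [h] at hz
    change n * el e (1, D.z) * n⁻¹ = el e 1 at hz
    rw [el_one] at hz
    have hzz : el e (1, D.z) = el e 1 := by
      rw [el_one]; exact mul_left_cancel (mul_right_cancel (b := n⁻¹) (by rw [hz]; simp :
        n * el e (1, D.z) * n⁻¹ = n * 1 * n⁻¹))
    exact D.z_ne.1 (congrArg Prod.snd (el_injective e hzz))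
  · rw [hz, h]; rfl

include D in
/-- `N(T) ∩ C(t) = T`. -/
theorem normalizer_inf_centralizer (h1 : t ≠ 1) :
    normalizer (TT e : Set G) ⊓ Subgroup.centralizer ({t} : Set G) = TT e := by
  refine le_antisymm (fun x hx => ?_) (le_inf Subgroup.le_normalizer (TT_le e))
  obtain ⟨hn, hc⟩ := hx
  set p := e ⟨x, hc⟩ with hp
  have hxp : el e p = x := by rw [el, hp, e.symm_apply_apply]
  refine (mem_TT e).2 ⟨p, D.self _ fun i => ?_, hxp⟩
  have hg : el e (1, D.gen i) ∈ TT e := (mem_TT e).2 ⟨_, D.gen_mem i, rfl⟩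
  have h := (Subgroup.mem_normalizer_iff.1 hn _).1 hg
  rw [← hxp, ← el_inv, ← el_mul, ← el_mul] at h
  obtain ⟨q, hq, hq'⟩ := (mem_TT e).1 h
  rw [el_injective e hq'] at hq
  simpa using hq

include D in
/-- `N(T)` has order 128. -/
theorem card_normalizer (h1 : t ≠ 1) (he : Normal e) : Nat.card (normalizer (TT e : Set G)) = 128 := by
  classical
  set N := normalizer (TT e : Set G) with hN
  have hFn : D.F.Nodup := by
    obtain ⟨a, b⟩ := D.z_ne
    have hs : D.gen 3 ≠ 1 := by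
      intro hs
      have hc := D.card
      have hsub : ∀ x ∈ W0 m, x ∈ (List.range 8).map (fun k => (if k.testBit 0 then D.gen 0 else 1) *
          (if k.testBit 1 then D.gen 1 else 1) * (if k.testBit 2 then D.gen 2 else 1)) := by
        intro x hx
        obtain ⟨k, hk, rfl⟩ := List.mem_map.1 (D.words x hx)
        refine List.mem_map.2 ⟨k % 8, List.mem_range.2 (Nat.mod_lt _ (by norm_num)), ?_⟩
        have hbit : ∀ i < 3, (k % 8).testBit i = k.testBit i := fun i hi => by
          rw [show (8 : ℕ) = 2 ^ 3 from rfl, Nat.testBit_mod_two_pow]; simp [hi]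
        simp only [hbit 0 (by norm_num), hbit 1 (by norm_num), hbit 2 (by norm_num), hs, ite_self, mul_one]
      have hle : Nat.card (W0 m) ≤ 8 := by
        set L := (List.range 8).map (fun k => (if k.testBit 0 then D.gen 0 else 1) *
            (if k.testBit 1 then D.gen 1 else 1) * (if k.testBit 2 then D.gen 2 else 1)) with hL
        have hss : ((W0 m : Subgroup _) : Set (Perm (Fin m))) ⊆ ↑L.toFinset := fun x hx =>
          List.mem_toFinset.2 (hsub x hx)
        have h8 : L.toFinset.card ≤ 8 := (List.toFinset_card_le _).trans_eq (by simp [hL])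
        rw [← Set.ncard_coe_finset] at h8
        exact ((Nat.card_coe_set_eq _).trans_le (Set.ncard_le_ncard hss)).trans h8
      omega
    change [1, D.z, D.gen 3, D.z * D.gen 3].Nodup
    have h4 : D.z * D.gen 3 ≠ 1 := fun h => b (by
      change D.z = D.gen 3
      rw [eq_inv_of_mul_eq_one_left h, inv_eq_of_mul_eq_one_right (D.gen_sq 3)])
    simp only [List.nodup_cons, List.mem_cons, List.not_mem_nil, or_false, not_or, List.nodup_nil,
      and_true, not_false_iff]
    exact ⟨⟨Ne.symm a, Ne.symm hs, Ne.symm h4⟩, ⟨b, fun h => hs (mul_eq_left.1 h.symm)⟩,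
      fun h => a (mul_eq_right.1 h.symm)⟩
  let φ : N → {f // f ∈ D.F} := fun n => ⟨(move_t_mem D h1 he n.2).choose, (move_t_mem D h1 he n.2).choose_spec.1⟩
  have hφ : ∀ n : N, (n : G) * t * (n : G)⁻¹ = tF e (φ n : Perm (Fin m)) := fun n =>
    (move_t_mem D h1 he n.2).choose_spec.2
  have hsur : ∀ f : {f // f ∈ D.F}, ∃ n : N, φ n = f := fun f => by
    obtain ⟨n, hn, hn'⟩ := exists_move_t D he f.2
    exact ⟨⟨n, hn⟩, Subtype.ext (congrArg Prod.snd (el_injective e ((hφ ⟨n, hn⟩).symm.trans hn')))⟩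
  choose σ hσ using hsur
  have hmem : ∀ n : N, (σ (φ n) : G)⁻¹ * n ∈ TT e := by
    intro n
    rw [← normalizer_inf_centralizer D h1]
    refine ⟨(N.mul_mem (N.inv_mem (σ (φ n)).2) n.2 : (σ (φ n) : G)⁻¹ * (n : G) ∈ N),
      Subgroup.mem_centralizer_singleton_iff.2 ?_⟩
    have e2 := hφ (σ (φ n))
    rw [hσ] at e2
    have e3 : (n : G) * t = (σ (φ n) : G) * t * (σ (φ n) : G)⁻¹ * n :=
      mul_inv_eq_iff_eq_mul.1 ((hφ n).trans e2.symm)
    calc (σ (φ n) : G)⁻¹ * n * t = (σ (φ n) : G)⁻¹ * ((n : G) * t) := by group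
      _ = _ := by rw [e3]; group
  let ψ : N ≃ {f // f ∈ D.F} × TT e :=
    { toFun := fun n => (φ n, ⟨_, hmem n⟩)
      invFun := fun p => ⟨(σ p.1 : G) * p.2, mul_mem (σ p.1).2 (Subgroup.le_normalizer p.2.2)⟩
      left_inv := fun n => Subtype.ext (mul_inv_cancel_left _ _)
      right_inv := fun p => by
        have hc := Subgroup.mem_centralizer_singleton_iff.1 (TT_le e p.2.2)
        have hp : φ ⟨(σ p.1 : G) * p.2, mul_mem (σ p.1).2 (Subgroup.le_normalizer p.2.2)⟩ = p.1 := by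
          have key : tF e (φ ⟨(σ p.1 : G) * p.2, mul_mem (σ p.1).2 (Subgroup.le_normalizer p.2.2)⟩ : Perm (Fin m)) =
              tF e (p.1 : Perm (Fin m)) := by
            rw [← hφ]
            change (σ p.1 : G) * (p.2 : G) * t * ((σ p.1 : G) * (p.2 : G))⁻¹ = tF e (p.1 : Perm (Fin m))
            calc (σ p.1 : G) * (p.2 : G) * t * ((σ p.1 : G) * (p.2 : G))⁻¹ =
                (σ p.1 : G) * ((p.2 : G) * t) * (p.2 : G)⁻¹ * (σ p.1 : G)⁻¹ := by group
              _ = (σ p.1 : G) * t * (σ p.1 : G)⁻¹ := by rw [hc]; group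
              _ = _ := by rw [hφ, hσ]
          exact Subtype.ext (congrArg Prod.snd (el_injective e key))
        refine Prod.ext hp (Subtype.ext ?_)
        simp [hp] }
  rw [Nat.card_congr ψ, Nat.card_prod, card_TT D e,
    Nat.card_congr (Equiv.subtypeEquivRight fun f => (List.mem_toFinset).symm), Nat.card_eq_finsetCard,
    List.toFinset_card_of_nodup hFn]
  rfl

include D in
/-- A square is not conjugate to `t`. -/
theorem not_conj_sq (e : Subgroup.centralizer ({t} : Set G) ≃* Z₂ × Perm (Fin m)) (h1 : t ≠ 1) (g : G) : ¬ IsConj t (g * g) := by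
  intro h
  obtain ⟨k, hk⟩ := isConj_iff.1 h
  set d := k⁻¹ * g * k with hd
  have hdd : d * d = t := by
    rw [hd, show k⁻¹ * g * k * (k⁻¹ * g * k) = k⁻¹ * (g * g) * k by group, ← hk]; group
  have hdC : d ∈ Subgroup.centralizer ({t} : Set G) := Subgroup.mem_centralizer_singleton_iff.2
    (calc d * t = d * (d * d) := congrArg (d * ·) hdd.symm
      _ = d * d * d := (mul_assoc _ _ _).symm
      _ = t * d := congrArg (· * d) hdd)
  have h2 : e ⟨t, self_mem⟩ = e ⟨d, hdC⟩ * e ⟨d, hdC⟩ := by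
    rw [← map_mul]; exact congrArg e (Subtype.ext hdd.symm)
  rw [apply_t D.base e h1] at h2
  exact (by decide : ∀ a : Z₂, Multiplicative.ofAdd (1 : ZMod 2) ≠ a * a) _ (congrArg Prod.fst h2)

end Finite

/-- The generators, degree six. -/
def genSix : Fin 4 → Perm (Fin 6) := ![swap 0 1, swap 2 3, swap 0 2 * swap 1 3, swap 4 5]

/-- The generators, degree seven. -/
def genSeven : Fin 4 → Perm (Fin 7) := ![swap 0 1, swap 2 3, swap 0 2 * swap 1 3, swap 4 5]

set_option maxHeartbeats 4000000 in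
/-- Degree six. -/
def frameSix : FrameDeg 6 where
  base := baseSix
  gen := genSix
  gen_sq := by decide +kernel
  gen_mem := by decide +kernel
  gen_comm := by decide +kernel
  z_ne := by decide +kernel
  words := by decide +kernel
  card := by rw [Nat.card_eq_fintype_card]; decide +kernel
  centre := by decide +kernel
  derived := by decide +kernel
  self := by decide +kernel

set_option maxHeartbeats 4000000 in
/-- Degree seven. -/
def frameSeven : FrameDeg 7 where
  base := baseSeven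
  gen := genSeven
  gen_sq := by decide +kernel
  gen_mem := by decide +kernel
  gen_comm := by decide +kernel
  z_ne := by decide +kernel
  words := by decide +kernel
  card := by rw [Nat.card_eq_fintype_card]; decide +kernel
  centre := by decide +kernel
  derived := by decide +kernel
  self := by decide +kernel

end Cfsg.Lib.Extra.InvS6
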