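import Cfsg.Agent.Lib.Extra.InvS6.SmallSylow

/-!
# Fusion of `t` inside the normalizer of `T`, in any coordinates

The six values `b` of the indicator of `t^G` on the involutions of `C(t)`, the counting of that class on
a listed subgroup, and Burnside's moves in `N(T)`.
-/

set_option autoImplicit false
set_option linter.style.haveILetI false
set_option linter.unusedSectionVars false
set_option maxRecDepth 100000

namespace Cfsg.Lib.Extra.InvS6

open Subgroup MulAction Equiv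

variable {G : Type*} [Group G] [Finite G] {t : G} {m : ℕ}

local notation "Z₂" => Multiplicative (ZMod 2)
local notation "τ₁" => (Multiplicative.ofAdd (1 : ZMod 2))

/-- The conjugates of `t` in the centralizer are given by six values. -/
theorem exists_vals (D : SmallDeg m) (e : Subgroup.centralizer ({t} : Set G) ≃* Z₂ × Perm (Fin m))
    (ht : t * t = 1) (h1 : t ≠ 1) :
    ∃ b : Fin 2 → Fin 3 → Bool, b 0 1 = false ∧ ∀ p, IsConj t (el e p) ↔ val b p = true := by
  classical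
  have helt : el e (τ₁, 1) = t := by rw [← apply_t D.D.base e h1, el, e.symm_apply_apply]
  have hmul2 : ∀ p, IsConj t (el e p) → p.2 * p.2 = 1 := by
    intro p hp
    obtain ⟨g, hg⟩ := isConj_iff.1 hp
    have : el e (p * p) = el e 1 := by
      rw [el_mul, ← hg, el_one, show g * t * g⁻¹ * (g * t * g⁻¹) = g * (t * t) * g⁻¹ by group, ht]
      simp
    exact congrArg Prod.snd (el_injective e this)
  have hconj : ∀ (a : Z₂) (x y : Perm (Fin m)), IsConj x y → IsConj t (el e (a, x)) → IsConj t (el e (a, y)) := by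
    intro a x y hxy hp
    obtain ⟨g, rfl⟩ := isConj_iff.1 hxy
    refine hp.trans (isConj_iff.2 ⟨el e (1, g), ?_⟩)
    rw [← el_inv, ← el_mul, ← el_mul]
    simp
  obtain ⟨hs0, hs1, hs2, hs3, hs4⟩ := D.s_idx
  let rep : Fin 3 → Perm (Fin m) := ![D.D.gen 3, D.D.z, D.D.z * D.D.gen 3]
  have hrep : ∀ k, rep k ∈ D.D.F ∧ rep k ≠ 1 ∧ supIdx (rep k) = k := by
    intro k; fin_cases k
    exacts [⟨by simp [FrameDeg.F, rep], hs4, hs0⟩, ⟨by simp [FrameDeg.F, rep], D.D.z_ne.1, hs1⟩,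
      ⟨by simp [FrameDeg.F, rep], hs3, hs2⟩]
  refine ⟨fun i k => decide (IsConj t (el e (if i = 0 then 1 else τ₁, rep k))), ?_, ?_⟩
  · rw [decide_eq_false_iff_not]
    show ¬ IsConj t (el e (1, D.D.z))
    have hzsq : el e (1, D.D.z) = el e (1, D.D.gen 0 * D.D.gen 2) * el e (1, D.D.gen 0 * D.D.gen 2) := by
      rw [← el_mul]
      congr 1
      refine Prod.ext (one_mul 1).symm ?_
      show D.D.z = D.D.gen 0 * D.D.gen 2 * (D.D.gen 0 * D.D.gen 2)
      rw [FrameDeg.z, ← D.D.gen_comm]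
      simp only [mul_assoc]
    rw [hzsq]
    exact not_conj_sq D.D e h1 _
  rintro ⟨a, x⟩
  by_cases hx2 : x * x = 1
  · by_cases hx : x = 1
    · subst hx
      rcases z2_cases a with rfl | rfl
      · refine ⟨fun h => absurd ?_ h1, fun h => by simp [val] at h⟩
        obtain ⟨g, hg⟩ := isConj_iff.1 h
        change g * t * g⁻¹ = el e 1 at hg
        rw [el_one] at hg
        exact mul_left_cancel (mul_right_cancel (by rw [hg]; simp : g * t * g⁻¹ = g * 1 * g⁻¹))
      · refine ⟨fun _ => by simp [val], fun _ => ?_⟩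
        rw [helt]
    · obtain ⟨hF, hr1, hri⟩ := hrep (supIdx x)
      have hiso : IsConj x (rep (supIdx x)) :=
        isConj_of_supIdx D.L.le hx2 (D.D.F_sq hF) hx hr1 hri.symm
      rw [val, if_pos hx2, if_neg hx, decide_eq_true_iff, eps_back a]
      exact ⟨hconj a _ _ hiso, hconj a _ _ hiso.symm⟩
  · simp only [val, if_neg hx2, Bool.false_eq_true, iff_false]
    exact fun h => hx2 (hmul2 _ h)

variable (e : Subgroup.centralizer ({t} : Set G) ≃* Z₂ × Perm (Fin m))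

/-- The class of `t` on a listed subgroup. -/
theorem card_lift_class {b : Fin 2 → Fin 3 → Bool} (hval : ∀ p, IsConj t (el e p) ↔ val b p = true)
    {L : List (Z₂ × Perm (Fin m))} {o1 : (1 : Z₂ × Perm (Fin m)) ∈ L}
    {om : ∀ x ∈ L, ∀ y ∈ L, x * y ∈ L} {oi : ∀ x ∈ L, x⁻¹ ∈ L} (hn : L.Nodup) :
    Nat.card {x : G // x ∈ lift e (listSub L o1 om oi) ∧ IsConj t x} = (L.filter (val b)).length := by
  rw [← List.toFinset_card_of_nodup (hn.filter _), ← Nat.card_eq_finsetCard]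
  set H := lift e (listSub L o1 om oi) with hH
  let g : ↥(L.filter (val b)).toFinset → {x : G // x ∈ H ∧ IsConj t x} := fun p =>
    ⟨el e p.1, (mem_lift e).2 ⟨p.1, (List.mem_filter.1 (List.mem_toFinset.1 p.2)).1, rfl⟩,
      (hval _).2 (List.mem_filter.1 (List.mem_toFinset.1 p.2)).2⟩
  refine (Nat.card_congr (Equiv.ofBijective g ⟨?_, ?_⟩)).symm
  · intro p p' h
    have h0 : el e p.1 = el e p'.1 := congrArg (fun x : {x : G // x ∈ H ∧ IsConj t x} => x.1) h
    exact Subtype.ext (el_injective e h0)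
  · rintro ⟨x, hxH, hxX⟩
    obtain ⟨p, hp, rfl⟩ := (mem_lift e).1 hxH
    exact ⟨⟨p, List.mem_toFinset.2 (List.mem_filter.2 ⟨hp, (hval _).1 hxX⟩)⟩, rfl⟩

variable {e}

/-- `T` centralizes the elements with central coordinates. -/
theorem TT_le_centralizer (D : FrameDeg m) {p : Z₂ × Perm (Fin m)} (hp : p.2 ∈ D.F) :
    TT e ≤ Subgroup.centralizer ({el e p} : Set G) := by
  intro x hx
  obtain ⟨q, hq, rfl⟩ := (mem_TT e).1 hx
  refine Subgroup.mem_centralizer_singleton_iff.2 ?_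
  rw [← el_mul, ← el_mul]
  exact congrArg (el e) (Prod.ext (mul_comm _ _) ((D.mem_F.1 hp).2 _ hq).symm)

/-- Burnside: a conjugate of `t` in the centre of `T` is its image under `N(T)`. -/
theorem exists_normalizer_move (D : FrameDeg m) {p : Z₂ × Perm (Fin m)} (hpF : p.2 ∈ D.F)
    (hpX : IsConj t (el e p)) : ∃ n ∈ normalizer (TT e : Set G), n * t * n⁻¹ = el e p := by
  haveI : Fact (Nat.Prime 2) := ⟨Nat.prime_two⟩
  obtain ⟨g, hg⟩ := isConj_iff.1 hpX
  set A := Subgroup.centralizer ({el e p} : Set G) with hA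
  have hTA : TT e ≤ A := TT_le_centralizer D hpF
  have hconjC : ∀ x, x ∈ A → g⁻¹ * x * g ∈ Subgroup.centralizer ({t} : Set G) := fun x hx => by
    refine Subgroup.mem_centralizer_singleton_iff.2 ?_
    have h : x * (g * t * g⁻¹) = g * t * g⁻¹ * x := by
      rw [hg]; exact Subgroup.mem_centralizer_singleton_iff.1 hx
    calc g⁻¹ * x * g * t = g⁻¹ * (x * (g * t * g⁻¹)) * g := by group
      _ = _ := by rw [h]; group
  have hmax : ∀ P : Subgroup G, IsPGroup 2 P → TT e ≤ P → P ≤ A → P = TT e := by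
    intro P hP hle hPA
    obtain ⟨k, hk⟩ := IsPGroup.iff_card.mp hP
    have h2 : 2 ^ k ∣ Nat.card (Subgroup.centralizer ({t} : Set G)) := by
      have hsub : P.map (MulAut.conj g⁻¹).toMonoidHom ≤ Subgroup.centralizer ({t} : Set G) := by
        rintro _ ⟨x, hx, rfl⟩
        show g⁻¹ * x * g⁻¹⁻¹ ∈ _
        rw [inv_inv]; exact hconjC x (hPA hx)
      have := Subgroup.card_dvd_of_le hsub
      rwa [Subgroup.card_map_of_injective (MulAut.conj g⁻¹).injective, hk] at this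
    have hk5 := (pow_dvd_card D.base e k).1 h2
    refine (Subgroup.eq_of_le_of_card_ge hle ?_).symm
    rw [hk, card_TT D e, show (32 : ℕ) = 2 ^ 5 by norm_num]
    exact Nat.pow_le_pow_right (by norm_num) hk5
  set T' : Subgroup G := (TT e).map (MulAut.conj g).toMonoidHom with hT'
  have hT'A : T' ≤ A := by
    rintro _ ⟨x, hx, rfl⟩
    refine Subgroup.mem_centralizer_singleton_iff.2 ?_
    show g * x * g⁻¹ * el e p = el e p * (g * x * g⁻¹)
    rw [← hg]
    have h := Subgroup.mem_centralizer_singleton_iff.1 (TT_le e hx)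
    calc g * x * g⁻¹ * (g * t * g⁻¹) = g * (x * t) * g⁻¹ := by group
      _ = _ := by rw [h]; group
  have h1' : IsPGroup 2 ((TT e).subgroupOf A) :=
    (TT_two D).of_equiv (Subgroup.subgroupOfEquivOfLe hTA).symm
  have h2' : IsPGroup 2 (T'.subgroupOf A) :=
    ((TT_two D).map (MulAut.conj g).toMonoidHom).of_equiv (Subgroup.subgroupOfEquivOfLe hT'A).symm
  obtain ⟨P, hP⟩ := h1'.exists_le_sylow
  obtain ⟨P', hP'⟩ := h2'.exists_le_sylow
  have hPT : (P : Subgroup A).map A.subtype = TT e :=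
    hmax _ (P.2.map _) (fun x hx => ⟨⟨x, hTA hx⟩, hP hx, rfl⟩) (by rintro _ ⟨x, -, rfl⟩; exact x.2)
  obtain ⟨c, hc⟩ := MulAction.exists_smul_eq A P' P
  refine ⟨(c : G) * g, ?_, ?_⟩
  · have hle : (TT e).map (MulAut.conj ((c : G) * g)).toMonoidHom ≤ TT e := by
      rintro _ ⟨y, hy, rfl⟩
      have hy' : g * y * g⁻¹ ∈ T' := ⟨y, hy, rfl⟩
      show (c : G) * g * y * ((c : G) * g)⁻¹ ∈ TT e
      refine hPT.le ?_
      refine ⟨c * ⟨g * y * g⁻¹, hT'A hy'⟩ * c⁻¹, ?_, ?_⟩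
      · rw [← hc]; exact ⟨⟨g * y * g⁻¹, hT'A hy'⟩, hP' hy', rfl⟩
      · show (c : G) * (g * y * g⁻¹) * (c : G)⁻¹ = (c : G) * g * y * ((c : G) * g)⁻¹
        group
    have heq : (TT e).map (MulAut.conj ((c : G) * g)).toMonoidHom = TT e :=
      Subgroup.eq_of_le_of_card_ge hle
        (by rw [Subgroup.card_map_of_injective (MulAut.conj ((c : G) * g)).injective])
    refine Subgroup.mem_normalizer_iff.2 fun y => ⟨fun hy => hle ⟨y, hy, rfl⟩, fun hy => ?_⟩
    obtain ⟨y', hy', e'⟩ := heq.ge hy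
    rw [← (MulAut.conj ((c : G) * g)).injective e']
    exact hy'
  · have h := Subgroup.mem_centralizer_singleton_iff.1 c.2
    calc (c : G) * g * t * ((c : G) * g)⁻¹ = (c : G) * (g * t * g⁻¹) * (c : G)⁻¹ := by group
      _ = el e p := by rw [hg, h, mul_inv_cancel_right]

/-- `N(T)` keeps the elements with central coordinates. -/
theorem normalizer_central (D : FrameDeg m) {n : G} (hn : n ∈ normalizer (TT e : Set G))
    {p : Z₂ × Perm (Fin m)} (hp : p.2 ∈ D.F) : ∃ q : Z₂ × Perm (Fin m), q.2 ∈ D.F ∧ n * el e p * n⁻¹ = el e q := by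
  obtain ⟨q, hq, hq'⟩ := (mem_TT e).1 ((Subgroup.mem_normalizer_iff.1 hn _).1
    ((mem_TT e).2 ⟨p, (D.mem_F.1 hp).1, rfl⟩ : el e p ∈ TT e))
  refine ⟨q, D.mem_F.2 ⟨hq, fun y hy => ?_⟩, hq'.symm⟩
  have hy' : el e (1, y) ∈ TT e := (mem_TT e).2 ⟨_, hy, rfl⟩
  have hz : n⁻¹ * el e (1, y) * n ∈ TT e := (Subgroup.mem_normalizer_iff''.1 hn _).1 hy'
  have hc := Subgroup.mem_centralizer_singleton_iff.1 (TT_le_centralizer D hp hz)
  have h' : el e q * el e (1, y) = el e (1, y) * el e q := by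
    rw [hq']
    calc n * el e p * n⁻¹ * el e (1, y) = n * (el e p * (n⁻¹ * el e (1, y) * n)) * n⁻¹ := by group
      _ = n * ((n⁻¹ * el e (1, y) * n) * el e p) * n⁻¹ := by rw [hc]
      _ = _ := by group
  rw [← el_mul, ← el_mul] at h'
  exact congrArg Prod.snd (el_injective e h')

/-- `N(T)` fixes `z`. -/
theorem normalizer_fix_z (D : FrameDeg m) {n : G} (hn : n ∈ normalizer (TT e : Set G)) :
    n * el e (1, D.z) * n⁻¹ = el e (1, D.z) := by
  have himg : ∀ i, ∃ q : Z₂ × Perm (Fin m), q.2 ∈ W0 m ∧ el e q = n * el e (1, D.gen i) * n⁻¹ := fun i =>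
    (mem_TT e).1 ((Subgroup.mem_normalizer_iff.1 hn _).1 ((mem_TT e).2 ⟨_, D.gen_mem i, rfl⟩))
  obtain ⟨⟨α, x⟩, hx, hx'⟩ := himg 0
  obtain ⟨⟨β, y⟩, hy, hy'⟩ := himg 2
  have hz : n * el e (1, D.z) * n⁻¹ = el e (1, x * y * x⁻¹ * y⁻¹) := by
    have hcz : el e (1, D.z) = el e (1, D.gen 0) * el e (1, D.gen 2) * (el e (1, D.gen 0))⁻¹ *
        (el e (1, D.gen 2))⁻¹ := by
      rw [← el_inv, ← el_inv, ← el_mul, ← el_mul, ← el_mul]
      congr 1
      simp only [Prod.inv_mk, inv_one, Prod.mk_mul_mk, one_mul,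
        inv_eq_of_mul_eq_one_right (D.gen_sq 0), inv_eq_of_mul_eq_one_right (D.gen_sq 2), D.gen_comm]
      rfl
    have hxy : el e (1, x * y * x⁻¹ * y⁻¹) = el e (α, x) * el e (β, y) * (el e (α, x))⁻¹ * (el e (β, y))⁻¹ := by
      rw [← el_inv, ← el_inv, ← el_mul, ← el_mul, ← el_mul]
      congr 1
      refine Prod.ext ?_ rfl
      show (1 : Z₂) = α * β * α⁻¹ * β⁻¹
      rw [mul_comm α β, mul_assoc β α, mul_inv_cancel, mul_one, mul_inv_cancel]
    rw [hxy, hx', hy', hcz]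
    group
  obtain ⟨k, hk, rfl⟩ := List.mem_map.1 (D.words x hx)
  obtain ⟨l, hl, rfl⟩ := List.mem_map.1 (D.words y hy)
  have h := D.derived k (List.mem_range.1 hk) l (List.mem_range.1 hl)
  simp only [List.mem_cons, List.not_mem_nil, or_false] at h
  rcases h with h | h
  · exfalso
    rw [h] at hz
    change n * el e (1, D.z) * n⁻¹ = el e 1 at hz
    rw [el_one] at hz
    have hzz : el e (1, D.z) = el e 1 := by
      rw [el_one]; exact mul_left_cancel (mul_right_cancel (b := n⁻¹) (by rw [hz]; simp :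
        n * el e (1, D.z) * n⁻¹ = n * 1 * n⁻¹))
    exact D.z_ne.1 (congrArg Prod.snd (el_injective e hzz))
  · rw [hz, h]; rfl

theorem el_mem_EE (S : Side m) {p : Z₂ × Perm (Fin m)} :
    el e p ∈ EE S.B e ↔ p.2 ∈ cube (S.B.r 0) (S.B.r 1) (S.B.r 2) := by
  constructor
  · intro h
    obtain ⟨h', hU⟩ := (mem_EE S.B e).1 h
    change (e (e.symm p)).2 ∈ S.B.U at hU
    rwa [e.apply_symm_apply] at hU
  · intro h
    refine (mem_EE S.B e).2 ⟨(e.symm p).2, ?_⟩
    show (e (e.symm p)).2 ∈ S.B.U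
    rw [e.apply_symm_apply]
    exact h

/-- An element of `N(T)` carries each of the two elementary subgroups to one of them. -/
theorem map_EE (D : SmallDeg m) {n : G} (hn : n ∈ normalizer (TT e : Set G)) :
    ((∀ x ∈ EE D.S1.B e, n * x * n⁻¹ ∈ EE D.S1.B e) ∧ ∀ x ∈ EE D.S2.B e, n * x * n⁻¹ ∈ EE D.S2.B e) ∨
      ((∀ x ∈ EE D.S1.B e, n * x * n⁻¹ ∈ EE D.S2.B e) ∧ ∀ x ∈ EE D.S2.B e, n * x * n⁻¹ ∈ EE D.S1.B e) := by
  classical
  have hET : ∀ S : Side m, EE S.B e ≤ TT e := fun S x hx => by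
    obtain ⟨h, hU⟩ := (mem_EE S.B e).1 hx
    exact (mem_TT e).2 ⟨e ⟨x, h⟩, S.le_W _ hU, by rw [el, e.symm_apply_apply]⟩
  have htwo : ∀ S : Side m, (∀ x ∈ EE S.B e, n * x * n⁻¹ ∈ EE D.S1.B e) ∨
      (∀ x ∈ EE S.B e, n * x * n⁻¹ ∈ EE D.S2.B e) := by
    intro S
    by_cases hA : ∀ x ∈ EE S.B e, n * x * n⁻¹ ∈ EE D.S1.B e
    · exact Or.inl hA
    refine Or.inr fun x hx => ?_
    push Not at hA
    obtain ⟨y, hy, hy1⟩ := hA
    have hco : ∀ x ∈ EE S.B e, ∃ p : Z₂ × Perm (Fin m), p.2 ∈ W0 m ∧ el e p = n * x * n⁻¹ ∧ p.2 * p.2 = 1 := by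
      intro x hx
      obtain ⟨p, hp, hpx⟩ := (mem_TT e).1 ((Subgroup.mem_normalizer_iff.1 hn x).1 (hET S hx))
      refine ⟨p, hp, hpx, ?_⟩
      have : el e (p * p) = el e 1 := by
        rw [el_mul, hpx, el_one, show n * x * n⁻¹ * (n * x * n⁻¹) = n * (x * x) * n⁻¹ by group,
          sq_EE S.B e hx]
        simp
      exact congrArg Prod.snd (el_injective e this)
    obtain ⟨p, hp, hpx, hp2⟩ := hco x hx
    obtain ⟨q, hq, hqy, hq2⟩ := hco y hy
    have hqU : q.2 ∈ cube (D.S2.B.r 0) (D.S2.B.r 1) (D.S2.B.r 2) :=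
      (D.invol _ hq hq2).resolve_left fun h => hy1 (hqy ▸ (el_mem_EE D.S1).2 h)
    rw [← hpx]
    refine (el_mem_EE D.S2).2 ?_
    rcases D.invol _ hp hp2 with h | h
    swap
    · exact h
    have hxy : x * y = y * x := by
      have h := sq_EE S.B e (mul_mem hx hy)
      calc x * y = (x * y)⁻¹ := (inv_eq_of_mul_eq_one_right h).symm
        _ = y * x := by
          rw [mul_inv_rev, inv_eq_of_mul_eq_one_right (sq_EE S.B e hx),
            inv_eq_of_mul_eq_one_right (sq_EE S.B e hy)]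
    have hc : el e (p * q) = el e (q * p) := by
      rw [el_mul, el_mul, hpx, hqy]
      calc n * x * n⁻¹ * (n * y * n⁻¹) = n * (x * y) * n⁻¹ := by group
        _ = _ := by rw [hxy]; group
    rcases D.apart _ h _ hqU (congrArg Prod.snd (el_injective e hc)) with h' | h'
    · exact h'
    · exact absurd (hqy ▸ (el_mem_EE D.S1).2 h') hy1
  have hne : ∀ S : Side m, (S = D.S1 ∨ S = D.S2) →
      ¬ ((∀ x ∈ EE D.S1.B e, n * x * n⁻¹ ∈ EE S.B e) ∧ ∀ x ∈ EE D.S2.B e, n * x * n⁻¹ ∈ EE S.B e) := by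
    rintro S - ⟨ha, hb⟩
    have himg : ∀ S' : Side m, (∀ x ∈ EE S'.B e, n * x * n⁻¹ ∈ EE S.B e) →
        (EE S'.B e).map (MulAut.conj n).toMonoidHom = EE S.B e := fun S' h =>
      Subgroup.eq_of_le_of_card_ge (by rintro _ ⟨x, hx, rfl⟩; exact h x hx)
        (by rw [Subgroup.card_map_of_injective (MulAut.conj n).injective, card_EE, card_EE])
    have h12 := Subgroup.map_injective (MulAut.conj n).injective ((himg _ ha).trans (himg _ hb).symm)
    refine D.ne_side.2 fun x hx => ?_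
    have := (el_mem_EE (e := e) D.S1 (p := (1, x))).2 hx
    rw [h12] at this
    exact (el_mem_EE D.S2).1 this
  rcases htwo D.S1 with a | a <;> rcases htwo D.S2 with c | c
  · exact absurd ⟨a, c⟩ (hne D.S1 (Or.inl rfl))
  · exact Or.inl ⟨a, c⟩
  · exact Or.inr ⟨a, c⟩
  · exact absurd ⟨a, c⟩ (hne D.S2 (Or.inr rfl))

/-- An element mapping a finite subgroup into itself normalizes it. -/
theorem mem_normalizer_of_forall {E : Subgroup G} {n : G} (h : ∀ x ∈ E, n * x * n⁻¹ ∈ E) :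
    n ∈ normalizer (E : Set G) := by
  have heq : E.map (MulAut.conj n).toMonoidHom = E :=
    Subgroup.eq_of_le_of_card_ge (by rintro _ ⟨x, hx, rfl⟩; exact h x hx)
      (by rw [Subgroup.card_map_of_injective (MulAut.conj n).injective])
  refine Subgroup.mem_normalizer_iff.2 fun y => ⟨h y, fun hy => ?_⟩
  obtain ⟨y', hy', e'⟩ := heq.ge hy
  rw [← (MulAut.conj n).injective e']
  exact hy'

end Cfsg.Lib.Extra.InvS6
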