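import Cfsg.Agent.Lib.Extra.LargeTransfer

/-!
# Monomial transfer at an involution

The transfer of a sign `lam` of a subgroup `H` at an involution `t` is the product of the values at
the cosets fixed by `t`; it may be counted over the cosets fixed by a 2-subgroup of `C(t)`, or over
the classes of `H` in `t^G ∩ H` whose centralizers have full 2-part.
-/

set_option autoImplicit false
set_option linter.style.haveILetI false
set_option linter.unusedSectionVars false

namespace Cfsg.Lib.Extra.InvS6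

open Subgroup MulAction

variable {G : Type*} [Group G] [Finite G]

local notation "Z₂" => Multiplicative (ZMod 2)

/-- A non-trivial value of a homomorphism to a group of order two gives a subgroup of index two. -/
theorem exists_index_two_of_value (f : G →* Z₂) {x : G} (hx : f x ≠ 1) :
    ∃ K : Subgroup G, K.index = 2 := by
  refine ⟨f.ker, ?_⟩
  rw [Subgroup.index_ker]
  have h1 : Nat.card f.range ≤ 2 :=
    (Subgroup.card_le_card_group f.range).trans (by simp)
  have h2 : Nat.card f.range ≠ 1 := fun h => hx (by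
    have := (Subgroup.card_eq_one.1 h).le (MonoidHom.mem_range.2 ⟨x, rfl⟩)
    exact Subgroup.mem_bot.1 this)
  have h3 : 0 < Nat.card f.range := Nat.card_pos
  omega

theorem z2_sq (a : Z₂) : a * a = 1 := by revert a; decide

/-- The values of the transfer at the cosets fixed by `t`. -/
theorem transfer_data {t : G} (ht : t * t = 1) {H : Subgroup G} (lam : H →* Z₂) [Fintype (G ⧸ H)] :
    ∃ f : G ⧸ H → Z₂, MonoidHom.transfer lam t = ∏ c, f c ∧
      (∀ c, t • c ≠ c → f c = 1) ∧
      (∀ (a : G) (h : a⁻¹ * t * a ∈ H), f a = lam ⟨a⁻¹ * t * a, h⟩) ∧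
      ∀ (u : G), Commute u t → ∀ c, f (u • c) = f c := by
  obtain ⟨f, hV, hoff, -, hrep⟩ := Cfsg.Lib.Extra.transfer_involution lam ht
  refine ⟨f, hV, hoff, hrep, fun u hu c => ?_⟩
  obtain ⟨a, rfl⟩ := QuotientGroup.mk_surjective c
  rw [MulAction.Quotient.smul_coe, smul_eq_mul]
  have e : (u * a)⁻¹ * t * (u * a) = a⁻¹ * t * a := by
    calc (u * a)⁻¹ * t * (u * a) = a⁻¹ * (u⁻¹ * (t * u)) * a := by group
      _ = a⁻¹ * (u⁻¹ * (u * t)) * a := by rw [hu.eq]
      _ = _ := by group
  by_cases h : a⁻¹ * t * a ∈ H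
  · rw [hrep a h, hrep (u * a) (by rw [e]; exact h)]
    exact congrArg lam (Subtype.ext e)
  · have hne : ∀ b : G, b⁻¹ * t * b ∉ H → t • (b : G ⧸ H) ≠ b := by
      intro b hb hfix
      rw [MulAction.Quotient.smul_coe, smul_eq_mul] at hfix
      have := inv_mem (QuotientGroup.eq.mp hfix)
      exact hb (by simpa [mul_assoc] using this)
    rw [hoff _ (hne a h), hoff _ (hne _ (by rw [e]; exact h))]

/-- The transfer counted over the cosets fixed by a 2-subgroup of the centralizer. -/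
theorem transfer_eq_fixed {t : G} (ht : t * t = 1) {H : Subgroup G} (lam : H →* Z₂)
    {P : Subgroup G} (hP : IsPGroup 2 P) (hPt : P ≤ Subgroup.centralizer ({t} : Set G))
    [Fintype (G ⧸ H)] [Fintype (fixedPoints P (G ⧸ H))] :
    ∃ f : G ⧸ H → Z₂, MonoidHom.transfer lam t = ∏ c : fixedPoints P (G ⧸ H), f c ∧
      (∀ c, t • c ≠ c → f c = 1) ∧
      ∀ (a : G) (h : a⁻¹ * t * a ∈ H), f a = lam ⟨a⁻¹ * t * a, h⟩ := by
  obtain ⟨f, hV, hoff, hrep, hinv⟩ := transfer_data ht lam
  refine ⟨f, hV.trans (Cfsg.Lib.Extra.prod_eq_prod_fixed hP f (fun u c => ?_) fun c => z2_sq _), hoff, hrep⟩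
  exact hinv u (Subgroup.mem_centralizer_singleton_iff.1 (hPt u.2)) c

/-- An odd number of classes of full 2-part with value `1` gives a subgroup of index two: the
elements of `reps` represent the `H`-classes in `t^G ∩ H` whose centralizers in `H` have order
divisible by `2 ^ s`, where `2 ^ (s + 1)` does not divide `|C(t)|`. -/
theorem exists_index_two_of_classes {t : G} (ht : t * t = 1) {H : Subgroup G} (lam : H →* Z₂) {s : ℕ}
    (hs : ¬ 2 ^ (s + 1) ∣ Nat.card (Subgroup.centralizer ({t} : Set G)))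
    (reps : Finset H)
    (hconj : ∀ τ ∈ reps, IsConj t (τ : G))
    (hfull : ∀ τ ∈ reps, 2 ^ s ∣ Nat.card ↥(H ⊓ Subgroup.centralizer ({(τ : G)} : Set G)))
    (hsep : ∀ τ ∈ reps, ∀ τ' ∈ reps, IsConj τ τ' → τ = τ')
    (hall : ∀ σ : H, IsConj t (σ : G) →
      2 ^ s ∣ Nat.card ↥(H ⊓ Subgroup.centralizer ({(σ : G)} : Set G)) → ∃ τ ∈ reps, IsConj τ σ)
    (hval : ∏ τ ∈ reps, lam τ ≠ 1) : ∃ K : Subgroup G, K.index = 2 := by
  classical
  letI := Fintype.ofFinite (G ⧸ H)
  haveI : Fact (Nat.Prime 2) := ⟨Nat.prime_two⟩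
  obtain ⟨f, hV, hoff, hrep, hinv⟩ := transfer_data ht lam
  refine exists_index_two_of_value (MonoidHom.transfer lam) (x := t) ?_
  set C := Subgroup.centralizer ({t} : Set G) with hC
  have hmC : ∀ {u : G}, u ∈ C ↔ Commute u t := fun {u} => Subgroup.mem_centralizer_singleton_iff
  letI : ∀ c : G ⧸ H, Fintype (orbit C c) := fun c => Fintype.ofFinite _
  -- representatives of the orbits
  have hch : ∀ τ : H, ∃ a : G, τ ∈ reps → a⁻¹ * t * a = τ := by
    intro τ
    by_cases hτ : τ ∈ reps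
    · obtain ⟨a, ha⟩ := isConj_iff.1 (hconj τ hτ)
      exact ⟨a⁻¹, fun _ => by rw [inv_inv]; exact ha⟩
    · exact ⟨1, fun h => absurd h hτ⟩
  choose a ha using hch
  -- the stabilizer of a coset
  have hstab : ∀ (b : G) (hb : b⁻¹ * t * b ∈ H),
      Nat.card (stabilizer C (b : G ⧸ H)) =
        Nat.card ↥(H ⊓ Subgroup.centralizer ({b⁻¹ * t * b} : Set G)) := by
    intro b _
    refine Nat.card_congr
      { toFun := fun u => ⟨b⁻¹ * (u.1 : G) * b, ?_, ?_⟩
        invFun := fun v => ⟨⟨b * (v : G) * b⁻¹, ?_⟩, ?_⟩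
        left_inv := fun u => by apply Subtype.ext; apply Subtype.ext; dsimp only; group
        right_inv := fun v => by apply Subtype.ext; dsimp only; group }
    · have h := (mem_stabilizer_iff.1 u.2)
      change (u.1 : G) • (b : G ⧸ H) = b at h
      rw [MulAction.Quotient.smul_coe, smul_eq_mul, QuotientGroup.eq] at h
      simpa [mul_assoc] using inv_mem h
    · refine Subgroup.mem_centralizer_singleton_iff.2 ?_
      have h := (hmC.1 u.1.2).eq
      calc b⁻¹ * (u.1 : G) * b * (b⁻¹ * t * b) = b⁻¹ * ((u.1 : G) * t) * b := by group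
        _ = _ := by rw [h]; group
    · refine hmC.2 ?_
      have h := Subgroup.mem_centralizer_singleton_iff.1 v.2.2
      calc b * (v : G) * b⁻¹ * t = b * ((v : G) * (b⁻¹ * t * b)) * b⁻¹ := by group
        _ = _ := by rw [h]; group
    · refine mem_stabilizer_iff.2 ?_
      show (b * (v : G) * b⁻¹) • (b : G ⧸ H) = b
      rw [MulAction.Quotient.smul_coe, smul_eq_mul, QuotientGroup.eq]
      simpa [mul_assoc] using (inv_mem v.2.1 : (v : G)⁻¹ ∈ H)
  -- orbits of even size contribute nothing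
  have hodd : ∀ c : G ⧸ H, ∀ g : G ⧸ H → Z₂, (∀ d ∈ orbit C c, g d = g c) →
      ∏ d ∈ (orbit C c).toFinset, g d = g c ^ Nat.card (orbit C c) := by
    intro c g hg
    rw [Finset.prod_congr rfl (fun d hd => hg d (Set.mem_toFinset.1 hd)), Finset.prod_const,
      Set.toFinset_card, Nat.card_eq_fintype_card]
  have hcardC : ∀ c : G ⧸ H, Nat.card (orbit C c) * Nat.card (stabilizer C c) = Nat.card C := by
    intro c
    rw [← Nat.card_prod, Nat.card_congr (orbitProdStabilizerEquivGroup C c)]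
  let O : G ⧸ H → Set (G ⧸ H) := fun c => orbit C c
  have hVsum : MonoidHom.transfer lam t = ∏ τ ∈ reps, lam τ := by
    rw [hV, ← Finset.prod_fiberwise_of_maps_to (g := O) (t := (Finset.univ : Finset (G ⧸ H)).image O)
      (fun c _ => Finset.mem_image_of_mem _ (Finset.mem_univ c))]
    have hfib : ∀ c : G ⧸ H, (Finset.univ.filter fun d => O d = O c) = (orbit C c).toFinset := by
      intro c
      ext d
      simp only [Finset.mem_filter, Finset.mem_univ, true_and, Set.mem_toFinset, O]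
      exact orbit_eq_iff
    have hconst : ∀ c : G ⧸ H, ∀ d ∈ orbit C c, f d = f c := by
      rintro c d ⟨u, rfl⟩
      exact hinv u (hmC.1 u.2) c
    symm
    refine Finset.prod_bij_ne_one (fun τ _ _ => O (a τ : G ⧸ H)) (fun _ _ _ =>
      Finset.mem_image_of_mem _ (Finset.mem_univ _)) ?_ ?_ ?_
    · intro τ hτ _ τ' hτ' _ e
      refine hsep τ hτ τ' hτ' ?_
      obtain ⟨u, hu⟩ : (a τ' : G ⧸ H) ∈ orbit C (a τ : G ⧸ H) := orbit_eq_iff.1 e.symm
      have hu' : ((u : G) * a τ : G ⧸ H) = (a τ' : G ⧸ H) := hu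
      rw [QuotientGroup.eq] at hu'
      refine isConj_iff.2 ⟨⟨_, inv_mem hu'⟩, Subtype.ext ?_⟩
      have h1 := ha τ hτ
      have h2 := ha τ' hτ'
      have hc := (hmC.1 u.2).eq
      simp only [Subgroup.coe_mul, Subgroup.coe_inv]
      rw [← h1, ← h2]
      calc (((u : G) * a τ)⁻¹ * a τ')⁻¹ * ((a τ)⁻¹ * t * a τ) * (((u : G) * a τ)⁻¹ * a τ')⁻¹⁻¹ =
          (a τ')⁻¹ * ((u : G) * t) * (u : G)⁻¹ * a τ' := by group
        _ = _ := by rw [hc]; group
    · intro o ho hne
      obtain ⟨c, -, rfl⟩ := Finset.mem_image.1 ho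
      rw [hfib, hodd c f (hconst c)] at hne
      obtain ⟨b, rfl⟩ := QuotientGroup.mk_surjective c
      have hb : b⁻¹ * t * b ∈ H := by
        by_contra hb
        refine hne ?_
        rw [hoff _ fun hfix => hb ?_, one_pow]
        rw [MulAction.Quotient.smul_coe, smul_eq_mul] at hfix
        simpa [mul_assoc] using inv_mem (QuotientGroup.eq.mp hfix)
      have hfull' : 2 ^ s ∣ Nat.card ↥(H ⊓ Subgroup.centralizer ({b⁻¹ * t * b} : Set G)) := by
        rw [← hstab b hb]
        have hoddO : ¬ 2 ∣ Nat.card (orbit C (b : G ⧸ H)) := by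
          rintro ⟨k, hk⟩
          exact hne (by rw [hk, pow_mul, pow_two, z2_sq, one_pow])
        by_cases hsC : 2 ^ s ∣ Nat.card C
        · rw [← hcardC (b : G ⧸ H)] at hsC
          exact ((Nat.Coprime.pow_left s ((Nat.Prime.coprime_iff_not_dvd Nat.prime_two).2 hoddO)).dvd_of_dvd_mul_left hsC)
        · exfalso
          obtain ⟨σ, hσ, -⟩ : ∃ σ, σ ∈ reps ∧ lam σ ≠ 1 := Finset.exists_ne_one_of_prod_ne_one hval
          have h1 := hfull σ hσ
          rw [← ha σ hσ, ← hstab (a σ) (by rw [ha σ hσ]; exact σ.2)] at h1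
          exact hsC (h1.trans ⟨_, (hcardC _).symm.trans (mul_comm _ _)⟩)
      obtain ⟨τ, hτ, hτc⟩ := hall ⟨_, hb⟩ (isConj_iff.2 ⟨b⁻¹, by rw [inv_inv]⟩) hfull'
      obtain ⟨v, hv⟩ := isConj_iff.1 hτc
      have hval' : f (b : G ⧸ H) = lam τ := by
        rw [hrep b hb, ← hv, map_mul, map_mul, map_inv, mul_comm (lam v), mul_inv_cancel_right]
      have horb : O (a τ : G ⧸ H) = O (b : G ⧸ H) := by
        have e1 := ha τ hτ
        have e2 : (v : G) * (τ : G) * (v : G)⁻¹ = b⁻¹ * t * b := congrArg Subtype.val hv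
        rw [← e1] at e2
        have hu : b * (v : G) * (a τ)⁻¹ ∈ C := hmC.2 (by
          show b * (v : G) * (a τ)⁻¹ * t = t * (b * (v : G) * (a τ)⁻¹)
          calc b * (v : G) * (a τ)⁻¹ * t = b * ((v : G) * ((a τ)⁻¹ * t * a τ) * (v : G)⁻¹) * (v : G) * (a τ)⁻¹ := by group
            _ = _ := by rw [e2]; group)
        refine (orbit_eq_iff.2 ⟨⟨_, hu⟩, ?_⟩).symm
        show ((b * (v : G) * (a τ)⁻¹ * a τ : G) : G ⧸ H) = b
        rw [QuotientGroup.eq]
        simp [mul_assoc]
      refine ⟨τ, hτ, fun e => hne (by rw [hval', e, one_pow]), horb⟩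
    · intro τ hτ _
      rw [hfib, hodd _ f (hconst _)]
      have hb : (a τ)⁻¹ * t * a τ ∈ H := by rw [ha τ hτ]; exact τ.2
      have hodd' : ¬ 2 ∣ Nat.card (orbit C (a τ : G ⧸ H)) := by
        intro h2
        refine hs ?_
        rw [← hcardC (a τ : G ⧸ H), pow_succ, mul_comm (2 ^ s) 2]
        refine Nat.mul_dvd_mul h2 ?_
        rw [hstab _ hb, ha τ hτ]
        exact hfull τ hτ
      obtain ⟨k, hk⟩ : Odd (Nat.card (orbit C (a τ : G ⧸ H))) := Nat.not_even_iff_odd.1 fun h =>
        hodd' h.two_dvd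
      rw [hk, pow_succ, pow_mul, pow_two, z2_sq, one_pow, one_mul, hrep _ hb]
      exact congrArg lam (Subtype.ext (ha τ hτ).symm)
  rw [hVsum]
  exact hval

end Cfsg.Lib.Extra.InvS6
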