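import Cfsg.Agent.Lib.Extra.InvS6.Fusion
import Cfsg.Agent.Lib.Extra.InvS6.Transfer

/-!
# The Sylow 2-subgroups of `G` have order above 64

If `2 ^ 6` is the 2-part of `|G|` and there is no subgroup of index two, either all six non-`z` values
are conjugates of `t`, and an element of `N(T)` makes `128` divide the order of the normalizer of an
elementary subgroup, or none is, and `t` has odd transfer into `N(T)`, a group of order 64.
-/

set_option autoImplicit false
set_option linter.style.haveILetI false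
set_option linter.unusedSectionVars false
set_option maxRecDepth 100000

namespace Cfsg.Lib.Extra.InvS6

open Subgroup MulAction Equiv

variable {G : Type*} [Group G] [Finite G] {t : G} {m : ℕ}

local notation "Z₂" => Multiplicative (ZMod 2)
local notation "τ₁" => (Multiplicative.ofAdd (1 : ZMod 2))

/-- The subgroup of the products of two of the three. -/
theorem pair_mul {S : Side m} : ∀ i, S.B.r 0 * S.B.r 1 * S.B.r 2 * S.B.r i ∈
      [S.B.r 0 * S.B.r 1, S.B.r 0 * S.B.r 2, S.B.r 1 * S.B.r 2] := by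
  intro i
  have hc : ∀ a b, S.B.r a * S.B.r b = S.B.r b * S.B.r a := fun a b =>
    (S.B.self_U.2 (S.B.r_mem a) _ (S.B.r_mem b)).eq
  have hs : ∀ a, S.B.r a * S.B.r a = 1 := fun a => S.B.sq _ (S.B.r_mem a)
  simp only [List.mem_cons, List.not_mem_nil, or_false]
  rcases (by decide : ∀ k : Fin 3, k = 0 ∨ k = 1 ∨ k = 2) i with rfl | rfl | rfl
  · exact Or.inr (Or.inr (by
      rw [mul_assoc (S.B.r 0), mul_assoc (S.B.r 0), ← (S.B.self_U.2 (S.B.r_mem 0) _
        (mul_mem (S.B.r_mem 1) (S.B.r_mem 2))).eq, ← mul_assoc, hs, one_mul]))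
  · exact Or.inr (Or.inl (by
      rw [mul_assoc (S.B.r 0 * S.B.r 1), ← hc 1 2, mul_assoc (S.B.r 0), ← mul_assoc (S.B.r 1) (S.B.r 1),
        hs, one_mul]))
  · exact Or.inl (by rw [mul_assoc, hs, mul_one])

/-- Multiplying by `t` adds to the first coordinate. -/
theorem t_mul (B : Base (Perm (Fin m))) (e : Subgroup.centralizer ({t} : Set G) ≃* Z₂ × Perm (Fin m)) (h1 : t ≠ 1)
    (δ : Z₂) (x : Perm (Fin m)) : t * el e (δ, x) = el e (τ₁ * δ, x) := by
  have helt : el e (τ₁, 1) = t := by rw [← apply_t B e h1, el, e.symm_apply_apply]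
  calc t * el e (δ, x) = el e (τ₁, 1) * el e (δ, x) := by rw [helt]
    _ = el e (τ₁ * δ, x) := by rw [← el_mul, Prod.mk_mul_mk, one_mul]

/-- If an element normalizing an elementary subgroup moves `t` to one of the three translates of the
subgroup of non-conjugates, then `128 ∣ |G|`. -/
theorem dvd_of_move (D : FrameDeg m) (S : Side m) {e : Subgroup.centralizer ({t} : Set G) ≃* Z₂ × Perm (Fin m)}
    (h1 : t ≠ 1) {b : Fin 2 → Fin 3 → Bool} (hval : ∀ p, IsConj t (el e p) ↔ val b p = true)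
    (hb : b 0 1 = false ∧ b 1 1 = true ∧ b 0 S.k = b 1 S.k ∧ b 0 S.k' = b 0 S.k ∧ b 1 S.k' = b 0 S.k)
    (n : G) (hn : n ∈ normalizer (EE S.B e : Set G))
    (hnt : (b 0 S.k = true ∧ ∃ ε, n * t * n⁻¹ = el e (ε, S.B.r S.j)) ∨
      (b 0 S.k = false ∧ n * t * n⁻¹ = el e (τ₁, S.B.r 0 * S.B.r 1 * S.B.r 2 * S.B.r S.j))) :
    2 ^ 7 ∣ Nat.card G := by
  classical
  obtain ⟨hb01, hb11, hbk1, hbk', hbk'1⟩ := hb
  set r := S.B.r with hr
  have helt : el e (τ₁, 1) = t := by rw [← apply_t S.B e h1, el, e.symm_apply_apply]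
  set q := r 0 * r 1 * r 2 with hq
  have hrU : ∀ i, r i ∈ S.B.U := fun i => S.B.r_mem i
  have hqU : q ∈ S.B.U := mul_mem (mul_mem (hrU 0) (hrU 1)) (hrU 2)
  -- the evens
  let Kl : List (Perm (Fin m)) := [1, r 0 * r 1, r 0 * r 2, r 1 * r 2]
  have hpair : ∀ i, q * r i ∈ Kl := fun i => List.mem_cons_of_mem _ (pair_mul i)
  have hKU : ∀ x ∈ Kl, x ∈ S.B.U := by
    intro x hx
    simp only [Kl, List.mem_cons, List.not_mem_nil, or_false] at hx
    rcases hx with rfl | rfl | rfl | rfl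
    exacts [one_mem _, mul_mem (hrU 0) (hrU 1), mul_mem (hrU 0) (hrU 2), mul_mem (hrU 1) (hrU 2)]
  -- the values on the subgroup
  have hPU : ∀ ε, ∀ x ∈ S.B.U, IsConj t (el e (ε, x)) ↔
      (x ∈ Kl ∧ ε = τ₁) ∨ (x ∉ Kl ∧ b 0 S.k = true) := by
    intro ε x hxU
    rw [hval, val, if_pos (S.B.sq x hxU)]
    have hcases : x = 1 ∨ (x ≠ 1 ∧ x ∈ Kl ∧ supIdx x = 1) ∨
        (x ≠ 1 ∧ x ∉ Kl ∧ (supIdx x = S.k ∨ supIdx x = S.k')) := by
      have hk1 : ∀ y ∈ Kl, y ≠ 1 → supIdx y = 1 := by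
        intro y hy hy1
        simp only [Kl, List.mem_cons, List.not_mem_nil, or_false] at hy
        rcases hy with rfl | rfl | rfl | rfl
        exacts [absurd rfl hy1, (S.cls_two 0 1 (by decide)).2, (S.cls_two 0 2 (by decide)).2,
          (S.cls_two 1 2 (by decide)).2]
      by_cases hx1 : x = 1
      · exact Or.inl hx1
      by_cases hxK : x ∈ Kl
      · exact Or.inr (Or.inl ⟨hx1, hxK, hk1 x hxK hx1⟩)
      refine Or.inr (Or.inr ⟨hx1, hxK, ?_⟩)
      have hx' : x ∈ cube (r 0) (r 1) (r 2) := hxU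
      simp only [cube, List.mem_cons, List.not_mem_nil, or_false] at hx'
      rcases hx' with h | h | h | h | h | h | h | h
      · exact absurd h hx1
      · exact Or.inl (h ▸ S.cls 0)
      · exact Or.inl (h ▸ S.cls 1)
      · exact absurd (by simp [Kl, h]) hxK
      · exact Or.inl (h ▸ S.cls 2)
      · exact absurd (by simp [Kl, h]) hxK
      · exact absurd (by simp [Kl, h]) hxK
      · exact Or.inr (h ▸ S.cls_three.2)
    rcases hcases with hx | ⟨hx1, hxK, hk⟩ | ⟨hx1, hxK, hk⟩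
    · have h1K : x ∈ Kl := by simp [Kl, hx]
      rw [if_pos hx, decide_eq_true_iff]
      simp only [h1K, not_true, false_and, or_false, true_and]
      exact ⟨(z2_cases ε).resolve_left, fun h => h ▸ Ne.symm tau_ne⟩
    · rw [if_neg hx1, hk]
      simp only [hxK, not_true, false_and, or_false, true_and]
      rcases z2_cases ε with rfl | rfl
      · rw [eps_one, hb01]; exact ⟨fun h => Bool.noConfusion h, fun h => absurd h tau_ne⟩
      · rw [eps_tau, hb11]; simp
    · rw [if_neg hx1]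
      simp only [hxK, false_and, false_or, not_false_iff, true_and]
      rcases z2_cases ε with rfl | rfl <;> rcases hk with hk | hk <;>
        simp only [eps_one, eps_tau, hk, hbk', hbk'1, ← hbk1]
  -- the orbit
  set N := normalizer (EE S.B e : Set G) with hN
  let O : Set G := {x | ∃ g : N, (g : G) * t * (g : G)⁻¹ = x}
  have hOE : ∀ x ∈ O, x ∈ EE S.B e ∧ IsConj t x := by
    rintro _ ⟨g, rfl⟩
    exact ⟨(Subgroup.mem_normalizer_iff.1 g.2 t).1 (t_mem_EE S.B e h1), isConj_iff.2 ⟨g, rfl⟩⟩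
  have hC : ∀ i, ∃ g : N, Commute (g : G) t ∧ el e (1, r i) = (g : G) * el e (1, r S.j) * (g : G)⁻¹ ∧
      ∀ ε, el e (ε, q * r i) = (g : G) * el e (ε, q * r S.j) * (g : G)⁻¹ := by
    intro i
    obtain ⟨s, hs, hs'⟩ := S.perm_j i
    have hsN : el e (1, s) ∈ N := (normalizer_EE S.B e (e.symm (1, s)).2).2 fun l => by
      show ∃ l', (e (e.symm (1, s))).2 * r l * ((e (e.symm (1, s))).2)⁻¹ = r l'
      rw [e.apply_symm_apply]; exact hs' l
    have hsq : s * q * s⁻¹ = q := by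
      obtain ⟨a, ha⟩ := hs' 0
      obtain ⟨b', hb'⟩ := hs' 1
      obtain ⟨c, hc⟩ := hs' 2
      have hinj : ∀ x y, s * r x * s⁻¹ = s * r y * s⁻¹ → x = y := fun x y h => by
        by_contra hne
        refine (S.cls_two x y hne).1 ?_
        have hxy : r x = r y := mul_left_cancel (mul_right_cancel h)
        show r x * r y = 1
        rw [hxy]; exact S.B.sq _ (hrU y)
      have hab : a ≠ b' := fun h => absurd (hinj 0 1 (by rw [ha, hb', h])) (by decide)
      have hac : a ≠ c := fun h => absurd (hinj 0 2 (by rw [ha, hc, h])) (by decide)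
      have hbc : b' ≠ c := fun h => absurd (hinj 1 2 (by rw [hb', hc, h])) (by decide)
      have hp : r a * r b' * r c = q := by
        have cm : ∀ x y, r x * r y = r y * r x := fun x y => (S.B.self_U.2 (hrU x) _ (hrU y)).eq
        rcases (by decide : ∀ x y z : Fin 3, x ≠ y → x ≠ z → y ≠ z →
          (x = 0 ∧ y = 1 ∧ z = 2) ∨ (x = 0 ∧ y = 2 ∧ z = 1) ∨ (x = 1 ∧ y = 0 ∧ z = 2) ∨ (x = 1 ∧ y = 2 ∧ z = 0) ∨
          (x = 2 ∧ y = 0 ∧ z = 1) ∨ (x = 2 ∧ y = 1 ∧ z = 0)) a b' c hab hac hbc with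
          ⟨rfl, rfl, rfl⟩ | ⟨rfl, rfl, rfl⟩ | ⟨rfl, rfl, rfl⟩ | ⟨rfl, rfl, rfl⟩ | ⟨rfl, rfl, rfl⟩ | ⟨rfl, rfl, rfl⟩
        · rfl
        · rw [hq, mul_assoc, cm 2 1, ← mul_assoc]
        · rw [hq, cm 1 0]
        · rw [hq, mul_assoc, cm 2 0, ← mul_assoc, cm 1 0]
        · rw [hq, cm 2 0, mul_assoc, cm 2 1, ← mul_assoc]
        · rw [hq, mul_assoc, cm 1 0, ← mul_assoc, cm 2 0, mul_assoc, cm 2 1, ← mul_assoc]
      calc s * q * s⁻¹ = (s * r 0 * s⁻¹) * (s * r 1 * s⁻¹) * (s * r 2 * s⁻¹) := by rw [hq]; group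
        _ = q := by rw [ha, hb', hc, hp]
    refine ⟨⟨_, hsN⟩, el_commute e (1, s), ?_, fun ε => ?_⟩
    · show el e (1, r i) = el e (1, s) * el e (1, r S.j) * (el e (1, s))⁻¹
      rw [← el_inv, ← el_mul, ← el_mul]
      refine congrArg (el e) (Prod.ext (by simp) ?_)
      exact hs.symm
    · show el e (ε, q * r i) = el e (1, s) * el e (ε, q * r S.j) * (el e (1, s))⁻¹
      rw [← el_inv, ← el_mul, ← el_mul]
      refine congrArg (el e) (Prod.ext (by simp) ?_)
      calc q * r i = (s * q * s⁻¹) * (s * r S.j * s⁻¹) := by rw [hsq, hs]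
        _ = _ := by simp [mul_assoc]
  have horb : ∀ x ∈ O, ∀ g : N, (g : G) * x * (g : G)⁻¹ ∈ O := by
    rintro _ ⟨g', rfl⟩ g
    exact ⟨g * g', by rw [Subgroup.coe_mul]; group⟩
  -- the whole translate of the evens lies in the orbit
  have htK : ∀ x ∈ Kl, el e (τ₁, x) ∈ O := by
    have hpairs : (∀ i, el e (τ₁, q * r i) ∈ O) → ∀ x ∈ Kl, el e (τ₁, x) ∈ O := by
      intro h x hx
      have hx' : x = 1 ∨ ∃ i, x = q * r i := by
        have cm : ∀ x y, r x * r y = r y * r x := fun x y => (S.B.self_U.2 (hrU x) _ (hrU y)).eq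
        have sq : ∀ x, r x * r x = 1 := fun x => S.B.sq _ (hrU x)
        simp only [Kl, List.mem_cons, List.not_mem_nil, or_false] at hx
        rcases hx with rfl | rfl | rfl | rfl
        · exact Or.inl rfl
        · exact Or.inr ⟨2, by rw [hq, mul_assoc, sq, mul_one]⟩
        · exact Or.inr ⟨1, by rw [hq, mul_assoc, cm 2 1, ← mul_assoc, mul_assoc (r 0) (r 1) (r 1), sq, mul_one]⟩
        · exact Or.inr ⟨0, by
            rw [hq, mul_assoc (r 0), mul_assoc (r 0), ← (S.B.self_U.2 (hrU 0) _ (mul_mem (hrU 1) (hrU 2))).eq,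
              ← mul_assoc, sq, one_mul]⟩
      rcases hx' with rfl | ⟨i, rfl⟩
      · exact ⟨1, by show (1 : G) * t * (1 : G)⁻¹ = el e (τ₁, 1); rw [helt]; simp⟩
      · exact h i
    refine hpairs fun i => ?_
    rcases hnt with ⟨hbt, ε, hε⟩ | ⟨-, hz⟩
    · -- some translate of `t` is in the orbit
      have hrO : ∀ l, el e (ε, r l) ∈ O := by
        intro l
        obtain ⟨g, hgt, hg, -⟩ := hC l
        refine ⟨⟨(g : G) * n, mul_mem g.2 hn⟩, ?_⟩
        show (g : G) * n * t * ((g : G) * n)⁻¹ = el e (ε, r l)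
        have e1 : el e (ε, r l) = el e (ε, 1) * el e (1, r l) := by rw [← el_mul]; simp
        have e2 : el e (ε, r S.j) = el e (ε, 1) * el e (1, r S.j) := by rw [← el_mul]; simp
        have hgε : (g : G) * el e (ε, 1) * (g : G)⁻¹ = el e (ε, 1) := by
          rcases z2_cases ε with rfl | rfl
          · rw [show ((1 : Z₂), (1 : Perm (Fin m))) = 1 from rfl, el_one]; simp
          · rw [helt, hgt.eq, mul_inv_cancel_right]
        calc (g : G) * n * t * ((g : G) * n)⁻¹ = (g : G) * (n * t * n⁻¹) * (g : G)⁻¹ := by group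
          _ = ((g : G) * el e (ε, 1) * (g : G)⁻¹) * ((g : G) * el e (1, r S.j) * (g : G)⁻¹) := by
            rw [hε, e2]; group
          _ = _ := by rw [hgε, ← hg, e1]
      obtain ⟨l, hl⟩ : ∃ l : Fin 3, el e (ε, r l) ≠ n * t * n⁻¹ := by
        rcases (by decide : ∀ k : Fin 3, k ≠ 0 ∨ k ≠ 1) S.j with h | h
        · refine ⟨0, fun e' => h ?_⟩
          rw [hε] at e'
          have := congrArg Prod.snd (el_injective e e')
          simp only at this
          by_contra hne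
          exact (S.cls_two 0 S.j (Ne.symm hne)).1 (by show r 0 * r S.j = 1; rw [this]; exact S.B.sq _ (hrU _))
        · refine ⟨1, fun e' => h ?_⟩
          rw [hε] at e'
          have := congrArg Prod.snd (el_injective e e')
          simp only at this
          by_contra hne
          exact (S.cls_two 1 S.j (Ne.symm hne)).1 (by show r 1 * r S.j = 1; rw [this]; exact S.B.sq _ (hrU _))
      have hy : n⁻¹ * el e (ε, r l) * n ∈ O := by
        have := horb _ (hrO l) ⟨n⁻¹, inv_mem hn⟩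
        simpa using this
      obtain ⟨hyE, hyX⟩ := hOE _ hy
      obtain ⟨⟨δ, x⟩, hx, hxy⟩ : ∃ p : Z₂ × Perm (Fin m), p.2 ∈ S.B.U ∧ el e p = n⁻¹ * el e (ε, r l) * n := by
        obtain ⟨h, hU⟩ := (mem_EE S.B e).1 hyE
        exact ⟨e ⟨_, h⟩, hU, by rw [el, e.symm_apply_apply]⟩
      -- `t y` is no conjugate
      have hdiff : ¬ IsConj t (t * (n⁻¹ * el e (ε, r l) * n)) := by
        intro hX
        have hpr : r S.j * r l ∈ Kl ∧ r S.j * r l ≠ 1 := by
          have hne : S.j ≠ l := fun h => hl (by rw [← h, hε])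
          refine ⟨?_, (S.cls_two _ _ hne).1⟩
          have cm : ∀ x y, r x * r y = r y * r x := fun x y => (S.B.self_U.2 (hrU x) _ (hrU y)).eq
          rcases (by decide : ∀ x y : Fin 3, x ≠ y → (x = 0 ∧ y = 1) ∨ (x = 1 ∧ y = 0) ∨ (x = 0 ∧ y = 2) ∨
            (x = 2 ∧ y = 0) ∨ (x = 1 ∧ y = 2) ∨ (x = 2 ∧ y = 1)) S.j l hne with
            ⟨a, c⟩ | ⟨a, c⟩ | ⟨a, c⟩ | ⟨a, c⟩ | ⟨a, c⟩ | ⟨a, c⟩ <;> rw [a, c] <;>
            simp [Kl, cm 1 0, cm 2 0, cm 2 1]
        have e1 : n * (t * (n⁻¹ * el e (ε, r l) * n)) * n⁻¹ = el e (1, r S.j * r l) := by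
          calc n * (t * (n⁻¹ * el e (ε, r l) * n)) * n⁻¹ = (n * t * n⁻¹) * el e (ε, r l) := by group
            _ = _ := by rw [hε, ← el_mul, Prod.mk_mul_mk, z2_mul_self]
        have h2 := hX.trans (isConj_iff.2 ⟨n, e1⟩)
        rcases (hPU 1 _ (hKU _ hpr.1)).1 h2 with ⟨-, h⟩ | ⟨h, -⟩
        · exact tau_ne h
        · exact h hpr.1
      rw [← hxy] at hyX hdiff hy
      rw [t_mul S.B e h1] at hdiff
      have hxK : x ∈ Kl := by
        by_contra hxK
        exact hdiff ((hPU _ x hx).2 (Or.inr ⟨hxK, hbt⟩))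
      obtain ⟨-, rfl⟩ := ((hPU δ x hx).1 hyX).resolve_right fun h => h.1 hxK
      have hx1 : x ≠ 1 := fun h => by
        rw [h, helt] at hxy
        refine hl ?_
        calc el e (ε, r l) = n * (n⁻¹ * el e (ε, r l) * n) * n⁻¹ := by group
          _ = _ := by rw [← hxy]
      -- it is one of the three
      obtain ⟨i', hi'⟩ : ∃ i', x = q * r i' := by
        have cm : ∀ x y, r x * r y = r y * r x := fun x y => (S.B.self_U.2 (hrU x) _ (hrU y)).eq
        have sq : ∀ x, r x * r x = 1 := fun x => S.B.sq _ (hrU x)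
        simp only [Kl, List.mem_cons, List.not_mem_nil, or_false] at hxK
        rcases hxK with h | h | h | h
        · exact absurd h hx1
        · exact ⟨2, by rw [h, hq, mul_assoc, sq, mul_one]⟩
        · exact ⟨1, by rw [h, hq, mul_assoc, cm 2 1, ← mul_assoc, mul_assoc (r 0) (r 1) (r 1), sq, mul_one]⟩
        · exact ⟨0, by
            rw [h, hq, mul_assoc (r 0), mul_assoc (r 0), ← (S.B.self_U.2 (hrU 0) _ (mul_mem (hrU 1) (hrU 2))).eq,
              ← mul_assoc, sq, one_mul]⟩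
      subst hi'
      obtain ⟨g', -, -, hg'⟩ := hC i'
      obtain ⟨g, -, -, hg⟩ := hC i
      have hj : el e (τ₁, q * r S.j) ∈ O := by
        have := horb _ hy g'⁻¹
        rw [hg'] at this
        simpa [mul_assoc] using this
      rw [hg]
      exact horb _ hj g
    · obtain ⟨g, -, -, hg⟩ := hC i
      rw [hg]
      exact horb _ ⟨⟨n, hn⟩, hz⟩ g
  -- the evens are the non-conjugates, so they are normalized
  let K : Subgroup G := EE S.B e ⊓ lift e ((⊥ : Subgroup Z₂).prod (Subgroup.closure ({y | y ∈ Kl} : Set (Perm (Fin m)))))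
  have hcl : ∀ x, x ∈ Subgroup.closure ({y | y ∈ Kl} : Set (Perm (Fin m))) ↔ x ∈ Kl := by
    refine fun x => ⟨fun hx => ?_, fun hx => Subgroup.subset_closure hx⟩
    have hmul : ∀ a ∈ Kl, ∀ c ∈ Kl, a * c ∈ Kl := by
      intro a ha c hc
      have cm : ∀ x y, r x * r y = r y * r x := fun x y => (S.B.self_U.2 (hrU x) _ (hrU y)).eq
      have sq : ∀ x, r x * r x = 1 := fun x => S.B.sq _ (hrU x)
      have sq' : ∀ x (y : Perm (Fin m)), r x * (r x * y) = y := fun x y => by rw [← mul_assoc, sq, one_mul]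
      have cm' : ∀ x y (w : Perm (Fin m)), r x * (r y * w) = r y * (r x * w) := fun x y w => by
        rw [← mul_assoc, cm, mul_assoc]
      simp only [Kl, List.mem_cons, List.not_mem_nil, or_false] at ha hc ⊢
      rcases ha with rfl | rfl | rfl | rfl <;> rcases hc with rfl | rfl | rfl | rfl <;>
        simp [mul_assoc, sq, sq', cm 1 0, cm 2 0, cm 2 1, cm' 1 0, cm' 2 0, cm' 2 1]
    induction hx using Subgroup.closure_induction with
    | mem y hy => exact hy
    | one => simp [Kl]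
    | mul y w _ _ hy hw => exact hmul y hy w hw
    | inv y _ hy => rwa [inv_eq_of_mul_eq_one_right (S.B.sq y (hKU y hy))]
  have hK : ∀ x, x ∈ K ↔ ∃ k ∈ Kl, el e (1, k) = x := by
    intro x
    constructor
    · rintro ⟨-, hx⟩
      obtain ⟨⟨a, k⟩, hp, rfl⟩ := (mem_lift e).1 hx
      obtain ⟨ha, hk⟩ := Subgroup.mem_prod.1 hp
      obtain rfl : a = 1 := Subgroup.mem_bot.1 ha
      exact ⟨k, (hcl k).1 hk, rfl⟩
    · rintro ⟨k, hk, rfl⟩
      exact ⟨(el_mem_EE S).2 (hKU k hk), (mem_lift e).2 ⟨_, Subgroup.mem_prod.2 ⟨one_mem _, (hcl k).2 hk⟩, rfl⟩⟩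
  have hcardK : Nat.card K = 4 := by
    have hnd : Kl.Nodup := by
      have h := S.B.nodup
      simp only [Kl, cube, List.nodup_cons, List.mem_cons, List.not_mem_nil, or_false, not_or,
        List.nodup_nil, not_false_iff, and_true] at h ⊢
      obtain ⟨⟨-, -, a3, -, a5, a6, -⟩, -, -, ⟨-, b2, b3, -⟩, -, ⟨c1, -⟩, -⟩ := h
      exact ⟨⟨a3, a5, a6⟩, ⟨b2, b3⟩, c1⟩
    have heq : Nat.card K = Nat.card {k // k ∈ Kl.toFinset} := by
      let g : {k // k ∈ Kl.toFinset} → K := fun k => ⟨el e (1, k.1), (hK _).2 ⟨k.1, List.mem_toFinset.1 k.2, rfl⟩⟩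
      refine (Nat.card_congr (Equiv.ofBijective g ⟨fun k k' h => ?_, fun x => ?_⟩)).symm
      · have h0 : el e (1, k.1) = el e (1, k'.1) := congrArg (fun y : K => (y : G)) h
        exact Subtype.ext (congrArg Prod.snd (el_injective e h0))
      · obtain ⟨k, hk, hk'⟩ := (hK _).1 x.2
        exact ⟨⟨k, List.mem_toFinset.2 hk⟩, Subtype.ext hk'⟩
    rw [heq, Nat.card_eq_finsetCard, List.toFinset_card_of_nodup hnd]; rfl
  -- saturation
  have hsat : ∀ x ∈ O, ∀ k ∈ K, x * k ∈ O := by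
    rintro x ⟨g, rfl⟩ k hk
    have hkE : (g : G)⁻¹ * k * (g : G) ∈ EE S.B e := by
      obtain ⟨k', hk', rfl⟩ := (hK k).1 hk
      exact (Subgroup.mem_normalizer_iff''.1 g.2 _).1 ((el_mem_EE S).2 (hKU k' hk'))
    obtain ⟨⟨ε, y⟩, hy, hy'⟩ : ∃ p : Z₂ × Perm (Fin m), p.2 ∈ S.B.U ∧ el e p = (g : G)⁻¹ * k * (g : G) := by
      obtain ⟨h, hU⟩ := (mem_EE S.B e).1 hkE
      exact ⟨e ⟨_, h⟩, hU, by rw [el, e.symm_apply_apply]⟩
    have hyy : el e (τ₁, 1) * el e (ε, y) ∈ O := by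
      rcases hnt with ⟨hbt, -, -⟩ | ⟨hbf, -⟩
      · -- all outside the evens are conjugates of `t`
        have hnX : ¬ IsConj t (el e (ε, y)) := by
          obtain ⟨k', hk', rfl⟩ := (hK k).1 hk
          rw [hy']
          intro hX
          have h2 := hX.trans (isConj_iff.2 ⟨(g : G), (by group :
            (g : G) * ((g : G)⁻¹ * el e (1, k') * (g : G)) * (g : G)⁻¹ = el e (1, k'))⟩)
          rcases (hPU 1 _ (hKU _ hk')).1 h2 with ⟨-, h⟩ | ⟨h, -⟩
          · exact tau_ne h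
          · exact h hk'
        have hyK : y ∈ Kl := by
          by_contra h
          exact hnX ((hPU ε y hy).2 (Or.inr ⟨h, hbt⟩))
        have hε : ε = 1 := (z2_cases ε).resolve_right fun h => hnX ((hPU ε y hy).2 (Or.inl ⟨hyK, h⟩))
        rw [← el_mul, Prod.mk_mul_mk, hε, mul_one, one_mul]
        exact htK y hyK
      · -- the conjugates of `t` are one translate, and `t y` is one of them
        have hgk : (g : G) * (el e (τ₁, 1) * el e (ε, y)) * (g : G)⁻¹ = (g : G) * t * (g : G)⁻¹ * k := by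
          rw [helt, hy']; group
        obtain ⟨hxE, hxX⟩ := hOE _ (⟨g, rfl⟩ : (g : G) * t * (g : G)⁻¹ ∈ O)
        obtain ⟨k', hk', rfl⟩ := (hK k).1 hk
        obtain ⟨⟨δ, w⟩, hw, hw'⟩ : ∃ p : Z₂ × Perm (Fin m), p.2 ∈ S.B.U ∧ el e p = (g : G) * t * (g : G)⁻¹ := by
          obtain ⟨h, hU⟩ := (mem_EE S.B e).1 hxE
          exact ⟨e ⟨_, h⟩, hU, by rw [el, e.symm_apply_apply]⟩
        rw [← hw'] at hxX hgk
        obtain ⟨hwK, rfl⟩ := ((hPU δ w hw).1 hxX).resolve_right fun h => by rw [hbf] at h; exact Bool.noConfusion h.2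
        have hX : IsConj t (el e (τ₁, 1) * el e (ε, y)) := by
          refine IsConj.trans ?_ (isConj_iff.2 ⟨(g : G)⁻¹, (by
            rw [← hgk]; group : (g : G)⁻¹ * (el e (τ₁, w) * el e (1, k')) * (g : G)⁻¹⁻¹ = _)⟩)
          rw [← el_mul, Prod.mk_mul_mk, mul_one]
          refine (hPU τ₁ _ (mul_mem hw (hKU _ hk'))).2 (Or.inl ⟨?_, rfl⟩)
          exact (hcl _).1 (mul_mem ((hcl _).2 hwK) ((hcl _).2 hk'))
        rw [← el_mul, Prod.mk_mul_mk, one_mul] at hX ⊢
        obtain ⟨hyK, hτ⟩ := ((hPU _ y hy).1 hX).resolve_right fun h => by rw [hbf] at h; exact Bool.noConfusion h.2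
        rw [hτ]
        exact htK y hyK
    rw [helt, hy'] at hyy
    have := horb _ hyy g
    rwa [show (g : G) * (t * ((g : G)⁻¹ * k * (g : G))) * (g : G)⁻¹ = (g : G) * t * (g : G)⁻¹ * k by group] at this
  have h4 : 4 ∣ Nat.card O := by
    have hpre : QuotientGroup.mk ⁻¹' ((QuotientGroup.mk : G → G ⧸ K) '' O) = O := by
      ext x
      refine ⟨?_, fun hx => ⟨x, hx, rfl⟩⟩
      rintro ⟨y, hy, hxy⟩
      rw [QuotientGroup.eq] at hxy
      simpa using hsat y hy _ hxy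
    rw [← hpre, Nat.card_congr (QuotientGroup.preimageMkEquivSubgroupProdSet K _), Nat.card_prod, hcardK]
    exact dvd_mul_right _ _
  -- orbit and stabilizer
  have hcard : Nat.card N = Nat.card O * Nat.card ↥(N ⊓ Subgroup.centralizer ({t} : Set G)) := by
    have hch : ∀ x : O, ∃ g : N, (g : G) * t * (g : G)⁻¹ = x := fun x => x.2
    choose σ hσ using hch
    rw [← Nat.card_prod]
    refine Nat.card_congr
      { toFun := fun g => (⟨_, g, rfl⟩, ⟨((σ ⟨_, g, rfl⟩ : N) : G)⁻¹ * g, N.mul_mem (N.inv_mem (σ _).2) g.2,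
          Subgroup.mem_centralizer_singleton_iff.2 (by
            have e2 := hσ ⟨_, g, rfl⟩
            set c := σ ⟨(g : G) * t * (g : G)⁻¹, g, rfl⟩
            have e3 : (g : G) * t = (c : G) * t * (c : G)⁻¹ * g := mul_inv_eq_iff_eq_mul.1 e2.symm
            calc (c : G)⁻¹ * (g : G) * t = (c : G)⁻¹ * ((g : G) * t) := by group
              _ = _ := by rw [e3]; group)⟩)
        invFun := fun p => ⟨(σ p.1 : G) * p.2, mul_mem (σ p.1).2 p.2.2.1⟩
        left_inv := fun g => Subtype.ext (mul_inv_cancel_left _ _)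
        right_inv := fun p => by
          have hc := Subgroup.mem_centralizer_singleton_iff.1 p.2.2.2
          have hp : (σ p.1 : G) * p.2 * t * ((σ p.1 : G) * p.2)⁻¹ = p.1 := by
            calc (σ p.1 : G) * (p.2 : G) * t * ((σ p.1 : G) * (p.2 : G))⁻¹ =
                (σ p.1 : G) * ((p.2 : G) * t) * (p.2 : G)⁻¹ * (σ p.1 : G)⁻¹ := by group
              _ = (σ p.1 : G) * t * (σ p.1 : G)⁻¹ := by rw [hc]; group
              _ = _ := hσ p.1
          refine Prod.ext (Subtype.ext hp) (Subtype.ext ?_)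
          refine (congrArg (fun o : O => ((σ o : N) : G)⁻¹ * ((σ p.1 : G) * (p.2 : G)))
            (Subtype.ext hp)).trans (inv_mul_cancel_left _ _) }
  have h32 : 32 ∣ Nat.card ↥(N ⊓ Subgroup.centralizer ({t} : Set G)) := by
    rw [← card_TT D e]
    refine Subgroup.card_dvd_of_le fun x hx => ⟨?_, TT_le e hx⟩
    obtain ⟨p, hp, rfl⟩ := (mem_TT e).1 hx
    refine (normalizer_EE S.B e (e.symm p).2).2 fun l => ?_
    show ∃ l', (e (e.symm p)).2 * r l * ((e (e.symm p)).2)⁻¹ = r l'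
    rw [e.apply_symm_apply]
    exact S.normal _ hp l
  refine Dvd.dvd.trans ?_ (Subgroup.card_subgroup_dvd_card N)
  rw [hcard, show (2 : ℕ) ^ 7 = 4 * 32 by norm_num]
  exact Nat.mul_dvd_mul h4 h32

/-- Coordinates of `W0` modulo `⟨z⟩`: the bits of `(02)(13)`, `(45)` and `(01)`. -/
def bits (x : Perm (Fin m)) : ZMod 2 × ZMod 2 × ZMod 2 :=
  (if ∀ i : Fin m, i.val = 0 → (x i).val < 2 then 0 else 1,
    if ∀ i : Fin m, i.val = 4 → x i = i then 0 else 1,
    (if Equiv.Perm.sign x = 1 then 0 else 1) + if ∀ i : Fin m, i.val = 4 → x i = i then 0 else 1)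

/-- The additional facts of the degree. -/
structure SixtyDeg (m : ℕ) where
  D : SmallDeg m
  solve : ∀ b : Fin 2 → Fin 3 → Bool, b 0 1 = false → (∀ i, ((D.L.L i).filter (val b)).length % 2 = 0) →
    (1 + ∑ i : Fin 2, ∑ k : Fin 3, if b i k then D.L.N k else 0) % 4 = 2 →
      b 1 1 = true ∧ b 0 2 = b 0 0 ∧ b 1 2 = b 1 0 ∧ b 1 0 = b 0 0
  bits_mul : ∀ k < 16, ∀ l < 16,
    let w := fun k : ℕ => (if k.testBit 0 then D.D.gen 0 else 1) * (if k.testBit 1 then D.D.gen 1 else 1) *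
      (if k.testBit 2 then D.D.gen 2 else 1) * (if k.testBit 3 then D.D.gen 3 else 1)
    bits (w k * w l) = bits (w k) + bits (w l)
  bits_ker : ∀ x : Perm (Fin m), x ∈ W0 m → (bits x = 0 ↔ (x = 1 ∨ x = D.D.z))
  side_one : ∀ x : Perm (Fin m), x ∈ W0 m →
    (x ∈ cube (D.S1.B.r 0) (D.S1.B.r 1) (D.S1.B.r 2) ↔ (bits x).1 = 0)
  side_two : ∀ x : Perm (Fin m), x ∈ W0 m →
    (x ∈ cube (D.S2.B.r 0) (D.S2.B.r 1) (D.S2.B.r 2) ↔ (bits x).2.2 = 0)
  gen_bits : bits (D.D.gen 0) = (0, 0, 1) ∧ bits (D.D.gen 1) = (0, 0, 1) ∧ bits (D.D.gen 2) = (1, 0, 0) ∧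
    bits (D.D.gen 3) = (0, 1, 0)
  z_side : D.S1.B.r 0 * D.S1.B.r 1 * D.S1.B.r 2 * D.S1.B.r D.S1.j = D.D.z
  F_bits : ∀ x : Perm (Fin m), x ∈ W0 m → (bits x).1 = 0 → (bits x).2.2 = 0 → x ∈ D.D.F

/-- A homomorphism on `T ∪ T n`. -/
theorem exists_hom_ext {H T : Subgroup G} {n : G} (hn : n ∈ H) (hnT : n ∉ T) (hTH : T ≤ H)
    (hn2 : n * n ∈ T) (hnorm : ∀ x ∈ T, n * x * n⁻¹ ∈ T) (hcov : ∀ x ∈ H, x ∈ T ∨ x * n⁻¹ ∈ T)
    (φ : G → Z₂) (hφ : ∀ x ∈ T, ∀ y ∈ T, φ (x * y) = φ x * φ y)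
    (hinv : ∀ x ∈ T, φ (n * x * n⁻¹) = φ x) (v : Z₂) (hv : φ (n * n) = 1) :
    ∃ lam : H →* Z₂, (∀ x : H, (x : G) ∈ T → lam x = φ x) ∧ lam ⟨n, hn⟩ = v := by
  classical
  have hφ1 : φ 1 = 1 := by
    have h := hφ 1 (one_mem _) 1 (one_mem _)
    rw [one_mul] at h
    exact left_eq_mul.1 h
  let f : G → Z₂ := fun x => if x ∈ T then φ x else φ (x * n⁻¹) * v
  have hout : ∀ x ∈ T, x * n ∉ T := fun x hx h => hnT (by simpa using mul_mem (inv_mem hx) h)
  have hfn : ∀ x ∈ T, f (x * n) = φ x * v := fun x hx => by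
    simp only [f, if_neg (hout x hx), mul_inv_cancel_right]
  have hfT : ∀ x ∈ T, f x = φ x := fun x hx => if_pos hx
  refine ⟨MonoidHom.mk' (fun x : H => f x) ?_, fun x hx => hfT _ hx, ?_⟩
  · rintro ⟨x, hx⟩ ⟨y, hy⟩
    show f (x * y) = f x * f y
    have hsplit : ∀ x ∈ H, x ∈ T ∨ ∃ a ∈ T, x = a * n := fun x hx =>
      (hcov x hx).imp_right fun h => ⟨_, h, (inv_mul_cancel_right x n).symm⟩
    rcases hsplit x hx with hx' | ⟨a, ha, rfl⟩ <;> rcases hsplit y hy with hy' | ⟨c, hc, rfl⟩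
    · rw [hfT _ hx', hfT _ hy', hfT _ (mul_mem hx' hy'), hφ _ hx' _ hy']
    · rw [← mul_assoc, hfT _ hx', hfn _ hc, hfn _ (mul_mem hx' hc), hφ _ hx' _ hc, mul_assoc]
    · rw [show a * n * y = a * (n * y * n⁻¹) * n by group, hfn _ (mul_mem ha (hnorm _ hy')), hfn _ ha,
        hfT _ hy', hφ _ ha _ (hnorm _ hy'), hinv _ hy', mul_right_comm]
    · rw [show a * n * (c * n) = a * (n * c * n⁻¹) * (n * n) by group, hfn _ ha, hfn _ hc,
        hfT _ (mul_mem (mul_mem ha (hnorm _ hc)) hn2), hφ _ (mul_mem ha (hnorm _ hc)) _ hn2, hv, mul_one,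
        hφ _ ha _ (hnorm _ hc), hinv _ hc, mul_mul_mul_comm, z2_mul_self v, mul_one]
  · show f n = v
    have h := hfn 1 (one_mem _)
    rwa [one_mul, hφ1, one_mul] at h

/-- The linear map given by the images of `(45)`, `(01)` and `(02)(13)`. -/
def linMap (x u v u' v' : ZMod 2) (w : ZMod 2 × ZMod 2 × ZMod 2 × ZMod 2) : ZMod 2 × ZMod 2 × ZMod 2 × ZMod 2 :=
  (w.1 + w.2.2.1 * x + w.2.2.2 * u + w.2.1 * u', w.2.2.2, w.2.2.1 + w.2.2.2 * v + w.2.1 * v', w.2.1)

set_option synthInstance.maxHeartbeats 400000 in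
set_option synthInstance.maxSize 4000 in
/-- An invariant functional non-zero at `t`. -/
theorem exists_functional : ∀ x u v u' v' : ZMod 2, ∀ c : ZMod 2 × ZMod 2 × ZMod 2 × ZMod 2,
    (∀ w, linMap x u v u' v' (linMap x u v u' v' w) = w) → linMap x u v u' v' c = c →
    (∀ w, w + linMap x u v u' v' w + c ≠ (1, 0, 0, 0)) →
    ∃ f : ZMod 2 × ZMod 2 × ZMod 2 × ZMod 2,
      f.1 = 1 ∧ f.1 * c.1 + f.2.1 * c.2.1 + f.2.2.1 * c.2.2.1 + f.2.2.2 * c.2.2.2 = 0 ∧
      ∀ w, f.1 * (linMap x u v u' v' w).1 + f.2.1 * (linMap x u v u' v' w).2.1 +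
          f.2.2.1 * (linMap x u v u' v' w).2.2.1 + f.2.2.2 * (linMap x u v u' v' w).2.2.2 =
        f.1 * w.1 + f.2.1 * w.2.1 + f.2.2.1 * w.2.2.1 + f.2.2.2 * w.2.2.2 := by
  decide +kernel

/-- `t` has odd transfer into `N(T)` when none of the six values is a conjugate. -/
theorem none_case (D : SixtyDeg m) (e : Subgroup.centralizer ({t} : Set G) ≃* Z₂ × Perm (Fin m))
    (ht : t * t = 1) (h1 : t ≠ 1) (h128 : ¬ 2 ^ 7 ∣ Nat.card G) {b : Fin 2 → Fin 3 → Bool}
    (hval : ∀ p, IsConj t (el e p) ↔ val b p = true)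
    (hb : b 0 1 = false ∧ b 1 1 = true ∧ b 0 0 = false ∧ b 0 2 = false ∧ b 1 0 = false ∧ b 1 2 = false) :
    ∃ K : Subgroup G, K.index = 2 := by
  classical
  obtain ⟨hb01, hb11, hb00, hb02, hb10, hb12⟩ := hb
  set N := normalizer (TT e : Set G) with hN
  have helt : el e (τ₁, 1) = t := by rw [← apply_t D.D.D.base e h1, el, e.symm_apply_apply]
  set zG := el e (1, D.D.D.z) with hzG
  have hzt : el e (τ₁, D.D.D.z) = t * zG := by rw [hzG, t_mul D.D.D.base e h1, mul_one]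
  have hzF : D.D.D.z ∈ D.D.D.F := by simp [FrameDeg.F]
  have h1F : (1 : Perm (Fin m)) ∈ D.D.D.F := by simp [FrameDeg.F]
  obtain ⟨hs0, hs1, hs2, hs3, hs4⟩ := D.D.s_idx
  -- the conjugates of `t` with central coordinates
  have hXF : ∀ p : Z₂ × Perm (Fin m), p.2 ∈ D.D.D.F → (IsConj t (el e p) ↔
      p = (τ₁, 1) ∨ p = (τ₁, D.D.D.z)) := by
    rintro ⟨ε, f⟩ hf
    rw [hval, val, if_pos (D.D.D.F_sq hf)]
    dsimp only
    have hzne : D.D.D.z ≠ 1 := D.D.D.z_ne.1
    have hzs : D.D.D.gen 3 ≠ D.D.D.z := Ne.symm D.D.D.z_ne.2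
    have h1τ : (1 : Z₂) ≠ τ₁ := tau_ne
    simp only [FrameDeg.F, List.mem_cons, List.not_mem_nil, or_false] at hf
    rcases hf with rfl | rfl | rfl | rfl
    · rw [if_pos rfl]
      rcases z2_cases ε with rfl | rfl <;> simp [h1τ, h1τ.symm, Ne.symm hzne]
    · rw [if_neg hzne, hs1]
      rcases z2_cases ε with rfl | rfl
      · simp [eps_one, hb01, h1τ]
      · simp [eps_tau, hb11]
    · rw [if_neg hs4, hs0]
      rcases z2_cases ε with rfl | rfl
      · simp [eps_one, hb00, h1τ]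
      · simp [eps_tau, hb10, hs4, hzs]
    · rw [if_neg hs3, hs2]
      rcases z2_cases ε with rfl | rfl
      · simp [eps_one, hb02, h1τ]
      · simp [eps_tau, hb12, hs3, hs4]
  obtain ⟨n, hn, hnt⟩ := exists_normalizer_move D.D.D (p := (τ₁, D.D.D.z)) hzF
    ((hXF _ hzF).2 (Or.inr rfl))
  rw [hzt] at hnt
  have hswap : (∀ x ∈ EE D.D.S1.B e, n * x * n⁻¹ ∈ EE D.D.S2.B e) ∧
      ∀ x ∈ EE D.D.S2.B e, n * x * n⁻¹ ∈ EE D.D.S1.B e := by
    refine (map_EE D.D hn).resolve_left fun h => h128 ?_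
    refine dvd_of_move D.D.D D.D.S1 h1 hval ?_ n (mem_normalizer_of_forall h.1) (Or.inr ⟨?_, ?_⟩)
    · rw [D.D.side1.1, D.D.side1.2.1, hb00, hb10, hb02, hb12]
      exact ⟨hb01, hb11, rfl, rfl, rfl⟩
    · rw [D.D.side1.1]; exact hb00
    · rw [hnt, D.z_side, hzt]
  have htz1 : t * zG ≠ t := fun h => D.D.D.z_ne.1 (by
    have h' : el e (τ₁, D.D.D.z) = el e (τ₁, 1) := by rw [hzt, helt, h]
    exact congrArg Prod.snd (el_injective e h'))
  have hzfix := normalizer_fix_z D.D.D hn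
  rw [← hzG] at hzfix
  have hzsq : zG * zG = 1 := by
    rw [hzG, ← el_mul, Prod.mk_mul_mk, one_mul, D.D.D.F_sq hzF]; exact el_one e
  have hn2t : Commute (n * n) t := by
    show n * n * t = t * (n * n)
    refine mul_inv_eq_iff_eq_mul.1 ?_
    calc n * n * t * (n * n)⁻¹ = n * (n * t * n⁻¹) * n⁻¹ := by group
      _ = n * (t * zG) * n⁻¹ := by rw [hnt]
      _ = (n * t * n⁻¹) * (n * zG * n⁻¹) := by group
      _ = t := by rw [hnt, hzfix, mul_assoc, hzsq, mul_one]
  have hnT : n ∉ TT e := fun h => htz1 (by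
    rw [← hnt, Subgroup.mem_centralizer_singleton_iff.1 (TT_le e h), mul_inv_cancel_right])
  have hNC : ∀ x, x ∈ N → Commute x t → x ∈ TT e := fun x hx hxt =>
    (normalizer_inf_centralizer D.D.D h1).le ⟨hx, Subgroup.mem_centralizer_singleton_iff.2 hxt⟩
  have hn2 : n * n ∈ TT e := hNC _ (mul_mem hn hn) hn2t
  have himg : ∀ x ∈ N, x * t * x⁻¹ = t ∨ x * t * x⁻¹ = t * zG := by
    intro x hx
    obtain ⟨q, hq, hq'⟩ := normalizer_central D.D.D hx (p := (τ₁, 1)) h1F
    rw [helt] at hq'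
    rcases (hXF q hq).1 (isConj_iff.2 ⟨x, hq'⟩) with rfl | rfl
    · exact Or.inl (hq'.trans helt)
    · exact Or.inr (hq'.trans hzt)
  have hcov : ∀ x ∈ N, x ∈ TT e ∨ x * n⁻¹ ∈ TT e := by
    intro x hx
    rcases himg x hx with h | h
    · exact Or.inl (hNC x hx (mul_inv_eq_iff_eq_mul.1 h))
    · refine Or.inr (hNC _ (mul_mem hx (inv_mem hn)) (mul_inv_eq_iff_eq_mul.1 ?_))
      have hback : n⁻¹ * t * n = t * zG := by
        have e1 : n * (t * zG) * n⁻¹ = t := by
          calc n * (t * zG) * n⁻¹ = (n * t * n⁻¹) * (n * zG * n⁻¹) := by group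
            _ = _ := by rw [hnt, hzfix, mul_assoc, hzsq, mul_one]
        calc n⁻¹ * t * n = n⁻¹ * (n * (t * zG) * n⁻¹) * n := by rw [e1]
          _ = _ := by group
      have hxz := normalizer_fix_z D.D.D hx
      rw [← hzG] at hxz
      calc x * n⁻¹ * t * (x * n⁻¹)⁻¹ = x * (n⁻¹ * t * n) * x⁻¹ := by group
        _ = (x * t * x⁻¹) * (x * zG * x⁻¹) := by rw [hback]; group
        _ = t := by rw [h, hxz, mul_assoc, hzsq, mul_one]
  have hTN : TT e ≤ N := Subgroup.le_normalizer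
  have hnorm : ∀ x ∈ TT e, n * x * n⁻¹ ∈ TT e := fun x hx => (Subgroup.mem_normalizer_iff.1 hn x).1 hx
  -- coordinates modulo `z`
  let vec : G → ZMod 2 × ZMod 2 × ZMod 2 × ZMod 2 := fun x =>
    if h : x ∈ Subgroup.centralizer ({t} : Set G) then
      (Multiplicative.toAdd (e ⟨x, h⟩).1, bits (e ⟨x, h⟩).2) else 0
  have hvec : ∀ p : Z₂ × Perm (Fin m), vec (el e p) = (Multiplicative.toAdd p.1, bits p.2) := by
    intro p
    show (if h : el e p ∈ Subgroup.centralizer ({t} : Set G) then _ else _) = _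
    rw [dif_pos (show el e p ∈ Subgroup.centralizer ({t} : Set G) from (e.symm p).2)]
    show (Multiplicative.toAdd (e (e.symm p)).1, bits (e (e.symm p)).2) = _
    rw [e.apply_symm_apply]
  have hbmul : ∀ x ∈ W0 m, ∀ y ∈ W0 m, bits (x * y) = bits x + bits y := by
    intro x hx y hy
    obtain ⟨k, hk, rfl⟩ := List.mem_map.1 (D.D.D.words x hx)
    obtain ⟨l, hl, rfl⟩ := List.mem_map.1 (D.D.D.words y hy)
    exact D.bits_mul k (List.mem_range.1 hk) l (List.mem_range.1 hl)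
  have hvmul : ∀ x ∈ TT e, ∀ y ∈ TT e, vec (x * y) = vec x + vec y := by
    intro x hx y hy
    obtain ⟨p, hp, rfl⟩ := (mem_TT e).1 hx
    obtain ⟨q, hq, rfl⟩ := (mem_TT e).1 hy
    rw [← el_mul, hvec, hvec, hvec, Prod.snd_mul, hbmul _ hp _ hq]
    rfl
  have hv1 : vec 1 = 0 := by
    have h := hvmul 1 (one_mem _) 1 (one_mem _)
    rw [one_mul] at h
    exact left_eq_add.1 h
  -- kernel
  have hker : ∀ x ∈ TT e, vec x = 0 → x = 1 ∨ x = zG := by
    intro x hx hx0
    obtain ⟨⟨ε, w⟩, hw, rfl⟩ := (mem_TT e).1 hx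
    rw [hvec] at hx0
    obtain ⟨hε, hw0⟩ := Prod.mk_eq_zero.1 hx0
    obtain rfl : ε = 1 := Multiplicative.toAdd.injective hε
    rcases (D.bits_ker w hw).1 hw0 with rfl | rfl
    · exact Or.inl (el_one e)
    · exact Or.inr rfl
  have hside1 : ∀ x ∈ TT e, (x ∈ EE D.D.S1.B e ↔ (vec x).2.1 = 0) := by
    intro x hx
    obtain ⟨p, hp, rfl⟩ := (mem_TT e).1 hx
    rw [el_mem_EE, hvec, D.side_one _ hp]
  have hside2 : ∀ x ∈ TT e, (x ∈ EE D.D.S2.B e ↔ (vec x).2.2.2 = 0) := by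
    intro x hx
    obtain ⟨p, hp, rfl⟩ := (mem_TT e).1 hx
    rw [el_mem_EE, hvec, D.side_two _ hp]
  obtain ⟨hg0, hg1, hg2, hg3⟩ := D.gen_bits
  have hz2 : ∀ a : ZMod 2, a = 0 ∨ a = 1 := by decide
  have hinj : ∀ x ∈ TT e, (vec (n * x * n⁻¹) = 0 → vec x = 0) := by
    intro x hx h
    rcases hker _ (hnorm x hx) h with h' | h'
    · rw [show x = n⁻¹ * (n * x * n⁻¹) * n by group, h', mul_one, inv_mul_cancel, hv1]
    · have hx' : x = zG := by
        have e1 : n * x * n⁻¹ = n * zG * n⁻¹ := by rw [h', hzfix]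
        exact mul_left_cancel (mul_right_cancel e1)
      rw [hx', hzG, hvec, (D.bits_ker _ (D.D.D.mem_F.1 hzF).1).2 (Or.inr rfl)]
      rfl
  have hgenT : ∀ i, el e (1, D.D.D.gen i) ∈ TT e := fun i => (mem_TT e).2 ⟨_, D.D.D.gen_mem i, rfl⟩
  set σ : G → ZMod 2 × ZMod 2 × ZMod 2 × ZMod 2 := fun x => vec (n * x * n⁻¹) with hσ
  -- images of the generators
  obtain ⟨u, v, hi0⟩ : ∃ u v, σ (el e (1, D.D.D.gen 0)) = (u, 1, v, 0) := by
    have hE : el e (1, D.D.D.gen 0) ∈ EE D.D.S1.B e := (hside1 _ (hgenT 0)).2 (by rw [hvec, hg0])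
    have h2 := (hside2 _ (hnorm _ (hgenT 0))).1 (hswap.1 _ hE)
    have h1' : (σ (el e (1, D.D.D.gen 0))).2.1 = 1 := by
      refine (hz2 _).resolve_left fun h => ?_
      have hmem := (hside1 _ (hnorm _ (hgenT 0))).2 h
      -- the element is then carried back into the first subgroup, so it lies in the second
      have hback := hswap.1 _ hE
      have : el e (1, D.D.D.gen 0) ∈ EE D.D.S2.B e := by
        have himgs : (EE D.D.S2.B e).map (MulAut.conj n).toMonoidHom = EE D.D.S1.B e :=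
          Subgroup.eq_of_le_of_card_ge (by rintro _ ⟨x, hx, rfl⟩; exact hswap.2 x hx)
            (by rw [Subgroup.card_map_of_injective (MulAut.conj n).injective, card_EE, card_EE])
        obtain ⟨y, hy, hy'⟩ := himgs.ge hmem
        rwa [← (MulAut.conj n).injective hy']
      have := (hside2 _ (hgenT 0)).1 this
      rw [hvec, hg0] at this
      exact one_ne_zero this
    exact ⟨_, _, Prod.ext rfl (Prod.ext h1' (Prod.ext rfl h2))⟩
  obtain ⟨u', v', hi2⟩ : ∃ u' v', σ (el e (1, D.D.D.gen 2)) = (u', 0, v', 1) := by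
    have hE : el e (1, D.D.D.gen 2) ∈ EE D.D.S2.B e := (hside2 _ (hgenT 2)).2 (by rw [hvec, hg2])
    have h2 := (hside1 _ (hnorm _ (hgenT 2))).1 (hswap.2 _ hE)
    have h1' : (σ (el e (1, D.D.D.gen 2))).2.2.2 = 1 := by
      refine (hz2 _).resolve_left fun h => ?_
      have hmem := (hside2 _ (hnorm _ (hgenT 2))).2 h
      have : el e (1, D.D.D.gen 2) ∈ EE D.D.S1.B e := by
        have himgs : (EE D.D.S1.B e).map (MulAut.conj n).toMonoidHom = EE D.D.S2.B e :=
          Subgroup.eq_of_le_of_card_ge (by rintro _ ⟨x, hx, rfl⟩; exact hswap.1 x hx)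
            (by rw [Subgroup.card_map_of_injective (MulAut.conj n).injective, card_EE, card_EE])
        obtain ⟨y, hy, hy'⟩ := himgs.ge hmem
        rwa [← (MulAut.conj n).injective hy']
      have := (hside1 _ (hgenT 2)).1 this
      rw [hvec, hg2] at this
      exact one_ne_zero this
    exact ⟨_, _, Prod.ext rfl (Prod.ext h2 (Prod.ext rfl h1'))⟩
  have hit : σ t = (1, 0, 0, 0) := by
    show vec (n * t * n⁻¹) = _
    rw [hnt, ← hzt, hvec, (D.bits_ker _ (D.D.D.mem_F.1 hzF).1).2 (Or.inr rfl)]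
    rfl
  obtain ⟨x, hi3⟩ : ∃ x, σ (el e (1, D.D.D.gen 3)) = (x, 0, 1, 0) := by
    have hsE1 : el e (1, D.D.D.gen 3) ∈ EE D.D.S1.B e := (hside1 _ (hgenT 3)).2 (by rw [hvec, hg3])
    have hsE2 : el e (1, D.D.D.gen 3) ∈ EE D.D.S2.B e := (hside2 _ (hgenT 3)).2 (by rw [hvec, hg3])
    have h1' := (hside1 _ (hnorm _ (hgenT 3))).1 (hswap.2 _ hsE2)
    have h2' := (hside2 _ (hnorm _ (hgenT 3))).1 (hswap.1 _ hsE1)
    have h3 : (σ (el e (1, D.D.D.gen 3))).2.2.1 = 1 := by
      refine (hz2 _).resolve_left fun h => ?_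
      rcases hz2 (σ (el e (1, D.D.D.gen 3))).1 with h0 | h0
      · have h00 := hinj _ (hgenT 3) (Prod.ext h0 (Prod.ext h1' (Prod.ext h h2')))
        rw [hvec, hg3] at h00
        simp at h00
      · have hd : vec (n * (el e (1, D.D.D.gen 3) * t) * n⁻¹) = 0 := by
          rw [show n * (el e (1, D.D.D.gen 3) * t) * n⁻¹ = (n * el e (1, D.D.D.gen 3) * n⁻¹) * (n * t * n⁻¹) by
            group, hvmul _ (hnorm _ (hgenT 3)) _ (hnorm _ ((mem_TT e).2 ⟨_, one_mem _, helt⟩))]
          show σ (el e (1, D.D.D.gen 3)) + σ t = 0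
          rw [hit, (Prod.ext h0 (Prod.ext h1' (Prod.ext h h2')) : σ (el e (1, D.D.D.gen 3)) = (1, 0, 0, 0))]
          decide
        have htT : t ∈ TT e := (mem_TT e).2 ⟨_, one_mem _, helt⟩
        have h00 := hinj _ (mul_mem (hgenT 3) htT) hd
        rw [hvmul _ (hgenT 3) _ htT, hvec, hg3, ← helt, hvec] at h00
        exact absurd (congrArg (fun w => w.2.2.1) h00) (by
          show ((1 : ZMod 2) + (bits (1 : Perm (Fin m))).2.1) ≠ 0
          rw [(D.bits_ker 1 (one_mem _)).2 (Or.inl rfl)]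
          decide)
    exact ⟨_, Prod.ext rfl (Prod.ext h1' (Prod.ext h3 h2'))⟩
  have hσmul : ∀ a ∈ TT e, ∀ c ∈ TT e, σ (a * c) = σ a + σ c := fun a ha c hc => by
    show vec (n * (a * c) * n⁻¹) = _
    rw [show n * (a * c) * n⁻¹ = (n * a * n⁻¹) * (n * c * n⁻¹) by group, hvmul _ (hnorm a ha) _ (hnorm c hc)]
  set L := linMap x u v u' v' with hL
  have hLadd : ∀ a c, L (a + c) = L a + L c := by
    intro a c
    simp only [hL, linMap, Prod.fst_add, Prod.snd_add, Prod.mk_add_mk]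
    refine Prod.ext ?_ (Prod.ext rfl (Prod.ext ?_ rfl)) <;> ring
  have hσL : ∀ a ∈ TT e, σ a = L (vec a) := by
    have hσ1 : σ 1 = 0 := by show vec (n * 1 * n⁻¹) = 0; rw [mul_one, mul_inv_cancel, hv1]
    have hL0 : L 0 = 0 := by simp [hL, linMap]
    have hbt : bits (1 : Perm (Fin m)) = 0 := (D.bits_ker 1 (one_mem _)).2 (Or.inl rfl)
    have hgen : ∀ i, σ (el e (1, D.D.D.gen i)) = L (vec (el e (1, D.D.D.gen i))) := by
      intro i
      rw [hvec]
      rcases (by decide : ∀ k : Fin 4, k = 0 ∨ k = 1 ∨ k = 2 ∨ k = 3) i with rfl | rfl | rfl | rfl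
      · rw [hi0, hg0]; simp [hL, linMap]
      · have hz0 : σ zG = 0 := by
          show vec (n * zG * n⁻¹) = 0
          rw [hzfix, hzG, hvec, (D.bits_ker _ (D.D.D.mem_F.1 hzF).1).2 (Or.inr rfl)]; rfl
        have h01 : el e (1, D.D.D.gen 1) = el e (1, D.D.D.gen 0) * zG := by
          rw [hzG, ← el_mul, Prod.mk_mul_mk, one_mul, FrameDeg.z, ← mul_assoc, D.D.D.gen_sq, one_mul]
        rw [h01, hσmul _ (hgenT 0) _ ((mem_TT e).2 ⟨_, (D.D.D.mem_F.1 hzF).1, rfl⟩), hi0, hz0, add_zero, hg1]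
        simp [hL, linMap]
      · rw [hi2, hg2]; simp [hL, linMap]
      · rw [hi3, hg3]; simp [hL, linMap]
    intro a ha
    obtain ⟨⟨ε, w⟩, hw, rfl⟩ := (mem_TT e).1 ha
    obtain ⟨k, -, rfl⟩ := List.mem_map.1 (D.D.D.words w hw)
    have hpiece : ∀ i (bb : Bool), el e (1, if bb then D.D.D.gen i else 1) ∈ TT e ∧
        σ (el e (1, if bb then D.D.D.gen i else 1)) = L (vec (el e (1, if bb then D.D.D.gen i else 1))) := by
      intro i bb
      cases bb
      · simp only [Bool.false_eq_true, if_false]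
        rw [show ((1 : Z₂), (1 : Perm (Fin m))) = 1 from rfl, el_one, hσ1, hv1, hL0]
        exact ⟨one_mem _, rfl⟩
      · exact ⟨hgenT i, hgen i⟩
    have hadd : ∀ a c, a ∈ TT e ∧ σ a = L (vec a) → c ∈ TT e ∧ σ c = L (vec c) →
        a * c ∈ TT e ∧ σ (a * c) = L (vec (a * c)) := fun a c ha hc =>
      ⟨mul_mem ha.1 hc.1, by rw [hσmul _ ha.1 _ hc.1, hvmul _ ha.1 _ hc.1, hLadd, ha.2, hc.2]⟩
    have hε : el e (ε, 1) ∈ TT e ∧ σ (el e (ε, 1)) = L (vec (el e (ε, 1))) := by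
      refine ⟨(mem_TT e).2 ⟨_, one_mem _, rfl⟩, ?_⟩
      rcases z2_cases ε with rfl | rfl
      · rw [show ((1 : Z₂), (1 : Perm (Fin m))) = 1 from rfl, el_one, hσ1, hv1, hL0]
      · rw [hvec, helt, hit, hbt]; simp [hL, linMap]
    have hsplit : ∀ a b c d : Perm (Fin m), el e (ε, a * b * c * d) =
        el e (ε, 1) * el e (1, a) * el e (1, b) * el e (1, c) * el e (1, d) := by
      intro a b c d
      simp only [← el_mul, Prod.mk_mul_mk, mul_one, one_mul]
    rw [hsplit]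
    exact (hadd _ _ (hadd _ _ (hadd _ _ (hadd _ _ hε (hpiece 0 _)) (hpiece 1 _)) (hpiece 2 _)) (hpiece 3 _)).2
  set c := vec (n * n) with hc
  have hsurj : ∀ w : ZMod 2 × ZMod 2 × ZMod 2 × ZMod 2, ∃ a ∈ TT e, vec a = w := by
    rintro ⟨w1, w2, w3, w4⟩
    refine ⟨el e (if w1 = 0 then 1 else τ₁, (if w4 = 0 then 1 else D.D.D.gen 0) *
      (if w2 = 0 then 1 else D.D.D.gen 2) * (if w3 = 0 then 1 else D.D.D.gen 3)),
      (mem_TT e).2 ⟨_, mul_mem (mul_mem (by split_ifs; exacts [one_mem _, D.D.D.gen_mem 0])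
        (by split_ifs; exacts [one_mem _, D.D.D.gen_mem 2])) (by split_ifs; exacts [one_mem _, D.D.D.gen_mem 3]), rfl⟩, ?_⟩
    have hbt : bits (1 : Perm (Fin m)) = 0 := (D.bits_ker 1 (one_mem _)).2 (Or.inl rfl)
    rw [hvec, hbmul _ (mul_mem (by split_ifs; exacts [one_mem _, D.D.D.gen_mem 0])
      (by split_ifs; exacts [one_mem _, D.D.D.gen_mem 2])) _ (by split_ifs; exacts [one_mem _, D.D.D.gen_mem 3]),
      hbmul _ (by split_ifs; exacts [one_mem _, D.D.D.gen_mem 0]) _ (by split_ifs; exacts [one_mem _, D.D.D.gen_mem 2])]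
    rcases hz2 w1 with rfl | rfl <;> rcases hz2 w2 with rfl | rfl <;> rcases hz2 w3 with rfl | rfl <;>
      rcases hz2 w4 with rfl | rfl <;> simp [hbt, hg0, hg2, hg3, Prod.ext_iff]
  refine (exists_functional x u v u' v' c ?_ ?_ ?_).elim fun f hf => ?_
  · intro w
    obtain ⟨a, ha, rfl⟩ := hsurj w
    show L (L (vec a)) = _
    rw [← hσL a ha]
    show L (vec (n * a * n⁻¹)) = _
    rw [← hσL _ (hnorm a ha)]
    show vec (n * (n * a * n⁻¹) * n⁻¹) = _
    rw [show n * (n * a * n⁻¹) * n⁻¹ = (n * n) * a * (n * n)⁻¹ by group,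
      hvmul _ (mul_mem hn2 ha) _ (inv_mem hn2), hvmul _ hn2 _ ha, add_comm (vec (n * n)), add_assoc,
      ← hvmul _ hn2 _ (inv_mem hn2), mul_inv_cancel, hv1, add_zero]
  · show L c = c
    rw [hc, ← hσL _ hn2]
    show vec (n * (n * n) * n⁻¹) = _
    rw [show n * (n * n) * n⁻¹ = n * n by group]
  · intro w hw
    obtain ⟨a, ha, rfl⟩ := hsurj w
    have hsq : a * n * (a * n) = a * (n * a * n⁻¹) * (n * n) := by group
    have hmem : a * n * (a * n) ∈ TT e := hsq ▸ mul_mem (mul_mem ha (hnorm a ha)) hn2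
    have hv : vec (a * n * (a * n)) = (1, 0, 0, 0) := by
      rw [hsq, hvmul _ (mul_mem ha (hnorm a ha)) _ hn2, hvmul _ ha _ (hnorm a ha)]
      have hσa := hσL a ha
      rw [hσ] at hσa
      simp only at hσa
      rw [hσa]
      exact hw
    have htT : t ∈ TT e := (mem_TT e).2 ⟨_, one_mem _, helt⟩
    have hk := hker _ (mul_mem hmem htT) (by
      rw [hvmul _ hmem _ htT, hv, ← helt, hvec, (D.bits_ker 1 (one_mem _)).2 (Or.inl rfl)]
      show ((1 : ZMod 2), (0 : ZMod 2), (0 : ZMod 2), (0 : ZMod 2)) +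
        ((1 : ZMod 2), ((0 : ZMod 2), (0 : ZMod 2), (0 : ZMod 2))) = 0
      decide)
    refine not_conj_sq D.D.D e h1 (a * n) ?_
    rcases hk with h | h
    · rw [eq_inv_of_mul_eq_one_left h, inv_eq_of_mul_eq_one_right ht]
    · have hzc : zG * t = t * zG :=
        (Subgroup.mem_centralizer_singleton_iff.1 (e.symm ((1 : Z₂), D.D.D.z)).2)
      rw [show a * n * (a * n) = zG * t by rw [← h, mul_assoc _ t t, ht, mul_one], hzc, ← hnt]
      exact isConj_iff.2 ⟨n, rfl⟩
  obtain ⟨hf1, hf2, hf3⟩ := hf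
  -- the homomorphisms
  let φ : G → Z₂ := fun a => Multiplicative.ofAdd
    (f.1 * (vec a).1 + f.2.1 * (vec a).2.1 + f.2.2.1 * (vec a).2.2.1 + f.2.2.2 * (vec a).2.2.2)
  have hφmul : ∀ a ∈ TT e, ∀ d ∈ TT e, φ (a * d) = φ a * φ d := fun a ha d hd => by
    simp only [φ, hvmul a ha d hd, Prod.fst_add, Prod.snd_add, ← ofAdd_add]
    congr 1; ring
  have hφinv : ∀ a ∈ TT e, φ (n * a * n⁻¹) = φ a := fun a ha => by
    have hσa := hσL a ha
    rw [hσ] at hσa
    simp only at hσa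
    simp only [φ, hσa]
    exact congrArg Multiplicative.ofAdd (hf3 _)
  have hφn : φ (n * n) = 1 := by simp only [φ, ← hc, hf2, ofAdd_zero]
  obtain ⟨lam, hlamT, -⟩ := exists_hom_ext hn hnT hTN hn2 hnorm hcov φ hφmul hφinv 1 hφn
  obtain ⟨par, hparT, hparn⟩ := exists_hom_ext hn hnT hTN hn2 hnorm hcov (fun _ => (1 : Z₂))
    (fun _ _ _ _ => (one_mul 1).symm) (fun _ _ => rfl) τ₁ rfl
  have htN : t ∈ N := hTN ((mem_TT e).2 ⟨_, one_mem _, helt⟩)
  have h64 : ¬ 2 ^ (5 + 1) ∣ Nat.card (Subgroup.centralizer ({t} : Set G)) := fun h => by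
    have := (pow_dvd_card D.D.D.base e 6).1 h
    omega
  refine exists_index_two_of_classes (H := N) (s := 5) ht lam h64 {⟨t, htN⟩} ?_ ?_ ?_ ?_ ?_
  · intro τ hτ
    rw [Finset.mem_singleton] at hτ
    subst hτ
    exact IsConj.refl t
  · intro τ hτ
    rw [Finset.mem_singleton] at hτ
    subst hτ
    rw [show (2 : ℕ) ^ 5 = 32 by norm_num, ← card_TT D.D.D e]
    exact Subgroup.card_dvd_of_le fun a ha => ⟨hTN ha, TT_le e ha⟩
  · intro τ hτ τ' hτ' _
    rw [Finset.mem_singleton] at hτ hτ'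
    rw [hτ, hτ']
  · rintro ⟨s, hsN⟩ hsX hs32
    refine ⟨⟨t, htN⟩, Finset.mem_singleton_self _, ?_⟩
    set A := N ⊓ Subgroup.centralizer ({s} : Set G) with hA
    have hA32 : 32 ∣ Nat.card A := hs32
    have hApos : 32 ≤ Nat.card A := Nat.le_of_dvd Nat.card_pos hA32
    have hhalf : ∀ (D' : Subgroup G) (ρ : D' →* Z₂) (K' : Subgroup G),
        (∀ a : D', ρ a = 1 → (a : G) ∈ K') → Nat.card D' ≤ 2 * Nat.card ↥(D' ⊓ K') := by
      intro D' ρ K' hK'
      rw [← ρ.ker.card_mul_index, Subgroup.index_ker, mul_comm]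
      refine Nat.mul_le_mul ?_ ?_
      · exact (Subgroup.card_le_card_group ρ.range).trans (by simp)
      · refine Nat.card_le_card_of_injective (fun a => (⟨(a.1 : G), a.1.2, hK' a.1 a.2⟩ : ↥(D' ⊓ K')))
          fun a a' h => ?_
        exact Subtype.ext (Subtype.ext (congrArg (fun y : ↥(D' ⊓ K') => (y : G)) h))
    by_cases hsT : s ∈ TT e
    · obtain ⟨⟨ε, w⟩, hw, rfl⟩ := (mem_TT e).1 hsT
      have hw2 : w * w = 1 := by
        obtain ⟨g, hg⟩ := isConj_iff.1 hsX
        replace hg : g * t * g⁻¹ = el e (ε, w) := hg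
        have : el e ((ε, w) * (ε, w)) = el e 1 := by
          rw [el_mul, el_one]
          show el e (ε, w) * el e (ε, w) = 1
          rw [← hg, show g * t * g⁻¹ * (g * t * g⁻¹) = g * (t * t) * g⁻¹ by group, ht]
          simp
        exact congrArg Prod.snd (el_injective e this)
      by_cases hwF : w ∈ D.D.D.F
      · rcases (hXF (ε, w) hwF).1 hsX with h | h <;> obtain ⟨rfl, rfl⟩ := Prod.mk.inj h
        · exact isConj_iff.2 ⟨1, Subtype.ext (by simp [helt])⟩
        · exact isConj_iff.2 ⟨⟨n, hn⟩, Subtype.ext (by simp [hzt, hnt])⟩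
      · exfalso
        -- nothing outside `T` centralizes it
        have hAT : A ≤ TT e := by
          intro a ha
          refine (hcov a ha.1).resolve_right fun hy => ?_
          have hac := Subgroup.mem_centralizer_singleton_iff.1 ha.2
          have hs_img : n * el e (ε, w) * n⁻¹ =
              (a * n⁻¹)⁻¹ * el e (ε, w) * (a * n⁻¹) := by
            calc n * el e (ε, w) * n⁻¹ = (a * n⁻¹)⁻¹ * (a * el e (ε, w)) * n⁻¹ := by group
              _ = _ := by rw [hac]; group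
          have hfx : ∀ S : Side m, el e (ε, w) ∈ EE S.B e → n * el e (ε, w) * n⁻¹ ∈ EE S.B e := by
            intro S hS
            rw [hs_img]
            have hTS : a * n⁻¹ ∈ normalizer (EE S.B e : Set G) := by
              obtain ⟨p, hp, hp'⟩ := (mem_TT e).1 hy
              rw [← hp']
              refine (normalizer_EE S.B e (e.symm p).2).2 fun l => ?_
              show ∃ l', (e (e.symm p)).2 * S.B.r l * ((e (e.symm p)).2)⁻¹ = S.B.r l'
              rw [e.apply_symm_apply]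
              exact S.normal _ hp l
            exact (Subgroup.mem_normalizer_iff''.1 hTS _).1 hS
          have hboth : el e (ε, w) ∈ EE D.D.S1.B e ∧ el e (ε, w) ∈ EE D.D.S2.B e := by
            have himgs : ∀ S S' : Side m, (∀ y ∈ EE S.B e, n * y * n⁻¹ ∈ EE S'.B e) →
                n * el e (ε, w) * n⁻¹ ∈ EE S'.B e → el e (ε, w) ∈ EE S.B e := by
              intro S S' h hm
              have heq : (EE S.B e).map (MulAut.conj n).toMonoidHom = EE S'.B e :=
                Subgroup.eq_of_le_of_card_ge (by rintro _ ⟨y, hy, rfl⟩; exact h y hy)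
                  (by rw [Subgroup.card_map_of_injective (MulAut.conj n).injective, card_EE, card_EE])
              obtain ⟨y, hy, hy'⟩ := heq.ge hm
              rwa [← (MulAut.conj n).injective hy']
            rcases D.D.invol w hw hw2 with h | h
            · exact ⟨(el_mem_EE _).2 h, himgs _ _ hswap.2 (hfx _ ((el_mem_EE _).2 h))⟩
            · exact ⟨himgs _ _ hswap.1 (hfx _ ((el_mem_EE _).2 h)), (el_mem_EE _).2 h⟩
          refine hwF (D.F_bits w hw ?_ ?_)
          · exact (D.side_one w hw).1 ((el_mem_EE _).1 hboth.1)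
          · exact (D.side_two w hw).1 ((el_mem_EE _).1 hboth.2)
        have heq : A = TT e := Subgroup.eq_of_le_of_card_ge hAT (by rw [card_TT D.D.D e]; exact hApos)
        refine hwF (D.D.D.mem_F.2 ⟨hw, fun y hy => ?_⟩)
        have hy' : el e (1, y) ∈ A := by rw [heq]; exact (mem_TT e).2 ⟨_, hy, rfl⟩
        have h := Subgroup.mem_centralizer_singleton_iff.1 hy'.2
        rw [← el_mul, ← el_mul] at h
        exact (congrArg Prod.snd (el_injective e h)).symm
    · exfalso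
      -- at most eight elements of `T` centralize it
      set DA := A ⊓ TT e with hDA
      have hd1 : Nat.card A ≤ 2 * Nat.card DA := by
        refine hhalf A (par.comp (Subgroup.inclusion inf_le_left)) (TT e) fun a ha => ?_
        refine (hcov a.1 a.2.1).resolve_right fun hy => ?_
        have e1 : (⟨(a : G), a.2.1⟩ : N) = ⟨(a : G) * n⁻¹, hTN hy⟩ * ⟨n, hn⟩ := Subtype.ext (by simp)
        have hv' : par ⟨(a : G), a.2.1⟩ = τ₁ := by rw [e1, map_mul, hparT _ hy, hparn, one_mul]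
        exact tau_ne ((show par ⟨(a : G), a.2.1⟩ = 1 from ha).symm.trans hv')
      have hd2 : Nat.card DA ≤ 2 * Nat.card ↥(DA ⊓ EE D.D.S1.B e) := by
        refine hhalf DA (MonoidHom.mk' (fun a : DA => Multiplicative.ofAdd (vec (a : G)).2.1) fun a a' => ?_)
          (EE D.D.S1.B e) fun a ha => ?_
        · rw [Subgroup.coe_mul, hvmul _ a.2.2 _ a'.2.2]; rfl
        · exact (hside1 _ a.2.2).2 (Multiplicative.ofAdd.injective ha)
      have hd3 : Nat.card ↥(DA ⊓ EE D.D.S1.B e) < 8 := by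
        let Z8 : Finset G := ((Finset.univ : Finset Z₂) ×ˢ D.D.D.F.toFinset).image (el e)
        have hZ8 : Z8.card ≤ 8 := by
          refine Finset.card_image_le.trans ?_
          rw [Finset.card_product]
          calc _ ≤ 2 * 4 := Nat.mul_le_mul (by simp) ((List.toFinset_card_le _).trans (by simp [FrameDeg.F]))
            _ = 8 := rfl
        have htZ : t ∈ Z8 := Finset.mem_image.2 ⟨(τ₁, 1), by simp [FrameDeg.F], helt⟩
        have hmem : ∀ a : ↥(DA ⊓ EE D.D.S1.B e), (a : G) ∈ Z8.erase t := by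
          rintro ⟨a, ⟨⟨haN, hac⟩, haT⟩, haE⟩
          have hs : s * a * s⁻¹ = a := by
            rw [(Subgroup.mem_centralizer_singleton_iff.1 hac).symm, mul_inv_cancel_right]
          obtain ⟨y, hy, hy'⟩ : ∃ y ∈ TT e, s = y * n :=
            ⟨s * n⁻¹, (hcov s hsN).resolve_left hsT, (inv_mul_cancel_right s n).symm⟩
          have h2 : a ∈ EE D.D.S2.B e := by
            obtain ⟨p, hp, hp'⟩ := (mem_TT e).1 hy
            have hyN : y ∈ normalizer (EE D.D.S2.B e : Set G) := by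
              rw [← hp']
              refine (normalizer_EE D.D.S2.B e (e.symm p).2).2 fun l => ?_
              show ∃ l', (e (e.symm p)).2 * D.D.S2.B.r l * ((e (e.symm p)).2)⁻¹ = D.D.S2.B.r l'
              rw [e.apply_symm_apply]
              exact D.D.S2.normal _ hp l
            rw [← hs, hy', show y * n * a * (y * n)⁻¹ = y * (n * a * n⁻¹) * y⁻¹ by group]
            exact (Subgroup.mem_normalizer_iff.1 hyN _).1 (hswap.1 a haE)
          obtain ⟨⟨ε, w⟩, hw, rfl⟩ := (mem_TT e).1 haT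
          refine Finset.mem_erase.2 ⟨fun h => ?_, Finset.mem_image.2 ⟨(ε, w), ?_, rfl⟩⟩
          · have : Commute s t := by rw [← h]; exact (Subgroup.mem_centralizer_singleton_iff.1 hac).symm
            exact hsT (hNC s hsN this)
          · rw [Finset.mem_product, List.mem_toFinset]
            refine ⟨Finset.mem_univ _, D.F_bits w hw ?_ ?_⟩
            · exact (D.side_one w hw).1 ((el_mem_EE _).1 haE)
            · exact (D.side_two w hw).1 ((el_mem_EE _).1 h2)
        have hle : Nat.card ↥(DA ⊓ EE D.D.S1.B e) ≤ Nat.card {y // y ∈ Z8.erase t} :=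
          Nat.card_le_card_of_injective (fun a => ⟨a.1, hmem a⟩) fun a a' h =>
            Subtype.ext (congrArg (fun y : {y // y ∈ Z8.erase t} => y.1) h)
        rw [Nat.card_eq_finsetCard, Finset.card_erase_of_mem htZ] at hle
        have := Finset.card_pos.2 ⟨t, htZ⟩
        omega
      omega
  · rw [Finset.prod_singleton, hlamT ⟨t, htN⟩ ((mem_TT e).2 ⟨_, one_mem _, helt⟩)]
    simp only [φ]
    rw [← helt, hvec, (D.bits_ker 1 (one_mem _)).2 (Or.inl rfl), hf1]
    simp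

/-- Three of six have the same colour. -/
theorem pigeon_six : ∀ col : Fin 6 → Bool, ∃ a c d : Fin 6, a ≠ c ∧ a ≠ d ∧ c ≠ d ∧ col a = col c ∧ col a = col d := by
  decide +kernel

/-- `128 ∣ |G|`. -/
theorem sixty_four_deg (D : SixtyDeg m) (e : Subgroup.centralizer ({t} : Set G) ≃* Z₂ × Perm (Fin m))
    (ht : t * t = 1) (h1 : t ≠ 1) (hno : ∀ K : Subgroup G, K.index ≠ 2) (h64 : 2 ^ 6 ∣ Nat.card G) :
    2 ^ 7 ∣ Nat.card G := by
  classical
  by_contra h128
  obtain ⟨b, hb01, hval⟩ := exists_vals D.D e ht h1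
  set B := D.D.D.base
  obtain ⟨o, ho⟩ := (pow_dvd_card B e 5).2 le_rfl
  have hodd : ¬ 2 ∣ o := fun ⟨u, hu⟩ => by
    have := (pow_dvd_card B e 6).1 ⟨u, by rw [ho, hu]; ring⟩
    omega
  obtain ⟨u, hu⟩ := h64
  have huodd : ¬ 2 ∣ u := fun ⟨w, hw⟩ => h128 ⟨w, by rw [hu, hw]; ring⟩
  have hcount : ∀ i, ((D.D.L.L i).filter (val b)).length % 2 = 0 := by
    intro i
    set H0 := listSub (D.D.L.L i) (D.D.L.one i) (D.D.L.mul i) (D.D.L.inv i) with hH0
    have hcH : Nat.card (lift e H0) = 16 := by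
      rw [lift, Subgroup.card_map_of_injective (Subgroup.subtype_injective _),
        Nat.card_congr ((e.subgroupMap (H0.comap e.toMonoidHom)).toEquiv)]
      change Nat.card ↥((H0.comap e.toMonoidHom).map e.toMonoidHom) = 16
      rw [Subgroup.map_comap_eq_self_of_surjective e.surjective, card_listSub (D.D.L.nodup i), D.D.L.len]
    have hidx : (lift e H0).index = 4 * u := by
      have h := (lift e H0).card_mul_index
      rw [hcH, hu] at h
      omega
    have hfm := card_fixed_mul (t := t) (lift e H0)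
    rw [card_lift_class e hval (D.D.L.nodup i), hcH, ho] at hfm
    obtain ⟨f, hf⟩ := four_dvd_fixed ht hno (lift e H0) ⟨u, hidx⟩
    rw [hf] at hfm
    have h2 : 2 ∣ ((D.D.L.L i).filter (val b)).length * o := ⟨f, by
      have : 32 * (((D.D.L.L i).filter (val b)).length * o) = 32 * (2 * f) := by rw [← mul_assoc]; linarith
      omega⟩
    rcases (Nat.Prime.dvd_mul Nat.prime_two).1 h2 with h | h
    · exact Nat.mod_eq_zero_of_dvd h
    · exact absurd h hodd
  have hclass : (1 + ∑ i : Fin 2, ∑ k : Fin 3, if b i k then D.D.L.N k else 0) % 4 = 2 := by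
    have hX : Nat.card {x : G // x ∈ Subgroup.centralizer ({t} : Set G) ∧ IsConj t x} =
        (Finset.univ.filter fun p : Z₂ × Perm (Fin m) => val b p = true).card := by
      rw [← Nat.card_eq_finsetCard]
      refine Nat.card_congr
        { toFun := fun x => ⟨e ⟨x.1, x.2.1⟩, ?_⟩
          invFun := fun p => ⟨el e p.1, (e.symm p.1).2, ?_⟩
          left_inv := fun x => Subtype.ext (by simp [el])
          right_inv := fun p => Subtype.ext (by simp [el]) }
      · refine Finset.mem_filter.2 ⟨Finset.mem_univ _, (hval _).1 ?_⟩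
        rw [el, e.symm_apply_apply]
        exact x.2.2
      · exact (hval _).2 (Finset.mem_filter.1 p.2).2
    have hfm := Nat.eq_of_mul_eq_mul_right Nat.card_pos (card_fixed_mul (t := t) (Subgroup.centralizer ({t} : Set G)))
    rw [← card_val b D.D.L.N D.D.L.hN, ← hX, ← hfm, fixed_mod_four ht hno]
    have h := (Subgroup.centralizer ({t} : Set G)).card_mul_index
    rw [ho, hu] at h
    have hi : o * (Subgroup.centralizer ({t} : Set G)).index = 2 * u := by
      have : 32 * (o * (Subgroup.centralizer ({t} : Set G)).index) = 32 * (2 * u) := by rw [← mul_assoc]; linarith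
      omega
    set I := (Subgroup.centralizer ({t} : Set G)).index
    obtain ⟨p, hp⟩ : 2 ∣ I := ((Nat.Prime.dvd_mul Nat.prime_two).1 ⟨u, hi⟩).resolve_left hodd
    have hp' : ¬ 2 ∣ p := fun h2 => huodd (by
      have he : o * p = u := by rw [hp] at hi; linarith
      exact he ▸ dvd_mul_of_dvd_right h2 o)
    omega
  obtain ⟨hb11, hb02, hb12, hb10⟩ := D.solve b hb01 hcount hclass
  cases h00 : b 0 0
  · obtain ⟨K, hK⟩ := none_case D e ht h1 h128 hval
      ⟨hb01, hb11, h00, hb02.trans h00, hb10.trans h00, hb12.trans (hb10.trans h00)⟩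
    exact hno K hK
  -- all six values
  have hb02' : b 0 2 = true := hb02.trans h00
  have hb10' : b 1 0 = true := hb10.trans h00
  have hb12' : b 1 2 = true := hb12.trans hb10'
  have helt : el e (τ₁, 1) = t := by rw [← apply_t B e h1, el, e.symm_apply_apply]
  obtain ⟨hs0, hs1, hs2, hs3, hs4⟩ := D.D.s_idx
  let pt : Fin 6 → Z₂ × Perm (Fin m) := ![(τ₁, 1), (τ₁, D.D.D.z), (1, D.D.D.gen 3), (1, D.D.D.z * D.D.D.gen 3),
    (τ₁, D.D.D.gen 3), (τ₁, D.D.D.z * D.D.D.gen 3)]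
  have hptF : ∀ k, (pt k).2 ∈ D.D.D.F := fun k => by fin_cases k <;> simp [pt, FrameDeg.F]
  have hptX : ∀ k, IsConj t (el e (pt k)) := by
    intro k
    rw [hval, val, if_pos (D.D.D.F_sq (hptF k))]
    fin_cases k <;>
      simp [pt, D.D.D.z_ne.1, FrameDeg.z, hs4, hs3, eps_one, eps_tau, hb11, hb02', hb10', hb12', h00,
        show supIdx (D.D.D.gen 0 * D.D.D.gen 1) = 1 from hs1, hs0,
        show supIdx (D.D.D.gen 0 * D.D.D.gen 1 * D.D.D.gen 3) = 2 from hs2,
        show D.D.D.gen 0 * D.D.D.gen 1 * D.D.D.gen 3 ≠ 1 from hs3]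
  have hptinj : Function.Injective pt := by
    have hz1 : D.D.D.z ≠ 1 := D.D.D.z_ne.1
    have hzs : D.D.D.z ≠ D.D.D.gen 3 := D.D.D.z_ne.2
    have hzs1 : D.D.D.z * D.D.D.gen 3 ≠ D.D.D.z := fun h => hs4 (mul_eq_left.1 h)
    have hzs2 : D.D.D.z * D.D.D.gen 3 ≠ D.D.D.gen 3 := fun h => hz1 (mul_eq_right.1 h)
    intro k k' h
    fin_cases k <;> fin_cases k' <;>
      first
      | rfl
      | exact absurd (congrArg Prod.fst h : (1 : Z₂) = τ₁) tau_ne
      | exact absurd (congrArg Prod.fst h : τ₁ = (1 : Z₂)) (Ne.symm tau_ne)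
      | exact absurd (congrArg Prod.snd h : (1 : Perm (Fin m)) = D.D.D.z) (Ne.symm hz1)
      | exact absurd (congrArg Prod.snd h : D.D.D.z = (1 : Perm (Fin m))) hz1
      | exact absurd (congrArg Prod.snd h : (1 : Perm (Fin m)) = D.D.D.gen 3) (Ne.symm hs4)
      | exact absurd (congrArg Prod.snd h : D.D.D.gen 3 = (1 : Perm (Fin m))) hs4
      | exact absurd (congrArg Prod.snd h : (1 : Perm (Fin m)) = D.D.D.z * D.D.D.gen 3) (Ne.symm hs3)
      | exact absurd (congrArg Prod.snd h : D.D.D.z * D.D.D.gen 3 = (1 : Perm (Fin m))) hs3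
      | exact absurd (congrArg Prod.snd h : D.D.D.z = D.D.D.gen 3) hzs
      | exact absurd (congrArg Prod.snd h : D.D.D.gen 3 = D.D.D.z) (Ne.symm hzs)
      | exact absurd (congrArg Prod.snd h : D.D.D.z * D.D.D.gen 3 = D.D.D.z) hzs1
      | exact absurd (congrArg Prod.snd h : D.D.D.z = D.D.D.z * D.D.D.gen 3) (Ne.symm hzs1)
      | exact absurd (congrArg Prod.snd h : D.D.D.z * D.D.D.gen 3 = D.D.D.gen 3) hzs2
      | exact absurd (congrArg Prod.snd h : D.D.D.gen 3 = D.D.D.z * D.D.D.gen 3) (Ne.symm hzs2)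
  have hmv : ∀ k, ∃ n ∈ normalizer (TT e : Set G), n * t * n⁻¹ = el e (pt k) := fun k =>
    exists_normalizer_move D.D.D (hptF k) (hptX k)
  choose n hn hnt using hmv
  let P : G → Prop := fun g => ∀ x ∈ EE D.D.S1.B e, g * x * g⁻¹ ∈ EE D.D.S1.B e
  obtain ⟨a, c, d, hac, had, hcd, h1', h2'⟩ := pigeon_six fun k => decide (P (n k))
  -- differences fix both
  have hfix : ∀ k, decide (P (n a)) = decide (P (n k)) →
      (n a)⁻¹ * n k ∈ normalizer (EE D.D.S1.B e : Set G) ∧ (n a)⁻¹ * n k ∈ normalizer (EE D.D.S2.B e : Set G) := by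
    intro k hk
    have himgs : ∀ {g : G} {S S' : Side m}, (∀ y ∈ EE S.B e, g * y * g⁻¹ ∈ EE S'.B e) →
        ∀ y ∈ EE S'.B e, g⁻¹ * y * g ∈ EE S.B e := by
      intro g S S' h y hy
      have heq : (EE S.B e).map (MulAut.conj g).toMonoidHom = EE S'.B e :=
        Subgroup.eq_of_le_of_card_ge (by rintro _ ⟨w, hw, rfl⟩; exact h w hw)
          (by rw [Subgroup.card_map_of_injective (MulAut.conj g).injective, card_EE, card_EE])
      obtain ⟨w, hw, rfl⟩ := heq.ge hy
      show g⁻¹ * (g * w * g⁻¹) * g ∈ _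
      rwa [show g⁻¹ * (g * w * g⁻¹) * g = w by group]
    have hcomp : ∀ {S S' : Side m}, (∀ y ∈ EE S.B e, n k * y * (n k)⁻¹ ∈ EE S'.B e) →
        (∀ y ∈ EE S.B e, n a * y * (n a)⁻¹ ∈ EE S'.B e) → (n a)⁻¹ * n k ∈ normalizer (EE S.B e : Set G) := by
      intro S S' hk ha
      refine mem_normalizer_of_forall fun y hy => ?_
      rw [show (n a)⁻¹ * n k * y * ((n a)⁻¹ * n k)⁻¹ = (n a)⁻¹ * (n k * y * (n k)⁻¹) * n a by group]
      exact himgs ha _ (hk y hy)
    have hnotP : ∀ g, (∀ x ∈ EE D.D.S1.B e, g * x * g⁻¹ ∈ EE D.D.S2.B e) → ¬ P g := by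
      intro g h hP
      have heq : ∀ S : Side m, (∀ x ∈ EE D.D.S1.B e, g * x * g⁻¹ ∈ EE S.B e) →
          (EE D.D.S1.B e).map (MulAut.conj g).toMonoidHom = EE S.B e := fun S h =>
        Subgroup.eq_of_le_of_card_ge (by rintro _ ⟨x, hx, rfl⟩; exact h x hx)
          (by rw [Subgroup.card_map_of_injective (MulAut.conj g).injective, card_EE, card_EE])
      refine D.D.ne_side.2 fun x hx => ?_
      have hxE := (el_mem_EE (e := e) D.D.S1 (p := (1, x))).2 hx
      rw [← (heq _ hP).symm.trans (heq _ h) |>.symm] at hxE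
      exact (el_mem_EE D.D.S2).1 ((heq _ hP).symm.trans (heq _ h) ▸ (el_mem_EE (e := e) D.D.S1 (p := (1, x))).2 hx)
    rcases map_EE D.D (hn a) with ha | ha <;> rcases map_EE D.D (hn k) with hk' | hk'
    · exact ⟨hcomp hk'.1 ha.1, hcomp hk'.2 ha.2⟩
    · exfalso
      have := hnotP _ hk'.1
      rw [decide_eq_decide] at hk
      exact this (hk.1 ha.1)
    · exfalso
      have := hnotP _ ha.1
      rw [decide_eq_decide] at hk
      exact this (hk.2 hk'.1)
    · exact ⟨hcomp hk'.1 ha.1, hcomp hk'.2 ha.2⟩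
  have hgood : ∃ g, g ∈ normalizer (TT e : Set G) ∧ g ∈ normalizer (EE D.D.S1.B e : Set G) ∧
      g ∈ normalizer (EE D.D.S2.B e : Set G) ∧
      g * t * g⁻¹ ≠ t ∧ g * t * g⁻¹ ≠ el e (τ₁, D.D.D.z) := by
    have himg : ∀ k, (n a)⁻¹ * n k * t * ((n a)⁻¹ * n k)⁻¹ = (n a)⁻¹ * el e (pt k) * n a := fun k => by
      rw [← hnt k]; group
    have hinj : ∀ k k', (n a)⁻¹ * el e (pt k) * n a = (n a)⁻¹ * el e (pt k') * n a → k = k' := fun k k' h =>
      hptinj (el_injective e (mul_left_cancel (mul_right_cancel h)))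
    have hat : (n a)⁻¹ * el e (pt a) * n a = t := by rw [← hnt a]; group
    by_cases hc : (n a)⁻¹ * n c * t * ((n a)⁻¹ * n c)⁻¹ = el e (τ₁, D.D.D.z)
    · refine ⟨_, mul_mem (inv_mem (hn a)) (hn d), (hfix d h2').1, (hfix d h2').2, ?_, ?_⟩
      · rw [himg]; exact fun h => had (hinj a d (hat.trans h.symm))
      · rw [himg]; exact fun h => hcd (hinj c d ((himg c).symm.trans (hc.trans h.symm)))
    · refine ⟨_, mul_mem (inv_mem (hn a)) (hn c), (hfix c h1').1, (hfix c h1').2, ?_, hc⟩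
      rw [himg]; exact fun h => hac (hinj a c (hat.trans h.symm))
  obtain ⟨g, hgT, hg1, hg2, hgt, hgz⟩ := hgood
  obtain ⟨⟨ε, f⟩, hfF, hf⟩ := normalizer_central D.D.D hgT (p := (τ₁, 1)) (by simp [FrameDeg.F])
  rw [helt] at hf
  have hfX : IsConj t (el e (ε, f)) := isConj_iff.2 ⟨g, hf⟩
  obtain ⟨a1, a2, a3, a4⟩ := D.D.side1
  obtain ⟨c1, c2, c3, c4⟩ := D.D.side2
  simp only [FrameDeg.F, List.mem_cons, List.not_mem_nil, or_false] at hfF
  rcases hfF with h | h | h | h
  · subst h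
    rcases z2_cases ε with rfl | rfl
    · rw [hval] at hfX; simp [val] at hfX
    · exact hgt (hf.trans helt)
  · subst h
    rcases z2_cases ε with rfl | rfl
    · rw [hval, val, if_pos (D.D.D.F_sq (by simp [FrameDeg.F]))] at hfX
      dsimp only at hfX
      have hzne : D.D.D.z ≠ 1 := D.D.D.z_ne.1
      rw [if_neg hzne, hs1, eps_one, hb01] at hfX
      exact Bool.noConfusion hfX
    · exact hgz hf
  · subst h
    refine h128 (dvd_of_move D.D.D D.D.S1 h1 hval ?_ g hg1 (Or.inl ⟨?_, ε, ?_⟩))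
    · rw [a1, a2, h00, hb10', hb02', hb12']; exact ⟨hb01, hb11, rfl, rfl, rfl⟩
    · rw [a1, h00]
    · rw [a3]; exact hf
  · subst h
    refine h128 (dvd_of_move D.D.D D.D.S2 h1 hval ?_ g hg2 (Or.inl ⟨?_, ε, ?_⟩))
    · rw [c1, c2, h00, hb10', hb02', hb12']; exact ⟨hb01, hb11, rfl, rfl, rfl⟩
    · rw [c1, hb02']
    · rw [c3]; exact hf

set_option maxHeartbeats 4000000 in
/-- Degree six. -/
def sixtySix : SixtyDeg 6 where
  D := smallSix
  solve := by decide +kernel
  bits_mul := by decide +kernel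
  bits_ker := by decide +kernel
  side_one := by decide +kernel
  side_two := by decide +kernel
  gen_bits := by decide +kernel
  z_side := by decide +kernel
  F_bits := by decide +kernel

set_option maxHeartbeats 4000000 in
/-- Degree seven. -/
def sixtySeven : SixtyDeg 7 where
  D := smallSeven
  solve := by decide +kernel
  bits_mul := by decide +kernel
  bits_ker := by decide +kernel
  side_one := by decide +kernel
  side_two := by decide +kernel
  gen_bits := by decide +kernel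
  z_side := by decide +kernel
  F_bits := by decide +kernel

/-- No index two forces `128 ∣ |G|`, degree six. -/
theorem sixty_four_six (e : Subgroup.centralizer ({t} : Set G) ≃* Z₂ × Perm (Fin 6)) (ht : t * t = 1)
    (h1 : t ≠ 1) (hno : ∀ K : Subgroup G, K.index ≠ 2) : 2 ^ 7 ∣ Nat.card G :=
  sixty_four_deg sixtySix e ht h1 hno (small_sylow_six e ht h1 hno)

/-- No index two forces `128 ∣ |G|`, degree seven. -/
theorem sixty_four_seven (e : Subgroup.centralizer ({t} : Set G) ≃* Z₂ × Perm (Fin 7)) (ht : t * t = 1)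
    (h1 : t ≠ 1) (hno : ∀ K : Subgroup G, K.index ≠ 2) : 2 ^ 7 ∣ Nat.card G :=
  sixty_four_deg sixtySeven e ht h1 hno (small_sylow_seven e ht h1 hno)

end Cfsg.Lib.Extra.InvS6
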