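import Cfsg.Agent.Lib.Extra.InvS6.Frame
import Mathlib.GroupTheory.Sylow

/-!
# The Sylow 2-subgroups of `G` are larger than those of `C(t)`

If `64 ∤ |G|` and there is no subgroup of index two, the signs on the cosets of the three subgroups of
order sixteen put exactly one transposition class and one of their translates in the class of `t`;
Burnside moves `t` inside one elementary subgroup of order sixteen, which is impossible.
-/

set_option autoImplicit false
set_option linter.style.haveILetI false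
set_option linter.unusedSectionVars false
set_option maxRecDepth 100000

namespace Cfsg.Lib.Extra.InvS6

open Subgroup MulAction Equiv

variable {G : Type*} [Group G] [Finite G] {t : G} {m : ℕ}

local notation "Z₂" => Multiplicative (ZMod 2)
local notation "τ₁" => (Multiplicative.ofAdd (1 : ZMod 2))

/-- Without subgroups of index two the fixed points of an involution are congruent to all cosets. -/
theorem fixed_mod_four (ht : t * t = 1) (hno : ∀ K : Subgroup G, K.index ≠ 2) (H : Subgroup G) :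
    Nat.card (fixedBy (G ⧸ H) t) % 4 = H.index % 4 := by
  classical
  letI := Fintype.ofFinite (G ⧸ H)
  let f : G →* ℤˣ := Equiv.Perm.sign.comp (MulAction.toPermHom G (G ⧸ H))
  have hf : f t = 1 := by
    by_contra hne
    refine hno f.ker ?_
    rw [Subgroup.index_ker]
    have h1 : Nat.card f.range ≤ 2 :=
      (Subgroup.card_le_card_group f.range).trans (by simp [Fintype.card_units_int])
    have h2 : Nat.card f.range ≠ 1 := fun h => hne (by
      have := (Subgroup.card_eq_one.1 h).le (MonoidHom.mem_range.2 ⟨t, rfl⟩)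
      exact Subgroup.mem_bot.1 this)
    have h3 : 0 < Nat.card f.range := Nat.card_pos
    omega
  set σ := MulAction.toPermHom G (G ⧸ H) t with hσ
  haveI : Fact (Nat.Prime 2) := ⟨Nat.prime_two⟩
  have h2 : σ ^ 2 = 1 := by rw [hσ, ← map_pow, pow_two, ht, map_one]
  have hct := Equiv.Perm.cycleType_of_pow_prime_eq_one h2
  have hs : Equiv.Perm.sign σ = 1 := hf
  rw [Equiv.Perm.sign_of_cycleType] at hs
  have hsum : σ.cycleType.sum = 2 * Multiset.card σ.cycleType := by
    conv_lhs => rw [hct]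
    rw [Multiset.sum_replicate, smul_eq_mul, mul_comm]
  have heven : Even (Multiset.card σ.cycleType) := by
    rw [hsum] at hs
    by_contra h
    rw [Nat.not_even_iff_odd] at h
    rw [(by obtain ⟨k, hk⟩ := h; exact ⟨3 * k + 1, by omega⟩ :
      Odd (2 * Multiset.card σ.cycleType + Multiset.card σ.cycleType)).neg_one_pow] at hs
    exact absurd hs (by decide)
  have hfp : Nat.card (fixedBy (G ⧸ H) t) = Nat.card (G ⧸ H) - σ.cycleType.sum := by
    rw [Nat.card_eq_fintype_card, Nat.card_eq_fintype_card, ← Equiv.Perm.card_fixedPoints]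
    exact Fintype.card_congr (Equiv.refl _)
  have hle : σ.cycleType.sum ≤ Nat.card (G ⧸ H) := by
    rw [Nat.card_eq_fintype_card]; exact σ.sum_cycleType_le
  obtain ⟨k, hk⟩ := heven
  have hidx : Nat.card (G ⧸ H) = H.index := rfl
  omega

/-- One side: an elementary abelian subgroup of order eight of the symmetric factor spanned by three
involutions of one class, with the permutations of the three that are used. -/
structure Side (m : ℕ) where
  B : Base (Perm (Fin m))
  /-- The class of the three involutions. -/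
  k : Fin 3
  /-- The class of their product. -/
  k' : Fin 3
  /-- The central one. -/
  j : Fin 3
  k_ne : k ≠ 1 ∧ k' ≠ 1 ∧ k' ≠ k
  cls : ∀ i, supIdx (B.r i) = k
  cls_two : ∀ i i', i ≠ i' → B.r i * B.r i' ≠ 1 ∧ supIdx (B.r i * B.r i') = 1
  cls_three : B.r 0 * B.r 1 * B.r 2 ≠ 1 ∧ supIdx (B.r 0 * B.r 1 * B.r 2) = k'
  perm_j : ∀ i, ∃ s : Perm (Fin m), s * B.r j * s⁻¹ = B.r i ∧ ∀ l, ∃ l', s * B.r l * s⁻¹ = B.r l'
  swap01 : ∃ s : Perm (Fin m), s * B.r 0 * s⁻¹ = B.r 1 ∧ s * B.r 1 * s⁻¹ = B.r 0 ∧ s * B.r 2 * s⁻¹ = B.r 2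
  le_W : ∀ x ∈ cube (B.r 0) (B.r 1) (B.r 2), x ∈ W0 m
  normal : ∀ x, x ∈ W0 m → ∀ i, ∃ i', x * B.r i * x⁻¹ = B.r i'
  j_central : B.r j ∈ W0 m ∧ (∀ y, y ∈ W0 m → B.r j * y = y * B.r j)

theorem z2_cases : ∀ a : Z₂, a = 1 ∨ a = τ₁ := by decide

theorem eps_back : ∀ a : Z₂, (if epsIdx a = 0 then (1 : Z₂) else τ₁) = a := by decide

theorem eps_tau : epsIdx τ₁ = 1 := by decide

theorem eps_one : epsIdx (1 : Z₂) = 0 := by decide

theorem tau_ne : (1 : Z₂) ≠ τ₁ := by decide

theorem r_ne_one (B : Base (Perm (Fin m))) (i : Fin 3) : B.r i ≠ 1 := by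
  intro h
  have hn := B.nodup
  have h' : i = 0 ∨ i = 1 ∨ i = 2 := (by decide : ∀ k : Fin 3, k = 0 ∨ k = 1 ∨ k = 2) i
  rcases h' with rfl | rfl | rfl <;> simp [cube, h] at hn

theorem side_false (S : Side m) (e : Subgroup.centralizer ({t} : Set G) ≃* Z₂ × Perm (Fin m)) (h1 : t ≠ 1)
    (h64 : ¬ 2 ^ 6 ∣ Nat.card G) (b : Fin 2 → Fin 3 → Bool)
    (hval : ∀ p, IsConj t (el e p) ↔ val b p = true)
    (hb : b 0 S.k = true ∧ b 0 S.k' = false ∧ b 0 1 = false ∧ b 1 1 = false ∧ b 1 S.k' = !(b 1 S.k))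
    (hna : ∃ n ∈ normalizer (EE S.B e : Set G), n * t * n⁻¹ = el e (1, S.B.r S.j))
    (hnb : b 1 S.k' = true → ∃ n ∈ normalizer (EE S.B e : Set G),
      n * t * n⁻¹ = el e (τ₁, S.B.r 0 * S.B.r 1 * S.B.r 2)) : False := by
  classical
  obtain ⟨hbk, hbk', hb01, hb11, hbne⟩ := hb
  set r := S.B.r with hr
  set q := r 0 * r 1 * r 2 with hq
  have ht : el e (τ₁, 1) = t := by rw [← apply_t S.B e h1, el, e.symm_apply_apply]
  have hEel : ∀ p : Z₂ × Perm (Fin m), p.2 ∈ cube (r 0) (r 1) (r 2) → el e p ∈ EE S.B e := fun p hp =>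
    (mem_EE S.B e).2 ⟨(e.symm p).2, by
      show (e (e.symm p)).2 ∈ S.B.U
      rw [e.apply_symm_apply]; exact hp⟩
  have hEsurj : ∀ x ∈ EE S.B e, ∃ p : Z₂ × Perm (Fin m), p.2 ∈ cube (r 0) (r 1) (r 2) ∧ el e p = x := by
    intro x hx
    obtain ⟨h, hU⟩ := (mem_EE S.B e).1 hx
    exact ⟨e ⟨x, h⟩, hU, by rw [el, e.symm_apply_apply]⟩
  have hr1 : ∀ i, r i ≠ 1 := r_ne_one S.B
  -- membership of the class in the subgroup
  have hP : ∀ ε, ∀ x ∈ cube (r 0) (r 1) (r 2), IsConj t (el e (ε, x)) →
      (ε = τ₁ ∧ x = 1) ∨ (ε = 1 ∧ ∃ i, x = r i) ∨ (ε = τ₁ ∧ b 1 S.k = true ∧ ∃ i, x = r i) ∨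
      (ε = τ₁ ∧ b 1 S.k' = true ∧ x = q) := by
    intro ε x hx h
    rw [hval] at h
    have hsq := S.B.sq x hx
    rw [val, if_pos hsq] at h
    simp only [cube, List.mem_cons, List.not_mem_nil, or_false] at hx
    have hε := z2_cases ε
    have h2case : ∀ i i', i ≠ i' → x = r i * r i' → False := by
      intro i i' hne hx'
      obtain ⟨hn, hc⟩ := S.cls_two i i' hne
      rw [if_neg (by rw [hx']; exact hn), show supIdx x = 1 by rw [hx']; exact hc] at h
      rcases hε with rfl | rfl
      · rw [eps_one, hb01] at h; exact Bool.noConfusion h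
      · rw [eps_tau, hb11] at h; exact Bool.noConfusion h
    have h1case : ∀ i, x = r i →
        (ε = 1 ∧ ∃ i, x = r i) ∨ (ε = τ₁ ∧ b 1 S.k = true ∧ ∃ i, x = r i) := by
      intro i hx'
      rw [if_neg (by rw [hx']; exact hr1 i), show supIdx x = S.k by rw [hx']; exact S.cls i] at h
      rcases hε with rfl | rfl
      · exact Or.inl ⟨rfl, i, hx'⟩
      · rw [eps_tau] at h
        exact Or.inr ⟨rfl, h, i, hx'⟩
    rcases hx with hx | hx | hx | hx | hx | hx | hx | hx
    · rw [if_pos hx, decide_eq_true_iff] at h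
      exact Or.inl ⟨hε.resolve_left h, hx⟩
    · rcases h1case 0 hx with h' | h'
      exacts [Or.inr (Or.inl h'), Or.inr (Or.inr (Or.inl h'))]
    · rcases h1case 1 hx with h' | h'
      exacts [Or.inr (Or.inl h'), Or.inr (Or.inr (Or.inl h'))]
    · exact (h2case 0 1 (by decide) hx).elim
    · rcases h1case 2 hx with h' | h'
      exacts [Or.inr (Or.inl h'), Or.inr (Or.inr (Or.inl h'))]
    · exact (h2case 0 2 (by decide) hx).elim
    · exact (h2case 1 2 (by decide) hx).elim
    · rw [if_neg (by rw [hx]; exact S.cls_three.1),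
        show supIdx x = S.k' by rw [hx]; exact S.cls_three.2] at h
      rcases hε with rfl | rfl
      · rw [eps_one, hbk'] at h; exact Bool.noConfusion h
      · rw [eps_tau] at h
        exact Or.inr (Or.inr (Or.inr ⟨rfl, h, hx⟩))
  have hmemr : ∀ i, r i ∈ cube (r 0) (r 1) (r 2) := fun i => S.B.r_mem i
  have hPr : ∀ i, IsConj t (el e (1, r i)) := fun i => by
    rw [hval, val, if_pos (S.B.sq _ (hmemr i)), if_neg (hr1 i), S.cls i,
      eps_one]
    exact hbk
  have hmulI : ∀ i i', r i * r i' = 1 → i = i' := fun i i' h => by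
    by_contra hne
    exact (S.cls_two i i' hne).1 h
  obtain ⟨n, hn, hnt⟩ := hna
  cases hbb : b 1 S.k with
  | true =>
    rw [hbb] at hbne
    simp only [Bool.not_true] at hbne
    -- only two elements of the class make a third with the image of `t`
    have hy : ∀ y ∈ EE S.B e, IsConj t y → IsConj t (el e (1, r S.j) * y) →
        y = t ∨ y = el e (τ₁, r S.j) := by
      intro y hy hy1 hy2
      obtain ⟨⟨ε, x⟩, hx, rfl⟩ := hEsurj y hy
      rw [← el_mul, Prod.mk_mul_mk, one_mul] at hy2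
      have hjx := S.B.mul _ (hmemr S.j) _ hx
      rcases hP ε x hx hy1 with ⟨rfl, rfl⟩ | ⟨rfl, i, rfl⟩ | ⟨rfl, -, i, rfl⟩ | ⟨-, h, -⟩
      · exact Or.inl ht
      · exfalso
        by_cases hij : S.j = i
        · subst hij
          rw [S.B.sq _ (hmemr _)] at hy2
          rw [hval] at hy2
          simp [val] at hy2
        · obtain ⟨hn2, hc2⟩ := S.cls_two _ _ hij
          rw [hval, val, if_pos (S.B.sq _ hjx), if_neg hn2, hc2, eps_one,
            hb01] at hy2
          exact Bool.noConfusion hy2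
      · by_cases hij : S.j = i
        · subst hij; exact Or.inr rfl
        · exfalso
          obtain ⟨hn2, hc2⟩ := S.cls_two _ _ hij
          rw [hval, val, if_pos (S.B.sq _ hjx), if_neg hn2, hc2, eps_tau,
            hb11] at hy2
          exact Bool.noConfusion hy2
      · rw [hbne] at h; exact Bool.noConfusion h
    have hPt : ∀ i, IsConj t (el e (τ₁, r i)) := fun i => by
      rw [hval, val, if_pos (S.B.sq _ (hmemr i)), if_neg (hr1 i), S.cls i,
        eps_tau]
      exact hbb
    have hcand : ∀ i, n * el e (1, r i) * n⁻¹ = t ∨ n * el e (1, r i) * n⁻¹ = el e (τ₁, r S.j) := by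
      intro i
      refine hy _ ((Subgroup.mem_normalizer_iff.1 hn _).1 (hEel _ (hmemr i)))
        ((hPr i).trans (isConj_iff.2 ⟨n, rfl⟩)) ?_
      have e1 : el e (1, r S.j) * (n * el e (1, r i) * n⁻¹) = n * el e (τ₁, r i) * n⁻¹ := by
        rw [← hnt, show ((τ₁ : Z₂), r i) = (τ₁, 1) * (1, r i) by rw [Prod.mk_mul_mk, mul_one, one_mul],
          el_mul, ht]
        group
      rw [e1]
      exact (hPt i).trans (isConj_iff.2 ⟨n, rfl⟩)
    have hinj : ∀ i i', n * el e (1, r i) * n⁻¹ = n * el e (1, r i') * n⁻¹ → i = i' := by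
      intro i i' h
      have h' := congrArg Prod.snd (el_injective e (mul_left_cancel (mul_right_cancel h)))
      refine hmulI i i' ?_
      rw [show r i = r i' from h']
      exact S.B.sq _ (hmemr i')
    rcases hcand 0 with a | a <;> rcases hcand 1 with c | c <;> rcases hcand 2 with d | d <;>
      first
      | exact absurd (hinj 0 1 (a.trans c.symm)) (by decide)
      | exact absurd (hinj 0 2 (a.trans d.symm)) (by decide)
      | exact absurd (hinj 1 2 (c.trans d.symm)) (by decide)
  | false =>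
    rw [hbb] at hbne
    simp only [Bool.not_false] at hbne
    -- five points
    let pt : Fin 5 → G := ![t, el e (τ₁, q), el e (1, r 0), el e (1, r 1), el e (1, r 2)]
    have hqc : q ∈ cube (r 0) (r 1) (r 2) := S.B.mul _ (S.B.mul _ (hmemr 0) _ (hmemr 1)) _ (hmemr 2)
    have hptE : ∀ k, pt k ∈ EE S.B e := by
      intro k
      fin_cases k
      · exact t_mem_EE S.B e h1
      · exact hEel _ hqc
      · exact hEel _ (hmemr 0)
      · exact hEel _ (hmemr 1)
      · exact hEel _ (hmemr 2)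
    have hptX : ∀ k, IsConj t (pt k) := by
      intro k
      fin_cases k
      · exact IsConj.refl t
      · show IsConj t (el e (τ₁, q))
        rw [hval, val, if_pos (S.B.sq _ hqc), if_neg S.cls_three.1, S.cls_three.2,
          eps_tau]
        exact hbne
      · exact hPr 0
      · exact hPr 1
      · exact hPr 2
    have hptinj : Function.Injective pt := by
      let co : Fin 5 → Z₂ × Perm (Fin m) := ![(τ₁, 1), (τ₁, q), (1, r 0), (1, r 1), (1, r 2)]
      have hco : ∀ k, el e (co k) = pt k := fun k => by fin_cases k <;> first | exact ht | rfl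
      intro k k' h
      rw [← hco, ← hco] at h
      have h' := el_injective e h
      have hq1 : q ≠ 1 := S.cls_three.1
      have hri : ∀ i i' : Fin 3, r i = r i' → i = i' := fun i i' h =>
        hmulI i i' (by rw [h]; exact S.B.sq _ (hmemr i'))
      fin_cases k <;> fin_cases k' <;>
        first
        | rfl
        | exact absurd (congrArg Prod.fst h' : (1 : Z₂) = τ₁) tau_ne
        | exact absurd (congrArg Prod.fst h' : τ₁ = (1 : Z₂)) (Ne.symm tau_ne)
        | exact absurd (congrArg Prod.snd h' : (1 : Perm (Fin m)) = q) (Ne.symm hq1)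
        | exact absurd (congrArg Prod.snd h' : q = (1 : Perm (Fin m))) hq1
        | exact absurd (hri _ _ (congrArg Prod.snd h')) (by decide)
    have hcover : ∀ x ∈ EE S.B e, IsConj t x → ∃ k, pt k = x := by
      intro x hx hX
      obtain ⟨⟨ε, y⟩, hy, rfl⟩ := hEsurj x hx
      rcases hP ε y hy hX with ⟨rfl, rfl⟩ | ⟨rfl, i, rfl⟩ | ⟨-, h, -⟩ | ⟨rfl, -, rfl⟩
      · exact ⟨0, ht.symm⟩
      · fin_cases i
        exacts [⟨2, rfl⟩, ⟨3, rfl⟩, ⟨4, rfl⟩]
      · rw [hbb] at h; exact Bool.noConfusion h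
      · exact ⟨1, rfl⟩
    set N := normalizer (EE S.B e : Set G) with hN
    have hmove : ∀ (g : N) k, ∃ k', pt k' = (g : G) * pt k * (g : G)⁻¹ := fun g k =>
      hcover _ ((Subgroup.mem_normalizer_iff.1 g.2 _).1 (hptE k)) ((hptX k).trans (isConj_iff.2 ⟨g, rfl⟩))
    choose act hact using hmove
    have hperm : ∀ g : N, Function.Bijective (act g) := fun g => Finite.injective_iff_bijective.1 fun k k' h => by
      have h1 := hact g k
      rw [h, hact g k'] at h1
      exact hptinj (mul_left_cancel (mul_right_cancel h1)).symm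
    let φ : N →* Perm (Fin 5) := MonoidHom.mk' (fun g => Equiv.ofBijective _ (hperm g)) fun g g' => by
      refine Equiv.ext fun k => hptinj ?_
      show pt (act (g * g') k) = pt (act g (act g' k))
      rw [hact, hact, hact, Subgroup.coe_mul]
      group
    have hφ : ∀ (g : N) (k : Fin 5), pt (φ g k) = (g : G) * pt k * (g : G)⁻¹ := fun g k => hact g k
    have hC : ∀ s : Perm (Fin m), (∀ l, ∃ l', s * r l * s⁻¹ = r l') → el e (1, s) ∈ N := fun s hs =>
      (normalizer_EE S.B e (e.symm (1, s)).2).2 fun i => by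
        show ∃ j, (e (e.symm (1, s))).2 * r i * ((e (e.symm (1, s))).2)⁻¹ = r j
        rw [e.apply_symm_apply]; exact hs i
    have hconjR : ∀ s (i : Fin 3), el e (1, s) * el e (1, r i) * (el e (1, s))⁻¹ = el e (1, s * r i * s⁻¹) := by
      intro s i
      rw [← el_inv, ← el_mul, ← el_mul]
      simp
    -- transitivity
    set H := φ.range with hH
    have horb : ∀ k, ∃ g : N, φ g 0 = k := by
      obtain ⟨nb, hnb', hnbt⟩ := hnb hbne
      intro k
      suffices h : ∃ g : N, (g : G) * t * (g : G)⁻¹ = pt k by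
        obtain ⟨g, hg⟩ := h
        exact ⟨g, hptinj ((hφ g 0).trans hg)⟩
      have hi : ∀ i, ∃ g : N, (g : G) * t * (g : G)⁻¹ = el e (1, r i) := by
        intro i
        obtain ⟨s, hs, hs'⟩ := S.perm_j i
        refine ⟨⟨el e (1, s) * n, mul_mem (hC s hs') hn⟩, ?_⟩
        show el e (1, s) * n * t * (el e (1, s) * n)⁻¹ = _
        rw [show el e (1, s) * n * t * (el e (1, s) * n)⁻¹ = el e (1, s) * (n * t * n⁻¹) * (el e (1, s))⁻¹ by group,
          hnt, hconjR]
        exact congrArg (fun y => el e (1, y)) hs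
      fin_cases k
      · exact ⟨1, by show (1 : G) * t * (1 : G)⁻¹ = t; simp⟩
      · exact ⟨⟨nb, hnb'⟩, hnbt⟩
      · exact hi 0
      · exact hi 1
      · exact hi 2
    have h5 : Fintype.card (Fin 5) ∣ Fintype.card H := by
      rw [← Nat.card_eq_fintype_card (α := H)]
      have horbit : MulAction.orbit H (0 : Fin 5) = Set.univ := Set.eq_univ_of_forall fun k => by
        obtain ⟨g, hg⟩ := horb k
        exact ⟨⟨φ g, g, rfl⟩, hg⟩
      have h := Nat.card_congr (MulAction.orbitProdStabilizerEquivGroup H (0 : Fin 5))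
      rw [Nat.card_prod, horbit, Nat.card_univ] at h
      rw [← h]; simp
    obtain ⟨s, hs0, hs1, hs2⟩ := S.swap01
    have hsall : ∀ l, ∃ l', s * r l * s⁻¹ = r l' := by
      intro l; fin_cases l
      exacts [⟨1, hs0⟩, ⟨0, hs1⟩, ⟨2, hs2⟩]
    have hswap : φ ⟨_, hC s hsall⟩ = swap 2 3 := by
      refine Equiv.ext fun k => hptinj ?_
      rw [hφ]
      show el e (1, s) * pt k * (el e (1, s))⁻¹ = pt (swap 2 3 k)
      fin_cases k
      · show el e (1, s) * t * (el e (1, s))⁻¹ = t
        rw [(el_commute e (1, s)).eq, mul_inv_cancel_right]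
      · show el e (1, s) * el e (τ₁, q) * (el e (1, s))⁻¹ = el e (τ₁, q)
        rw [← el_inv, ← el_mul, ← el_mul]
        refine congrArg (el e) (Prod.ext (by simp) ?_)
        show s * q * s⁻¹ = q
        have h01 : r 1 * r 0 = r 0 * r 1 :=
          (S.B.self_U.2 (S.B.r_mem 1) _ (S.B.r_mem 0)).eq
        calc s * q * s⁻¹ = (s * r 0 * s⁻¹) * (s * r 1 * s⁻¹) * (s * r 2 * s⁻¹) := by rw [hq]; group
          _ = q := by rw [hs0, hs1, hs2, h01]
      · exact (hconjR s 0).trans (congrArg (fun y => el e (1, y)) hs0)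
      · exact (hconjR s 1).trans (congrArg (fun y => el e (1, y)) hs1)
      · exact (hconjR s 2).trans (congrArg (fun y => el e (1, y)) hs2)
    have htop : H = ⊤ := Equiv.Perm.subgroup_eq_top_of_swap_mem (τ := swap 2 3)
      (by simpa using Nat.prime_five) h5 ⟨_, hswap⟩ ⟨2, 3, by decide, rfl⟩
    have hker : (EE S.B e).subgroupOf N ≤ φ.ker := fun g hg => MonoidHom.mem_ker.2 (Equiv.ext fun k => hptinj (by
      rw [hφ, Equiv.Perm.one_apply]
      have hcomm : (g : G) * pt k = pt k * (g : G) := by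
        have h := (centralizer_EE S.B e h1).ge (hptE k)
        exact h (g : G) hg
      rw [hcomm, mul_inv_cancel_right]))
    refine h64 ?_
    have hc := φ.ker.card_mul_index
    rw [Subgroup.index_ker, ← hH, htop, Subgroup.card_top, Nat.card_perm, Nat.card_fin] at hc
    have h16 : 16 ∣ Nat.card φ.ker := by
      rw [← card_EE S.B e, ← Nat.card_congr (Subgroup.subgroupOfEquivOfLe (Subgroup.le_normalizer (H := EE S.B e))).toEquiv]
      exact Subgroup.card_dvd_of_le hker
    refine Dvd.dvd.trans ?_ (Subgroup.card_subgroup_dvd_card N)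
    rw [← hc]
    exact (show 2 ^ 6 ∣ 16 * Nat.factorial 5 by norm_num [Nat.factorial]).trans (Nat.mul_dvd_mul_right h16 _)

/-- The data of the degree. -/
structure SmallDeg (m : ℕ) where
  D : FrameDeg m
  L : Deg m
  /-- The side of the transpositions. -/
  S1 : Side m
  /-- The side of the triples. -/
  S2 : Side m
  s_idx : supIdx (D.gen 3) = 0 ∧ supIdx D.z = 1 ∧ supIdx (D.z * D.gen 3) = 2 ∧ D.z * D.gen 3 ≠ 1 ∧ D.gen 3 ≠ 1
  side1 : S1.k = 0 ∧ S1.k' = 2 ∧ S1.B.r S1.j = D.gen 3 ∧ S1.B.r 0 * S1.B.r 1 * S1.B.r 2 = D.z * D.gen 3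
  side2 : S2.k = 2 ∧ S2.k' = 0 ∧ S2.B.r S2.j = D.z * D.gen 3 ∧ S2.B.r 0 * S2.B.r 1 * S2.B.r 2 = D.gen 3
  invol : ∀ x, x ∈ W0 m → x * x = 1 → x ∈ cube (S1.B.r 0) (S1.B.r 1) (S1.B.r 2) ∨
    x ∈ cube (S2.B.r 0) (S2.B.r 1) (S2.B.r 2)
  apart : ∀ x ∈ cube (S1.B.r 0) (S1.B.r 1) (S1.B.r 2), ∀ y ∈ cube (S2.B.r 0) (S2.B.r 1) (S2.B.r 2),
    x * y = y * x → x ∈ cube (S2.B.r 0) (S2.B.r 1) (S2.B.r 2) ∨ y ∈ cube (S1.B.r 0) (S1.B.r 1) (S1.B.r 2)
  ne_side : S2.B.r S2.j ≠ S1.B.r S1.j ∧ ¬ ∀ x ∈ cube (S1.B.r 0) (S1.B.r 1) (S1.B.r 2),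
    x ∈ cube (S2.B.r 0) (S2.B.r 1) (S2.B.r 2)
  solve : ∀ b : Fin 2 → Fin 3 → Bool, b 0 1 = false → (∀ i, ((L.L i).filter (val b)).length % 2 = 1) →
    b 1 1 = false ∧ b 0 2 = !(b 0 0) ∧ b 1 2 = !(b 1 0)

/-- `64 ∣ |G|`. -/
theorem small_sylow_deg (D : SmallDeg m) (e : Subgroup.centralizer ({t} : Set G) ≃* Z₂ × Perm (Fin m))
    (ht : t * t = 1) (h1 : t ≠ 1) (hno : ∀ K : Subgroup G, K.index ≠ 2) : 2 ^ 6 ∣ Nat.card G := by
  classical
  haveI : Fact (Nat.Prime 2) := ⟨Nat.prime_two⟩
  by_contra h64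
  set B := D.D.base
  have helt : el e (τ₁, 1) = t := by rw [← apply_t B e h1, el, e.symm_apply_apply]
  have hmul2 : ∀ p, IsConj t (el e p) → p.2 * p.2 = 1 := by
    intro p hp
    obtain ⟨g, hg⟩ := isConj_iff.1 hp
    have : el e (p * p) = el e 1 := by
      rw [el_mul, ← hg, el_one, show g * t * g⁻¹ * (g * t * g⁻¹) = g * (t * t) * g⁻¹ by group, ht]
      simp
    exact congrArg Prod.snd (el_injective e this)
  have hconj : ∀ (a : Z₂) (x y : Perm (Fin m)), IsConj x y → IsConj t (el e (a, x)) → IsConj t (el e (a, y)) := by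
    intro a x y hxy hp
    obtain ⟨g, rfl⟩ := isConj_iff.1 hxy
    refine hp.trans (isConj_iff.2 ⟨el e (1, g), ?_⟩)
    rw [← el_inv, ← el_mul, ← el_mul]
    simp
  let rep : Fin 3 → Perm (Fin m) := ![D.D.gen 3, D.D.z, D.D.z * D.D.gen 3]
  let b : Fin 2 → Fin 3 → Bool := fun i k => decide (IsConj t (el e (if i = 0 then 1 else τ₁, rep k)))
  obtain ⟨hs0, hs1, hs2, hs3, hs4⟩ := D.s_idx
  have hzF : D.D.z ∈ D.D.F := by simp [FrameDeg.F]
  have hsF : D.D.gen 3 ∈ D.D.F := by simp [FrameDeg.F]
  have hzsF : D.D.z * D.D.gen 3 ∈ D.D.F := by simp [FrameDeg.F]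
  have hz1 : D.D.z ≠ 1 := D.D.z_ne.1
  have hrep : ∀ k, rep k ∈ D.D.F ∧ rep k ≠ 1 ∧ supIdx (rep k) = k := by
    intro k; fin_cases k
    exacts [⟨hsF, hs4, hs0⟩, ⟨hzF, hz1, hs1⟩, ⟨hzsF, hs3, hs2⟩]
  have hval : ∀ p, IsConj t (el e p) ↔ val b p = true := by
    rintro ⟨a, x⟩
    by_cases hx2 : x * x = 1
    · by_cases hx : x = 1
      · subst hx
        rcases z2_cases a with rfl | rfl
        · refine ⟨fun h => absurd ?_ h1, fun h => by simp [val] at h⟩
          obtain ⟨g, hg⟩ := isConj_iff.1 h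
          change g * t * g⁻¹ = el e 1 at hg
          rw [el_one] at hg
          exact mul_left_cancel (mul_right_cancel (by rw [hg]; simp : g * t * g⁻¹ = g * 1 * g⁻¹))
        · refine ⟨fun _ => by simp [val], fun _ => ?_⟩
          rw [helt]
      · obtain ⟨hF, hr1, hri⟩ := hrep (supIdx x)
        have hiso : IsConj x (rep (supIdx x)) :=
          isConj_of_supIdx D.L.le hx2 (D.D.F_sq hF) hx hr1 hri.symm
        rw [val, if_pos hx2, if_neg hx, decide_eq_true_iff,
          eps_back a]
        exact ⟨hconj a _ _ hiso, hconj a _ _ hiso.symm⟩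
    · simp only [val, if_neg hx2, Bool.false_eq_true, iff_false]
      exact fun h => hx2 (hmul2 _ h)
  have hb01 : b 0 1 = false := by
    rw [decide_eq_false_iff_not]
    show ¬ IsConj t (el e (1, D.D.z))
    have hzsq : el e (1, D.D.z) = el e (1, D.D.gen 0 * D.D.gen 2) * el e (1, D.D.gen 0 * D.D.gen 2) := by
      rw [← el_mul]
      congr 1
      refine Prod.ext (one_mul 1).symm ?_
      show D.D.z = D.D.gen 0 * D.D.gen 2 * (D.D.gen 0 * D.D.gen 2)
      rw [FrameDeg.z, ← D.D.gen_comm]
      simp only [mul_assoc]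
    rw [hzsq]
    exact not_conj_sq D.D e h1 _
  -- the order of the centralizer
  obtain ⟨o, ho⟩ := (pow_dvd_card B e 5).2 le_rfl
  have hodd : ¬ 2 ∣ o := fun ⟨u, hu⟩ => by
    have := (pow_dvd_card B e 6).1 ⟨u, by rw [ho, hu]; ring⟩
    omega
  obtain ⟨u, hu⟩ : 2 ^ 5 ∣ Nat.card G :=
    ((pow_dvd_card B e 5).2 le_rfl).trans (Subgroup.card_subgroup_dvd_card (Subgroup.centralizer ({t} : Set G)))
  have huodd : ¬ 2 ∣ u := fun ⟨w, hw⟩ => h64 ⟨w, by rw [hu, hw]; ring⟩
  have hcount : ∀ i, ((D.L.L i).filter (val b)).length % 2 = 1 := by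
    intro i
    set H0 := listSub (D.L.L i) (D.L.one i) (D.L.mul i) (D.L.inv i) with hH0
    set H : Subgroup G := lift e H0 with hH
    have hcH : Nat.card H = 16 := by
      rw [hH, lift, Subgroup.card_map_of_injective (Subgroup.subtype_injective _),
        Nat.card_congr ((e.subgroupMap (H0.comap e.toMonoidHom)).toEquiv)]
      change Nat.card ↥((H0.comap e.toMonoidHom).map e.toMonoidHom) = 16
      rw [Subgroup.map_comap_eq_self_of_surjective e.surjective, card_listSub (D.L.nodup i), D.L.len]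
    have hidx : H.index = 2 * u := by
      have h := H.card_mul_index
      rw [hcH, hu] at h
      omega
    have hX : Nat.card {x : G // x ∈ H ∧ IsConj t x} = ((D.L.L i).filter (val b)).length := by
      rw [← List.toFinset_card_of_nodup ((D.L.nodup i).filter _), ← Nat.card_eq_finsetCard]
      let g : ↥((D.L.L i).filter (val b)).toFinset → {x : G // x ∈ H ∧ IsConj t x} := fun p =>
        ⟨el e p.1, (mem_lift e).2 ⟨p.1, (List.mem_filter.1 (List.mem_toFinset.1 p.2)).1, rfl⟩,
          (hval _).2 (List.mem_filter.1 (List.mem_toFinset.1 p.2)).2⟩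
      refine (Nat.card_congr (Equiv.ofBijective g ⟨?_, ?_⟩)).symm
      · intro p p' h
        have h0 : el e p.1 = el e p'.1 := congrArg (fun x : {x : G // x ∈ H ∧ IsConj t x} => x.1) h
        exact Subtype.ext (el_injective e h0)
      · rintro ⟨x, hxH, hxX⟩
        obtain ⟨p, hp, rfl⟩ := (mem_lift e).1 hxH
        exact ⟨⟨p, List.mem_toFinset.2 (List.mem_filter.2 ⟨hp, (hval _).1 hxX⟩)⟩, rfl⟩
    have hfm := card_fixed_mul (t := t) H
    rw [hX, hcH, ho] at hfm
    have h4 := fixed_mod_four ht hno H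
    rw [hidx] at h4
    have h4' : (2 * (((D.L.L i).filter (val b)).length * o)) % 4 = (2 * u) % 4 := by
      rw [← h4]
      congr 1
      have : 16 * (2 * (((D.L.L i).filter (val b)).length * o)) = 16 * Nat.card (fixedBy (G ⧸ H) t) := by
        linarith
      omega
    by_contra hne
    have hev : 2 ∣ ((D.L.L i).filter (val b)).length * o := dvd_mul_of_dvd_left (by omega) _
    omega
  obtain ⟨hb11, hb02, hb12⟩ := D.solve b hb01 hcount
  -- T is a Sylow subgroup of G and of every centralizer above it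
  have hTmax : ∀ P : Subgroup G, IsPGroup 2 P → TT e ≤ P → P = TT e := by
    intro P hP hle
    obtain ⟨k, hk⟩ := IsPGroup.iff_card.mp hP
    have hk5 : k ≤ 5 := by
      by_contra hlt
      exact h64 ((pow_dvd_pow 2 (by omega : 6 ≤ k)).trans (hk ▸ Subgroup.card_subgroup_dvd_card P))
    refine (Subgroup.eq_of_le_of_card_ge hle ?_).symm
    rw [hk, card_TT D.D e, show (32 : ℕ) = 2 ^ 5 by norm_num]
    exact Nat.pow_le_pow_right (by norm_num) hk5
  have hsyl : ∀ p : Z₂ × Perm (Fin m), p.2 ∈ D.D.F → IsConj t (el e p) →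
      ∃ n ∈ normalizer (TT e : Set G), n * t * n⁻¹ = el e p := by
    intro p hpF hpX
    obtain ⟨g, hg⟩ := isConj_iff.1 hpX
    set A := Subgroup.centralizer ({el e p} : Set G) with hA
    have hTA : TT e ≤ A := by
      intro x hx
      obtain ⟨w, hw, rfl⟩ := (mem_TT e).1 hx
      refine Subgroup.mem_centralizer_singleton_iff.2 ?_
      rw [← el_mul, ← el_mul]
      exact congrArg (el e) (Prod.ext (mul_comm _ _) ((D.D.mem_F.1 hpF).2 _ hw).symm)
    set T' : Subgroup G := (TT e).map (MulAut.conj g).toMonoidHom with hT'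
    have hT'A : T' ≤ A := by
      rintro _ ⟨x, hx, rfl⟩
      refine Subgroup.mem_centralizer_singleton_iff.2 ?_
      show g * x * g⁻¹ * el e p = el e p * (g * x * g⁻¹)
      rw [← hg]
      have h := Subgroup.mem_centralizer_singleton_iff.1 (TT_le e hx)
      calc g * x * g⁻¹ * (g * t * g⁻¹) = g * (x * t) * g⁻¹ := by group
        _ = _ := by rw [h]; group
    have h1' : IsPGroup 2 ((TT e).subgroupOf A) :=
      (TT_two D.D).of_equiv (Subgroup.subgroupOfEquivOfLe hTA).symm
    have h2' : IsPGroup 2 (T'.subgroupOf A) :=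
      ((TT_two D.D).map (MulAut.conj g).toMonoidHom).of_equiv (Subgroup.subgroupOfEquivOfLe hT'A).symm
    obtain ⟨P, hP⟩ := h1'.exists_le_sylow
    obtain ⟨P', hP'⟩ := h2'.exists_le_sylow
    have hPT : (P : Subgroup A).map A.subtype = TT e :=
      hTmax _ (P.2.map _) fun x hx => ⟨⟨x, hTA hx⟩, hP hx, rfl⟩
    obtain ⟨c, hc⟩ := MulAction.exists_smul_eq A P' P
    refine ⟨(c : G) * g, ?_, ?_⟩
    · have hle : (TT e).map (MulAut.conj ((c : G) * g)).toMonoidHom ≤ TT e := by
        rintro _ ⟨y, hy, rfl⟩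
        have hy' : g * y * g⁻¹ ∈ T' := ⟨y, hy, rfl⟩
        show (c : G) * g * y * ((c : G) * g)⁻¹ ∈ TT e
        refine hPT.le ?_
        refine ⟨c * ⟨g * y * g⁻¹, hT'A hy'⟩ * c⁻¹, ?_, ?_⟩
        · rw [← hc]; exact ⟨⟨g * y * g⁻¹, hT'A hy'⟩, hP' hy', rfl⟩
        · show (c : G) * (g * y * g⁻¹) * (c : G)⁻¹ = (c : G) * g * y * ((c : G) * g)⁻¹
          group
      have heq : (TT e).map (MulAut.conj ((c : G) * g)).toMonoidHom = TT e :=
        Subgroup.eq_of_le_of_card_ge hle
          (by rw [Subgroup.card_map_of_injective (MulAut.conj ((c : G) * g)).injective])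
      refine Subgroup.mem_normalizer_iff.2 fun y => ⟨fun hy => hle ⟨y, hy, rfl⟩, fun hy => ?_⟩
      obtain ⟨y', hy', e'⟩ := heq.ge hy
      rw [← (MulAut.conj ((c : G) * g)).injective e']
      exact hy'
    · have h := Subgroup.mem_centralizer_singleton_iff.1 c.2
      calc (c : G) * g * t * ((c : G) * g)⁻¹ = (c : G) * (g * t * g⁻¹) * (c : G)⁻¹ := by group
        _ = el e p := by rw [hg, h, mul_inv_cancel_right]
  -- N(T) normalizes both elementary subgroups
  have hET : ∀ S : Side m, EE S.B e ≤ TT e := fun S x hx => by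
    obtain ⟨h, hU⟩ := (mem_EE S.B e).1 hx
    exact (mem_TT e).2 ⟨e ⟨x, h⟩, S.le_W _ hU, by rw [el, e.symm_apply_apply]⟩
  have hTN : ∀ S : Side m, TT e ≤ normalizer (EE S.B e : Set G) := fun S x hx => by
    obtain ⟨p, hp, rfl⟩ := (mem_TT e).1 hx
    refine (normalizer_EE S.B e (e.symm p).2).2 fun i => ?_
    show ∃ i', (e (e.symm p)).2 * S.B.r i * ((e (e.symm p)).2)⁻¹ = S.B.r i'
    rw [e.apply_symm_apply]
    exact S.normal _ hp i
  have hne12 : EE D.S1.B e ≠ EE D.S2.B e := fun h => D.ne_side.2 fun x hx => by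
    have hxE : el e (1, x) ∈ EE D.S1.B e := (mem_EE _ e).2 ⟨(e.symm (1, x)).2, by
      show (e (e.symm (1, x))).2 ∈ D.S1.B.U
      rw [e.apply_symm_apply]; exact hx⟩
    rw [h] at hxE
    obtain ⟨h', hU⟩ := (mem_EE _ e).1 hxE
    change (e (e.symm (1, x))).2 ∈ D.S2.B.U at hU
    rw [e.apply_symm_apply] at hU
    exact hU
  have htwo : ∀ E' : Subgroup G, E' ≤ TT e → Nat.card E' = 16 → (∀ x ∈ E', x * x = 1) →
      E' = EE D.S1.B e ∨ E' = EE D.S2.B e := by
    intro E' hle hcard hsq
    have hmem : ∀ S : Side m, ∀ x ∈ E', ∀ hx : x ∈ (Subgroup.centralizer ({t} : Set G)), (e ⟨x, hx⟩).2 ∈ cube (S.B.r 0) (S.B.r 1) (S.B.r 2) →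
        x ∈ EE S.B e := fun S x _ hx h => (mem_EE S.B e).2 ⟨hx, h⟩
    have hunion : ∀ x ∈ E', x ∈ EE D.S1.B e ∨ x ∈ EE D.S2.B e := by
      intro x hx
      obtain ⟨p, hp, hpx⟩ := (mem_TT e).1 (hle hx)
      have hxC : x ∈ (Subgroup.centralizer ({t} : Set G)) := TT_le e (hle hx)
      have hp' : e ⟨x, hxC⟩ = p := by
        rw [← e.apply_symm_apply p]; exact congrArg e (Subtype.ext hpx.symm)
      have hp2 : p.2 * p.2 = 1 := by
        have : el e (p * p) = el e 1 := by rw [el_mul, hpx, el_one, hsq x hx]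
        exact congrArg Prod.snd (el_injective e this)
      rcases D.invol _ hp hp2 with h | h
      · exact Or.inl (hmem _ x hx hxC (hp'.symm ▸ h))
      · exact Or.inr (hmem _ x hx hxC (hp'.symm ▸ h))
    have hfin : ∀ S : Side m, (∀ x ∈ E', x ∈ EE S.B e) → E' = EE S.B e := fun S h =>
      Subgroup.eq_of_le_of_card_ge h (by rw [card_EE, hcard])
    by_cases hA : ∀ x ∈ E', x ∈ EE D.S1.B e
    · exact Or.inl (hfin _ hA)
    refine Or.inr (hfin _ fun x hx => ?_)
    push Not at hA
    obtain ⟨y, hy, hy1⟩ := hA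
    have hy2 := (hunion y hy).resolve_left hy1
    rcases hunion x hx with hx1 | hx2
    swap
    · exact hx2
    obtain ⟨hxC, hxU⟩ := (mem_EE _ e).1 hx1
    obtain ⟨hyC, hyU⟩ := (mem_EE _ e).1 hy2
    have hcomm : x * y = y * x := by
      have h := hsq _ (mul_mem hx hy)
      calc x * y = (x * y)⁻¹ := (inv_eq_of_mul_eq_one_right h).symm
        _ = y * x := by
          rw [mul_inv_rev, inv_eq_of_mul_eq_one_right (hsq x hx), inv_eq_of_mul_eq_one_right (hsq y hy)]
    have hc' : (e ⟨x, hxC⟩).2 * (e ⟨y, hyC⟩).2 = (e ⟨y, hyC⟩).2 * (e ⟨x, hxC⟩).2 := by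
      rw [← Prod.snd_mul, ← Prod.snd_mul, ← map_mul, ← map_mul]
      exact congrArg (fun w => (e w).2) (Subtype.ext hcomm)
    rcases D.apart _ hxU _ hyU hc' with h | h
    · exact hmem _ x hx hxC h
    · exact absurd (hmem _ y hy hyC h) hy1
  set N := normalizer (TT e : Set G) with hN
  have himg : ∀ n ∈ N, ∀ S : Side m, (EE S.B e).map (MulAut.conj n).toMonoidHom = EE D.S1.B e ∨
      (EE S.B e).map (MulAut.conj n).toMonoidHom = EE D.S2.B e := fun n hn S => by
    refine htwo _ ?_ ?_ ?_
    · rintro _ ⟨x, hx, rfl⟩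
      exact (Subgroup.mem_normalizer_iff.1 hn x).1 (hET S hx)
    · rw [Subgroup.card_map_of_injective (MulAut.conj n).injective, card_EE]
    · rintro _ ⟨x, hx, rfl⟩
      rw [← map_mul, sq_EE S.B e hx, map_one]
  have hoddN : ∀ n ∈ N, ∃ k, n ^ (2 * k + 1) ∈ TT e := by
    intro n hn
    haveI : ((TT e).subgroupOf N).Normal := inferInstance
    set d := ((TT e).subgroupOf N).index with hd
    have hmemd : n ^ d ∈ TT e := by
      have h : ((⟨n, hn⟩ : N) : N ⧸ (TT e).subgroupOf N) ^ d = 1 := pow_card_eq_one'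
      rw [← QuotientGroup.mk_pow, QuotientGroup.eq_one_iff] at h
      exact h
    have hdodd : ¬ 2 ∣ d := fun ⟨w, hw⟩ => h64 (by
      refine Dvd.dvd.trans ⟨w, ?_⟩ (Subgroup.card_subgroup_dvd_card N)
      rw [← ((TT e).subgroupOf N).card_mul_index, ← hd, hw,
        Nat.card_congr (Subgroup.subgroupOfEquivOfLe (Subgroup.le_normalizer (H := TT e))).toEquiv, card_TT D.D e]
      ring)
    exact ⟨d / 2, by rwa [show 2 * (d / 2) + 1 = d by omega]⟩
  have hfixE : ∀ n ∈ N, ∀ S : Side m, (S = D.S1 ∨ S = D.S2) → n ∈ normalizer (EE S.B e : Set G) := by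
    intro n hn S hS
    obtain ⟨k, hk⟩ := hoddN n hn
    have hm : ∀ g : G, ∀ E' : Subgroup G, E'.map (MulAut.conj g).toMonoidHom = E' →
        g ∈ normalizer (E' : Set G) := by
      intro g E' h
      refine Subgroup.mem_normalizer_iff.2 fun y => ⟨fun hy => h.le ⟨y, hy, rfl⟩, fun hy => ?_⟩
      obtain ⟨y', hy', e'⟩ := h.ge hy
      rw [← (MulAut.conj g).injective e']
      exact hy'
    have hm2 : ∀ g g' : G, ∀ E' : Subgroup G, (E'.map (MulAut.conj g').toMonoidHom).map (MulAut.conj g).toMonoidHom =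
        E'.map (MulAut.conj (g * g')).toMonoidHom := by
      intro g g' E'
      rw [Subgroup.map_map]
      congr 1
      ext y
      simp [mul_assoc]
    have hinjm : ∀ g : G, Function.Injective fun E' : Subgroup G => E'.map (MulAut.conj g).toMonoidHom :=
      fun g => Subgroup.map_injective (MulAut.conj g).injective
    have hsqn : n * n ∈ normalizer (EE S.B e : Set G) := by
      refine hm _ _ ?_
      rw [← hm2]
      rcases himg n hn D.S1 with a | a <;> rcases himg n hn D.S2 with c | c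
      · exact absurd (hinjm n (a.trans c.symm)) hne12
      · rcases hS with rfl | rfl <;> simp only [a, c]
      · rcases hS with rfl | rfl <;> simp only [a, c]
      · exact absurd (hinjm n (a.trans c.symm)) hne12
    have h2k : (n * n) ^ k ∈ normalizer (EE S.B e : Set G) := pow_mem hsqn k
    have hall : (n * n) ^ k * n ∈ normalizer (EE S.B e : Set G) := by
      rw [← pow_two, ← pow_mul, ← pow_succ]
      exact hTN S hk
    simpa using mul_mem (inv_mem h2k) hall
  -- conclude on the side of the transpositions or of the triples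
  have finish : ∀ S : Side m, (S = D.S1 ∨ S = D.S2) → S.B.r S.j ∈ D.D.F →
      S.B.r 0 * S.B.r 1 * S.B.r 2 ∈ D.D.F →
      b 0 S.k = true → b 0 S.k' = false → b 1 S.k' = !(b 1 S.k) → False := by
    intro S hS hjF hqF hk hk' hne
    refine side_false S e h1 h64 b hval ⟨hk, hk', hb01, hb11, hne⟩ ?_ fun hbk' => ?_
    · obtain ⟨n, hn, hnt⟩ := hsyl (1, S.B.r S.j) hjF ((hval _).2 (by
        have hj1 : S.B.r S.j ≠ 1 := r_ne_one S.B _
        rw [val, if_pos (S.B.sq _ (S.B.r_mem S.j)), if_neg hj1, S.cls,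
          eps_one]
        exact hk))
      exact ⟨n, hfixE n hn S hS, hnt⟩
    · obtain ⟨n, hn, hnt⟩ := hsyl (τ₁, S.B.r 0 * S.B.r 1 * S.B.r 2) hqF ((hval _).2 (by
        rw [val, if_pos (D.D.F_sq hqF), if_neg S.cls_three.1, S.cls_three.2,
          eps_tau]
        exact hbk'))
      exact ⟨n, hfixE n hn S hS, hnt⟩
  obtain ⟨a1, a2, a3, a4⟩ := D.side1
  obtain ⟨c1, c2, c3, c4⟩ := D.side2
  cases h00 : b 0 0
  · refine finish D.S2 (Or.inr rfl) (c3 ▸ hzsF) (c4 ▸ hsF) ?_ ?_ ?_
    · rw [c1, hb02, h00]; rfl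
    · rw [c2, h00]
    · rw [c1, c2, hb12]; cases b 1 0 <;> rfl
  · refine finish D.S1 (Or.inl rfl) (a3 ▸ hsF) (a4 ▸ hzsF) ?_ ?_ ?_
    · rw [a1, h00]
    · rw [a2, hb02, h00]; rfl
    · rw [a1, a2, hb12]

/-- The triples, degree six. -/
def qSix : Fin 3 → Perm (Fin 6) :=
  ![swap 0 1 * swap 2 3 * swap 4 5, swap 0 2 * swap 1 3 * swap 4 5, swap 0 3 * swap 1 2 * swap 4 5]

/-- The triples, degree seven. -/
def qSeven : Fin 3 → Perm (Fin 7) :=
  ![swap 0 1 * swap 2 3 * swap 4 5, swap 0 2 * swap 1 3 * swap 4 5, swap 0 3 * swap 1 2 * swap 4 5]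

set_option maxHeartbeats 4000000 in
/-- The triples, degree six. -/
def baseSixQ : Base (Perm (Fin 6)) where
  r := qSix
  central x _ h := baseSix.center_eq h
  mul := by decide +kernel
  sq := by decide +kernel
  nodup := by decide +kernel
  self := by
    have key : ∀ x : Perm (Fin 6), (∀ i, x * qSix i = qSix i * x) → x ∈ cube (qSix 0) (qSix 1) (qSix 2) := by
      decide +kernel
    exact fun x h => key x fun i => (h i).eq
  perm := by decide +kernel
  sixteen := baseSix.sixteen

set_option maxHeartbeats 4000000 in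
/-- The triples, degree seven. -/
def baseSevenQ : Base (Perm (Fin 7)) where
  r := qSeven
  central x _ h := baseSeven.center_eq h
  mul := by decide +kernel
  sq := by decide +kernel
  nodup := by decide +kernel
  self := by
    have key : ∀ x : Perm (Fin 7), (∀ i, x * qSeven i = qSeven i * x) →
        x ∈ cube (qSeven 0) (qSeven 1) (qSeven 2) := by decide +kernel
    exact fun x h => key x fun i => (h i).eq
  perm := by decide +kernel
  sixteen := baseSeven.sixteen

set_option maxHeartbeats 4000000 in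
/-- Degree six. -/
def smallSix : SmallDeg 6 where
  D := frameSix
  L := degSix
  S1 :=
    { B := baseSix, k := 0, k' := 2, j := 2
      k_ne := by decide
      cls := by decide +kernel
      cls_two := by decide +kernel
      cls_three := by decide +kernel
      perm_j := by decide +kernel
      swap01 := ⟨swap 0 2 * swap 1 3, by decide +kernel⟩
      le_W := by decide +kernel
      normal := by decide +kernel
      j_central := by decide +kernel }
  S2 :=
    { B := baseSixQ, k := 2, k' := 0, j := 0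
      k_ne := by decide
      cls := by decide +kernel
      cls_two := by decide +kernel
      cls_three := by decide +kernel
      perm_j := by decide +kernel
      swap01 := ⟨swap 1 2, by decide +kernel⟩
      le_W := by decide +kernel
      normal := by decide +kernel
      j_central := by decide +kernel }
  s_idx := by decide +kernel
  side1 := by decide +kernel
  side2 := by decide +kernel
  invol := by decide +kernel
  apart := by decide +kernel
  ne_side := by decide +kernel
  solve := by decide +kernel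

set_option maxHeartbeats 4000000 in
/-- Degree seven. -/
def smallSeven : SmallDeg 7 where
  D := frameSeven
  L := degSeven
  S1 :=
    { B := baseSeven, k := 0, k' := 2, j := 2
      k_ne := by decide
      cls := by decide +kernel
      cls_two := by decide +kernel
      cls_three := by decide +kernel
      perm_j := by decide +kernel
      swap01 := ⟨swap 0 2 * swap 1 3, by decide +kernel⟩
      le_W := by decide +kernel
      normal := by decide +kernel
      j_central := by decide +kernel }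
  S2 :=
    { B := baseSevenQ, k := 2, k' := 0, j := 0
      k_ne := by decide
      cls := by decide +kernel
      cls_two := by decide +kernel
      cls_three := by decide +kernel
      perm_j := by decide +kernel
      swap01 := ⟨swap 1 2, by decide +kernel⟩
      le_W := by decide +kernel
      normal := by decide +kernel
      j_central := by decide +kernel }
  s_idx := by decide +kernel
  side1 := by decide +kernel
  side2 := by decide +kernel
  invol := by decide +kernel
  apart := by decide +kernel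
  ne_side := by decide +kernel
  solve := by decide +kernel

/-- No index two forces `64 ∣ |G|`, degree six. -/
theorem small_sylow_six (e : Subgroup.centralizer ({t} : Set G) ≃* Z₂ × Perm (Fin 6)) (ht : t * t = 1)
    (h1 : t ≠ 1) (hno : ∀ K : Subgroup G, K.index ≠ 2) : 2 ^ 6 ∣ Nat.card G :=
  small_sylow_deg smallSix e ht h1 hno

/-- No index two forces `64 ∣ |G|`, degree seven. -/
theorem small_sylow_seven (e : Subgroup.centralizer ({t} : Set G) ≃* Z₂ × Perm (Fin 7)) (ht : t * t = 1)
    (h1 : t ≠ 1) (hno : ∀ K : Subgroup G, K.index ≠ 2) : 2 ^ 6 ∣ Nat.card G :=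
  small_sylow_deg smallSeven e ht h1 hno

end Cfsg.Lib.Extra.InvS6
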